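import Cfsg.Agent.H336.SpSix.Def_m3
import Cfsg.Agent.SigZeroCo2.Lin
import Cfsg.Agent.CoOneType.CoOneE
import Mathlib
import Cfsg.Agent.H785.SpE7End_m3
import Cfsg.Agent.MonsterX.ThOneClass
import Cfsg.Agent.H603.SporElim
import Cfsg.Agent.Lib.ClassTwoDuality
import Cfsg.Agent.H832.ThreeProd
import Cfsg.Agent.H833.AutFinal
import Cfsg.Agent.H830.Con22
import Cfsg.Agent.OddHalf.D4.Spor.Fi22
import Cfsg.Agent.OddHalf.D6.Cut_m3
import Cfsg.Agent.H131.ClassTwo
import Cfsg.Agent.LieClassical.HermBasic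
import Cfsg.Agent.LieClassical.OmegaReindex
import Cfsg.Agent.LieClassical.OrthCenter
import Cfsg.Agent.ClassicalGeometry.OmegaIndex
import Cfsg.Prelude.Def_LieTypeChar
import Cfsg.Agent.SignalizersComponents.SLQuasisimple
import Cfsg.Agent.H446.TopBound
import Cfsg.Agent.SignalizersComponents.PConstrained
import Cfsg.Agent.S0205
import Cfsg.Agent.Lib.NormalAbelian
import Mathlib.GroupTheory.Transfer
import Cfsg.Agent.S0765
import Cfsg.Prelude.Def_CaseTheorems
import Cfsg.Prelude.Def_TwoFusion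
import Cfsg.Prelude.Def_Transfer
import Cfsg.Agent.Lib.Cores
import Cfsg.Agent.LieClassical.HermSimple
import Cfsg.Agent.H349.Transv
import Cfsg.Agent.H339.TwFNo
import Cfsg.Agent.S1163
import Cfsg.Agent.H351.SpSix.Rep
import Cfsg.Agent.H351.SpSix.RankE8_m3
import Cfsg.Prelude.Def_LieChev
import Cfsg.Prelude.Def_LieTwisted
import Cfsg.Prelude.Def_Classification2
import Cfsg.Agent.BiChar.SmallCard
import Cfsg.Agent.FastGrp
import Cfsg.Agent.Prune
set_option linter.all false

section
prune_inst 0x7ffcb8fb2bf82ddfdfff7e77a6d0cffc39901fffa6dff94bffe069ff0b9f030209c563a109e010fe1eb6c21410a87843fb7ecabfea6bdc7ffffd5ff41ffbee0ff5f6b508519488340fbc0ff603f0778e7f3fffffffffffffffffffffffffffbeffbfffffffff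

-- part: H265/SpSix/Row_mg
section
prune_inst 0x46008400922020000008502c0001c4282000000000800000020040404800c420900c060bc000004000000040038004812000000000000000000040001010080108010040000010022008e000080000000000000000000000000000000000000000000000
set_option linter.all false
open scoped Cfsg.Agent.FastGrp

-- part: H265/SpSix/Lin
section
/-!
# Symplectic elementary abelian groups of order 64 in linear groups of small degree

* `Pr s` : `s : V → End W` is a projective system of commuting involutions;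
* `Mv s g` : some invertible linear map carries `s v` to `± s (g v)`;
* `Pr.scalar` : if all isometries are realised and `dim W < 28` then all `s v` are scalars `± 1`;
* `Sit.proj` : `Sit th O K0` in a group `K`, `π : Kt → K` onto, `ρ` a representation of `Kt` of degree less than 28
  in which the kernel of `π` acts by `± 1`: then the preimages of the elements `th v` act as `± 1`;
* `Sit.lin` : a representation of `K` of degree less than 63 over a field of characteristic not 2 is trivial on `A`.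
-/

set_option autoImplicit false

namespace Cfsg.Agent.H265.SpSix

open Cfsg.Agent.H336.SpSix Module

variable {F W : Type*} [Field F] [AddCommGroup W] [Module F W]

/-! ### involutions are diagonalisable -/

theorem maxGen_eq (h2 : (2 : F) ≠ 0) {f : Module.End F W} (h : f * f = 1) (μ : F) :
    f.maxGenEigenspace μ = f.eigenspace μ := by
  refine Module.End.IsFinitelySemisimple.maxGenEigenspace_eq_eigenspace ?_ μ
  refine Module.End.IsSemisimple.isFinitelySemisimple ?_
  refine Module.End.isSemisimple_of_squarefree_aeval_eq_zero (p := Polynomial.X ^ 2 - 1) ?_ ?_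
  · refine Polynomial.Separable.squarefree ?_
    exact (Polynomial.X_pow_sub_one_separable_iff).2 (by exact_mod_cast h2)
  · simp [pow_two, h]

theorem iSup_eigen (h2 : (2 : F) ≠ 0) {f : Module.End F W} (h : f * f = 1) :
    ⨆ μ, f.eigenspace μ = ⊤ := by
  rw [eq_top_iff]
  intro x _
  have hff : f (f x) = x := by
    have := congrArg (fun g : Module.End F W => g x) h
    simpa using this
  have hx : x = (2 : F)⁻¹ • (x + f x) + (2 : F)⁻¹ • (x - f x) := by
    rw [← smul_add, add_add_sub_cancel, ← two_smul F x, smul_smul, inv_mul_cancel₀ h2, one_smul]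
  rw [hx]
  refine Submodule.add_mem _ ?_ ?_
  · refine Submodule.smul_mem _ _ ((le_iSup (fun μ => f.eigenspace μ) 1) ?_)
    rw [Module.End.mem_eigenspace_iff, map_add, hff, one_smul, add_comm]
  · refine Submodule.smul_mem _ _ ((le_iSup (fun μ => f.eigenspace μ) (-1)) ?_)
    rw [Module.End.mem_eigenspace_iff, map_sub, hff, neg_smul, one_smul, neg_sub]

/-- the joint eigenspace -/
def wt {ι : Type*} (s : ι → Module.End F W) (χ : ι → F) : Submodule F W := ⨅ i, (s i).eigenspace (χ i)

theorem mem_wt {ι : Type*} {s : ι → Module.End F W} {χ : ι → F} {w : W} :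
    w ∈ wt s χ ↔ ∀ i, s i w = χ i • w := by
  rw [wt, Submodule.mem_iInf]
  exact forall_congr' fun i => Module.End.mem_eigenspace_iff

theorem wt_indep {ι : Type*} (h2 : (2 : F) ≠ 0) {s : ι → Module.End F W} (h : ∀ i, s i * s i = 1)
    (hc : ∀ i j, s i * s j = s j * s i) : iSupIndep fun χ : ι → F => wt s χ := by
  have h1 := Module.End.independent_iInf_maxGenEigenspace_of_forall_mapsTo (f := s)
    (fun i j φ => Module.End.mapsTo_maxGenEigenspace_of_comm (hc j i) φ)
  simp only [maxGen_eq h2 (h _)] at h1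
  exact h1

theorem wt_top {ι : Type*} (h2 : (2 : F) ≠ 0) [FiniteDimensional F W] {s : ι → Module.End F W}
    (h : ∀ i, s i * s i = 1) (hc : ∀ i j, s i * s j = s j * s i) : ⨆ χ : ι → F, wt s χ = ⊤ := by
  have h1 := Module.End.iSup_iInf_maxGenEigenspace_eq_top_of_forall_mapsTo (f := s)
    (fun i j φ => Module.End.mapsTo_maxGenEigenspace_of_comm (hc j i) φ) (fun i => by
      simp only [maxGen_eq h2 (h _)]
      exact iSup_eigen h2 (h i))
  simp only [maxGen_eq h2 (h _)] at h1
  exact h1

/-! ### signs -/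

/-- the sign of an element of the field of order two -/
def sg (F : Type*) [Field F] (c : ZMod 2) : F := if c = 0 then 1 else -1

theorem sg_zero : sg F 0 = 1 := if_pos rfl

theorem sg_one : sg F 1 = -1 := if_neg (by decide)

theorem sg_add (a b : ZMod 2) : sg F (a + b) = sg F a * sg F b := by
  rcases z2 a with rfl | rfl <;> rcases z2 b with rfl | rfl
  · rw [add_zero, sg_zero, one_mul]
  · rw [zero_add, sg_zero, one_mul]
  · rw [add_zero, sg_zero, mul_one]
  · rw [z2_add_self, sg_zero, sg_one]; ring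

theorem sg_ne (h2 : (2 : F) ≠ 0) : (1 : F) ≠ -1 := fun h => h2 (by
  have : (2 : F) = 1 + 1 := by norm_num
  rw [this]; nth_rewrite 2 [h]; ring)

theorem sg_inj (h2 : (2 : F) ≠ 0) {a b : ZMod 2} (h : sg F a = sg F b) : a = b := by
  rcases z2 a with rfl | rfl <;> rcases z2 b with rfl | rfl
  · rfl
  · rw [sg_zero, sg_one] at h; exact absurd h (sg_ne h2)
  · rw [sg_zero, sg_one] at h; exact absurd h.symm (sg_ne h2)
  · rfl

theorem exists_sg {x : F} (h : x = 1 ∨ x = -1) : ∃ c, x = sg F c := by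
  rcases h with rfl | rfl
  · exact ⟨0, sg_zero.symm⟩
  · exact ⟨1, sg_one.symm⟩

/-- every additive map to the field of order two comes from the form -/
theorem exists_om_of_hom (f : V → ZMod 2) (h : ∀ u v, f (u + v) = f u + f v) : ∃ c, ∀ v, f v = om c v := by
  have h0 : f 0 = 0 := by
    have := h 0 0
    rw [add_zero] at this
    exact left_eq_add.mp this
  let φ : V →+ ZMod 2 := { toFun := f, map_zero' := h0, map_add' := h }
  refine ⟨fun i => Sum.elim (fun j => f (Pi.single (Sum.inr j) 1)) (fun j => f (Pi.single (Sum.inl j) 1)) i,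
    fun v => ?_⟩
  have hv : v = ∑ i, v i • (Pi.single i (1 : ZMod 2) : V) := by
    funext j
    rw [Finset.sum_apply, Finset.sum_eq_single j]
    · simp
    · intro i _ hi
      simp [hi.symm]
    · simp
  have h1 : f v = ∑ i, v i * f (Pi.single i 1) := by
    show φ v = _
    conv_lhs => rw [hv]
    rw [map_sum]
    refine Finset.sum_congr rfl fun i _ => ?_
    rcases z2 (v i) with h | h
    · rw [h, zero_smul, map_zero, zero_mul]
    · rw [h, one_smul, one_mul]; rfl
  rw [h1, om, Fintype.sum_sum_type, ← Finset.sum_add_distrib]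
  refine Finset.sum_congr rfl fun i _ => ?_
  simp only [Sum.elim_inl, Sum.elim_inr]
  ring

theorem om_left_inj {c c' : V} (h : ∀ v, om c v = om c' v) : c = c' := by
  have : c + c' = 0 := eq_zero_of_om fun u => by
    rw [om_comm, om_add_left, h, z2_add_self]
  exact (add_eq_zero_iff _ _).1 this

/-! ### projective systems -/

/-- a projective system of commuting involutions -/
structure Pr (s : V → Module.End F W) : Prop where
  sq : ∀ v, s v * s v = 1
  comm : ∀ u v, s u * s v = s v * s u
  mul : ∀ u v, ∃ c : ZMod 2, s (u + v) = sg F c • (s u * s v)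

/-- an isometry is realised -/
def Mv (s : V → Module.End F W) (g : V ≃+ V) : Prop :=
  ∃ R : W ≃ₗ[F] W, ∀ v, ∃ c : ZMod 2, ∀ w, R (s v w) = sg F c • s (g v) (R w)

/-- the weights -/
def Wts (s : V → Module.End F W) : Type _ := { χ : V → F // wt s χ ≠ ⊥ }

namespace Pr

variable {s : V → Module.End F W}

theorem sq_eq (h : Pr s) {χ : V → F} (hχ : wt s χ ≠ ⊥) (v : V) : χ v = 1 ∨ χ v = -1 := by
  obtain ⟨w, hw, hw0⟩ := (Submodule.ne_bot_iff _).1 hχ
  have h1 := mem_wt.1 hw v
  have h2 : s v (s v w) = w := by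
    have := congrArg (fun g : Module.End F W => g w) (h.sq v)
    simpa using this
  rw [h1, map_smul, h1, smul_smul] at h2
  have h3 : (χ v * χ v - 1) • w = 0 := by rw [sub_smul, h2, one_smul, sub_self]
  have h4 : χ v * χ v - 1 = 0 := (smul_eq_zero.1 h3).resolve_right hw0
  have h5 : (χ v - 1) * (χ v + 1) = 0 := by rw [← h4]; ring
  rcases mul_eq_zero.1 h5 with h6 | h6
  · exact Or.inl (sub_eq_zero.1 h6)
  · exact Or.inr (eq_neg_of_add_eq_zero_left h6)

theorem exists_sgn (h : Pr s) {χ : V → F} (hχ : wt s χ ≠ ⊥) : ∃ f : V → ZMod 2, ∀ v, χ v = sg F (f v) := by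
  choose f hf using fun v => exists_sg (h.sq_eq hχ v)
  exact ⟨f, hf⟩

theorem val_mul {χ : V → F} (hχ : wt s χ ≠ ⊥) (u v : V) {c : ZMod 2}
    (hc : s (u + v) = sg F c • (s u * s v)) : χ (u + v) = sg F c * (χ u * χ v) := by
  obtain ⟨w, hw, hw0⟩ := (Submodule.ne_bot_iff _).1 hχ
  have h1 := mem_wt.1 hw
  have h2 := h1 (u + v)
  rw [hc] at h2
  have h3 : (sg F c • (s u * s v)) w = (sg F c * (χ u * χ v)) • w := by
    rw [LinearMap.smul_apply, Module.End.mul_apply, h1 v, map_smul, h1 u, smul_smul, smul_smul, mul_assoc, mul_comm (χ v)]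
  rw [h3] at h2
  have h4 : (sg F c * (χ u * χ v) - χ (u + v)) • w = 0 := by rw [sub_smul, h2, sub_self]
  exact (sub_eq_zero.1 ((smul_eq_zero.1 h4).resolve_right hw0)).symm

theorem exists_diff (h2 : (2 : F) ≠ 0) (h : Pr s) (χ χ' : Wts s) : ∃ c : V, ∀ v, χ.1 v = χ'.1 v * sg F (om c v) := by
  obtain ⟨f, hf⟩ := h.exists_sgn χ.2
  obtain ⟨f', hf'⟩ := h.exists_sgn χ'.2
  obtain ⟨c, hc⟩ := exists_om_of_hom (fun v => f v + f' v) (fun u v => by
    obtain ⟨e, he⟩ := h.mul u v
    have h3 := val_mul χ.2 u v he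
    have h4 := val_mul χ'.2 u v he
    rw [hf, hf, hf, ← sg_add, ← sg_add] at h3
    rw [hf', hf', hf', ← sg_add, ← sg_add] at h4
    rw [sg_inj h2 h3, sg_inj h2 h4]
    linear_combination z2_add_self e)
  refine ⟨c, fun v => ?_⟩
  rw [hf, hf', ← sg_add, ← hc, ← add_assoc, add_comm (f' v), add_assoc, z2_add_self, add_zero]

/-- the difference of two weights -/
noncomputable def diff (h2 : (2 : F) ≠ 0) (h : Pr s) (χ χ' : Wts s) : V := (h.exists_diff h2 χ χ').choose

theorem diff_spec (h2 : (2 : F) ≠ 0) (h : Pr s) (χ χ' : Wts s) (v : V) :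
    χ.1 v = χ'.1 v * sg F (om (h.diff h2 χ χ') v) := (h.exists_diff h2 χ χ').choose_spec v

theorem ne_zero (h : Pr s) (χ : Wts s) (v : V) : χ.1 v ≠ 0 := by
  rcases h.sq_eq χ.2 v with h1 | h1 <;> rw [h1] <;> simp

theorem diff_eq (h2 : (2 : F) ≠ 0) (h : Pr s) {χ χ' : Wts s} {c : V}
    (hc : ∀ v, χ.1 v = χ'.1 v * sg F (om c v)) : h.diff h2 χ χ' = c := by
  refine om_left_inj fun v => sg_inj h2 ?_
  have h1 := h.diff_spec h2 χ χ' v
  rw [hc v] at h1
  exact (mul_left_cancel₀ (h.ne_zero χ' v) h1).symm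

theorem diff_eq_zero (h2 : (2 : F) ≠ 0) (h : Pr s) (χ χ' : Wts s) : h.diff h2 χ χ' = 0 ↔ χ = χ' := by
  constructor
  · intro h1
    apply Subtype.ext
    funext v
    rw [h.diff_spec h2 χ χ' v, h1, om_zero_left, sg_zero, mul_one]
  · rintro rfl
    exact h.diff_eq h2 fun v => by rw [om_zero_left, sg_zero, mul_one]

/-- an isometry moves the weights -/
theorem exists_move (h2 : (2 : F) ≠ 0) (h : Pr s) {g : V ≃+ V} (hg : Isom g) (hm : Mv s g) :
    ∃ T : Wts s → Wts s, Function.Injective T ∧ ∀ χ χ', h.diff h2 (T χ) (T χ') = g (h.diff h2 χ χ') := by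
  obtain ⟨R, hR⟩ := hm
  choose e he using hR
  have key : ∀ χ : Wts s, wt s (fun v => sg F (e (g.symm v)) * χ.1 (g.symm v)) ≠ ⊥ := by
    intro χ
    obtain ⟨w, hw, hw0⟩ := (Submodule.ne_bot_iff _).1 χ.2
    rw [Submodule.ne_bot_iff]
    refine ⟨R w, ?_, (map_ne_zero_iff R R.injective).2 hw0⟩
    rw [mem_wt]
    intro v
    have h1 := he (g.symm v) w
    rw [g.apply_symm_apply, mem_wt.1 hw (g.symm v), map_smul] at h1
    have h3 : sg F (e (g.symm v)) * sg F (e (g.symm v)) = 1 := by rw [← sg_add, z2_add_self, sg_zero]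
    calc s v (R w) = (sg F (e (g.symm v)) * sg F (e (g.symm v))) • s v (R w) := by rw [h3, one_smul]
      _ = sg F (e (g.symm v)) • (sg F (e (g.symm v)) • s v (R w)) := by rw [smul_smul]
      _ = sg F (e (g.symm v)) • (χ.1 (g.symm v) • R w) := by rw [← h1]
      _ = _ := by rw [smul_smul]
  refine ⟨fun χ => ⟨_, key χ⟩, ?_, ?_⟩
  · intro χ χ' hh
    apply Subtype.ext
    funext v
    have h1 := congrFun (congrArg Subtype.val hh) (g v)
    simp only [g.symm_apply_apply] at h1
    refine mul_left_cancel₀ ?_ h1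
    rcases z2 (e v) with h3 | h3 <;> rw [h3]
    · rw [sg_zero]; exact one_ne_zero
    · rw [sg_one]; exact neg_ne_zero.2 one_ne_zero
  · intro χ χ'
    refine h.diff_eq h2 fun v => ?_
    show sg F (e (g.symm v)) * χ.1 (g.symm v) = sg F (e (g.symm v)) * χ'.1 (g.symm v) * _
    have h1 : om (g (h.diff h2 χ χ')) v = om (h.diff h2 χ χ') (g.symm v) := by
      rw [← hg (h.diff h2 χ χ') (g.symm v), g.apply_symm_apply]
    rw [h1, h.diff_spec h2 χ χ' (g.symm v)]
    ring

theorem fin (h2 : (2 : F) ≠ 0) [FiniteDimensional F W] (h : Pr s) : Finite (Wts s) := by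
  let _ := iSupIndep.fintypeNeBotOfFiniteDimensional (wt_indep h2 h.sq h.comm)
  exact (inferInstance : Finite { χ : V → F // wt s χ ≠ ⊥ })

theorem card_le (h2 : (2 : F) ≠ 0) [FiniteDimensional F W] (h : Pr s) : Nat.card (Wts s) ≤ finrank F W := by
  let _ := iSupIndep.fintypeNeBotOfFiniteDimensional (wt_indep h2 h.sq h.comm)
  have h1 := iSupIndep.subtype_ne_bot_le_finrank (wt_indep h2 h.sq h.comm)
  rwa [← Nat.card_eq_fintype_card] at h1

/-- the number of ordered pairs of distinct weights is divisible by 63 -/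
theorem dvd_card (h2 : (2 : F) ≠ 0) [FiniteDimensional F W] (h : Pr s) (hm : ∀ g : V ≃+ V, Isom g → Mv s g) :
    63 ∣ Nat.card (Wts s) * Nat.card (Wts s) - Nat.card (Wts s) := by
  classical
  have := h.fin h2
  let _ : Fintype (Wts s) := Fintype.ofFinite _
  let r : V → ℕ := fun c => (Finset.univ.filter fun p : Wts s × Wts s => h.diff h2 p.1 p.2 = c).card
  have hr0 : r 0 = Nat.card (Wts s) := by
    rw [Nat.card_eq_fintype_card, ← Finset.card_univ]
    symm
    refine Finset.card_bij (fun χ _ => (χ, χ)) ?_ ?_ ?_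
    · intro χ _
      rw [Finset.mem_filter]
      exact ⟨Finset.mem_univ _, (h.diff_eq_zero h2 χ χ).2 rfl⟩
    · intro χ _ χ' _ hh
      exact congrArg Prod.fst hh
    · rintro ⟨χ, χ'⟩ hh
      rw [Finset.mem_filter] at hh
      have := (h.diff_eq_zero h2 χ χ').1 hh.2
      exact ⟨χ, Finset.mem_univ _, by rw [this]⟩
  have hle : ∀ c c' : V, c ≠ 0 → c' ≠ 0 → r c ≤ r c' := by
    intro c c' hc hc'
    obtain ⟨g, hg, hgc⟩ := exists_isom hc hc'
    obtain ⟨T, hT, hT'⟩ := h.exists_move h2 hg (hm g hg)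
    refine Finset.card_le_card_of_injOn (fun p => (T p.1, T p.2)) ?_ ?_
    · intro p hp
      rw [Finset.mem_coe, Finset.mem_filter] at hp
      rw [Finset.mem_coe, Finset.mem_filter]
      exact ⟨Finset.mem_univ _, by rw [hT', hp.2, hgc]⟩
    · rintro ⟨a, b⟩ _ ⟨a', b'⟩ _ hh
      exact Prod.ext (hT (congrArg Prod.fst hh)) (hT (congrArg Prod.snd hh))
  obtain ⟨c0, hc0⟩ : ∃ c : V, c ≠ 0 := ⟨Pi.single (Sum.inl 0) 1, by decide⟩
  have hr : ∀ c : V, c ≠ 0 → r c = r c0 := fun c hc => le_antisymm (hle _ _ hc hc0) (hle _ _ hc0 hc)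
  have hsum : Nat.card (Wts s) * Nat.card (Wts s) = ∑ c : V, r c := by
    rw [Nat.card_eq_fintype_card, ← Fintype.card_prod, ← Finset.card_univ]
    exact Finset.card_eq_sum_card_fiberwise fun p _ => Finset.mem_univ _
  have h3 : ∑ c : V, r c = r 0 + 63 * r c0 := by
    rw [← Finset.add_sum_erase _ _ (Finset.mem_univ (0 : V)),
      Finset.sum_congr rfl (g := fun _ => r c0) (fun c hc => hr c (Finset.ne_of_mem_erase hc)),
      Finset.sum_const, Finset.card_erase_of_mem (Finset.mem_univ _), Finset.card_univ, smul_eq_mul]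
    have : Fintype.card V = 64 := by simp [V]
    rw [this]
  rw [hsum, h3, hr0, Nat.add_sub_cancel_left]
  exact dvd_mul_right _ _

/-- degree less than 28 : scalars -/
theorem scalar (h2 : (2 : F) ≠ 0) [FiniteDimensional F W] (h : Pr s) (hm : ∀ g : V ≃+ V, Isom g → Mv s g)
    (hd : finrank F W < 28) (v : V) : s v = 1 ∨ s v = -1 := by
  have h1 := h.dvd_card h2 hm
  have h3 := h.card_le h2
  have := h.fin h2
  have h4 : Nat.card (Wts s) ≤ 1 := by
    have h5 : Nat.card (Wts s) < 28 := by omega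
    generalize Nat.card (Wts s) = n at h1 h5
    by_contra hc
    interval_cases n <;> revert h1 <;> norm_num only [_root_.ne_eq, _root_.imp_self] at * 
  have hsub : Subsingleton (Wts s) := (Finite.card_le_one_iff_subsingleton).1 h4
  by_cases hn : Nonempty (Wts s)
  · obtain ⟨χ⟩ := hn
    have h5 : wt s χ.1 = ⊤ := by
      rw [← wt_top h2 h.sq h.comm]
      refine le_antisymm (le_iSup (fun χ : V → F => wt s χ) χ.1) (iSup_le fun χ' => ?_)
      by_cases hχ' : wt s χ' = ⊥
      · rw [hχ']; exact bot_le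
      · rw [show χ.1 = χ' from congrArg Subtype.val (Subsingleton.elim χ ⟨χ', hχ'⟩)]
    have h6 : ∀ w, s v w = χ.1 v • w := fun w => mem_wt.1 (h5 ▸ Submodule.mem_top) v
    rcases h.sq_eq χ.2 v with h7 | h7
    · left; ext w; rw [h6, h7, one_smul]; rfl
    · right; ext w; rw [h6, h7, neg_smul, one_smul]; rfl
  · left
    have h5 : (⊤ : Submodule F W) = ⊥ := by
      rw [← wt_top h2 h.sq h.comm, eq_bot_iff]
      refine iSup_le fun χ' => ?_
      by_contra hχ'
      exact hn ⟨⟨χ', fun h0 => hχ' (le_of_eq h0)⟩⟩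
    ext w
    have h6 : ∀ w : W, w = 0 := fun w => (Submodule.mem_bot F).1 (h5 ▸ Submodule.mem_top)
    rw [h6 (s v w), h6 ((1 : Module.End F W) w)]

end Pr

/-! ### representations of the group -/

section Group

variable {K : Type*} [Group K] {th : V → K} {O K0 : Subgroup K}

theorem sg_mul_self (c : ZMod 2) : sg F c * sg F c = 1 := by rw [← sg_add, z2_add_self, sg_zero]

/-- a representation of `K` of degree less than 63 is trivial on `A` -/
theorem lin (h : Sit th O K0) (h2 : (2 : F) ≠ 0) [FiniteDimensional F W] (ρ : K →* Module.End F W)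
    (hd : finrank F W < 63) (v : V) : ρ (th v) = 1 := by
  classical
  set s : V → Module.End F W := fun v => ρ (th v) with hs
  have hsq : ∀ v, s v * s v = 1 := fun v => by rw [hs]; simp only; rw [← map_mul, h.sq, map_one]
  have hcm : ∀ u v, s u * s v = s v * s u := fun u v => by
    rw [hs]; simp only; rw [← map_mul, ← map_mul, h.comm]
  have hP : Pr s := ⟨hsq, hcm, fun u v => ⟨0, by
    rw [sg_zero, one_smul, hs]; simp only; rw [h.add, map_mul]⟩⟩
  by_contra hne
  -- a weight different from the trivial one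
  have hw : ∃ c : V, c ≠ 0 ∧ wt s (fun v => sg F (om c v)) ≠ ⊥ := by
    by_contra hc
    push Not at hc
    apply hne
    have h5 : wt s (fun _ => (1 : F)) = ⊤ := by
      rw [eq_top_iff, ← wt_top h2 hsq hcm]
      refine iSup_le fun χ => ?_
      by_cases hχ : wt s χ = ⊥
      · rw [hχ]; exact bot_le
      obtain ⟨f, hf⟩ := hP.exists_sgn hχ
      obtain ⟨c, hc'⟩ := exists_om_of_hom f (fun u v => by
        have h3 := Pr.val_mul hχ u v (c := 0) (by rw [sg_zero, one_smul, hs]; simp only; rw [h.add, map_mul])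
        rw [hf, hf, hf, ← sg_add, ← sg_add, zero_add] at h3
        exact sg_inj h2 h3)
      have h6 : χ = fun v => sg F (om c v) := funext fun v => by rw [hf, hc']
      by_cases hc0 : c = 0
      · rw [h6, hc0]
        refine le_of_eq (congrArg _ (funext fun v => ?_))
        rw [om_zero_left, sg_zero]
      · rw [h6, hc c hc0]; exact bot_le
    ext w
    have h6 := mem_wt.1 (h5 ▸ Submodule.mem_top : w ∈ wt s fun _ => (1 : F)) v
    rw [one_smul] at h6
    exact h6
  obtain ⟨c, hc0, hc⟩ := hw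
  have hall : ∀ c' : V, c' ≠ 0 → wt s (fun v => sg F (om c' v)) ≠ ⊥ := by
    intro c' hc'
    obtain ⟨g, hg, rfl⟩ := exists_isom hc0 hc'
    obtain ⟨k, -, hk⟩ := h.full g hg
    obtain ⟨w, hw, hw0⟩ := (Submodule.ne_bot_iff _).1 hc
    have hk1 : ∀ x : W, ρ k⁻¹ (ρ k x) = x := fun x => by
      rw [← Module.End.mul_apply, ← map_mul, inv_mul_cancel, map_one, Module.End.one_apply]
    rw [Submodule.ne_bot_iff]
    refine ⟨ρ k w, ?_, fun h0 => hw0 (by rw [← hk1 w, h0, map_zero])⟩
    rw [mem_wt]
    intro v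
    have h1 := hk (g.symm v)
    rw [g.apply_symm_apply] at h1
    show ρ (th v) (ρ k w) = _
    rw [← h1, ← Module.End.mul_apply, ← map_mul, mul_assoc, mul_assoc, inv_mul_cancel, mul_one, map_mul,
      Module.End.mul_apply]
    have h3 : ρ (th (g.symm v)) w = _ := mem_wt.1 hw (g.symm v)
    rw [h3, map_smul]
    have h4 : om (g c) v = om c (g.symm v) := by
      rw [← hg c (g.symm v), g.apply_symm_apply]
    rw [h4]
  have := hP.fin h2
  let f : { c : V // c ≠ 0 } → Wts s := fun c => ⟨_, hall c.1 c.2⟩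
  have hf : Function.Injective f := by
    intro c c' hh
    apply Subtype.ext
    refine om_left_inj fun v => sg_inj h2 ?_
    exact congrFun (congrArg Subtype.val hh) v
  have h7 := Nat.card_le_card_of_injective f hf
  have h8 : Nat.card { c : V // c ≠ 0 } = 63 := by
    rw [Nat.card_eq_fintype_card, Fintype.card_subtype_compl, Fintype.card_subtype_eq]
    have : Fintype.card V = 64 := by simp [V]
    rw [this]
  have h9 := hP.card_le h2
  omega

/-- projective representations of `K` of degree less than 28 -/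
theorem proj (h : Sit th O K0) {Kt : Type*} [Group Kt] (π : Kt →* K) (hπ : Function.Surjective π)
    (h2 : (2 : F) ≠ 0) [FiniteDimensional F W] (ρ : Kt →* Module.End F W)
    (hker : ∀ x, π x = 1 → ρ x = 1 ∨ ρ x = -1) (hd : finrank F W < 28) {x : Kt} {v : V} (hx : π x = th v) :
    ρ x = 1 ∨ ρ x = -1 := by
  classical
  rcases subsingleton_or_nontrivial W with hW | hW
  · left; ext w; exact Subsingleton.elim _ _
  have hker' : ∀ x y, π x = π y → ∃ c, ρ x = sg F c • ρ y := by
    intro x y hxy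
    have h1 : π (x * y⁻¹) = 1 := by rw [map_mul, map_inv, hxy, mul_inv_cancel]
    have h3 : ρ x = ρ (x * y⁻¹) * ρ y := by rw [← map_mul, inv_mul_cancel_right]
    rcases hker _ h1 with h4 | h4
    · exact ⟨0, by rw [h3, h4, one_mul, sg_zero, one_smul]⟩
    · exact ⟨1, by rw [h3, h4, neg_mul, one_mul, sg_one, neg_smul, one_smul]⟩
  have hsc : ∀ {a b : ZMod 2} {f : Module.End F W}, (∃ f', f' * f = 1) → sg F a • f = sg F b • f → a = b := by
    rintro a b f ⟨f', hf'⟩ hab
    have h1 := congrArg (fun x => f' * x) hab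
    simp only [mul_smul_comm, hf'] at h1
    obtain ⟨w, hw⟩ := exists_ne (0 : W)
    have h3 := congrArg (fun x : Module.End F W => x w) h1
    simp only [LinearMap.smul_apply, Module.End.one_apply] at h3
    exact sg_inj h2 (smul_left_injective F hw h3)
  choose t ht using fun v => hπ (th v)
  have hinv : ∀ y : Kt, ∃ f', f' * ρ y = 1 := fun y => ⟨ρ y⁻¹, by rw [← map_mul, inv_mul_cancel, map_one]⟩
  set s : V → Module.End F W := fun v => ρ (t v) with hs
  have hsd : ∀ v, s v = ρ (t v) := fun v => rfl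
  -- the squares
  have hq : ∀ v, ∃ c, s v * s v = sg F c • 1 := by
    intro v
    obtain ⟨c, hc⟩ := hker' (t v * t v) 1 (by rw [map_mul, ht, h.sq, map_one])
    exact ⟨c, by rw [hsd, ← map_mul, hc, map_one]⟩
  choose q hq using hq
  have hbb : ∀ u v, ∃ c, s v * s u = sg F c • (s u * s v) := by
    intro u v
    obtain ⟨c, hc⟩ := hker' (t v * t u) (t u * t v) (by rw [map_mul, map_mul, ht, ht, h.comm])
    exact ⟨c, by rw [hsd, hsd, ← map_mul, ← map_mul, hc]⟩
  choose β hβ using hbb
  have haa : ∀ u v, ∃ c, s (u + v) = sg F c • (s u * s v) := by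
    intro u v
    obtain ⟨c, hc⟩ := hker' (t (u + v)) (t u * t v) (by rw [map_mul, ht, ht, ht, h.add])
    exact ⟨c, by rw [hsd, hsd, hsd, ← map_mul, hc]⟩
  have h0 : ∃ c, s 0 = sg F c • 1 := by
    obtain ⟨c, hc⟩ := hker' (t 0) 1 (by rw [ht, h.zero, map_one])
    exact ⟨c, by rw [hsd, hc, map_one]⟩
  obtain ⟨c0, hc0⟩ := h0
  have hq0 : q 0 = 0 := by
    refine hsc (f := 1) ⟨1, one_mul 1⟩ ?_
    rw [← hq 0, hc0, smul_mul_smul_comm, one_mul, sg_mul_self, sg_zero]
  -- moving
  have hmv : ∀ k : Kt, ∀ u v : V, π k * th u * (π k)⁻¹ = th v → ∃ c, ρ k * s u = sg F c • (s v * ρ k) := by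
    intro k u v hk
    obtain ⟨c, hc⟩ := hker' (k * t u) (t v * k) (by
      rw [map_mul, map_mul, ht, ht, ← hk, inv_mul_cancel_right])
    exact ⟨c, by rw [hsd, hsd, ← map_mul, ← map_mul, hc]⟩
  have hqc : ∀ u v : V, u ≠ 0 → v ≠ 0 → q u = q v := by
    intro u v hu hv
    obtain ⟨k, -, hk⟩ := h.exists_conj hu hv
    obtain ⟨kt, rfl⟩ := hπ k
    obtain ⟨c, hc⟩ := hmv kt u v hk
    refine hsc (hinv kt) ?_
    have e1 : sg F (q u) • ρ kt = ρ kt * (s u * s u) := by rw [hq, mul_smul_comm, mul_one]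
    have e2 : sg F (q v) • ρ kt = s v * s v * ρ kt := by rw [hq, smul_mul_assoc, one_mul]
    rw [e1, e2, ← mul_assoc, hc, smul_mul_assoc, mul_assoc, hc, mul_smul_comm, smul_smul, sg_mul_self, one_smul,
      mul_assoc]
  have hβq : ∀ u v : V, q (u + v) = β u v + q u + q v := by
    intro u v
    obtain ⟨c, hc⟩ := haa u v
    refine hsc (f := 1) ⟨1, one_mul 1⟩ ?_
    rw [← hq (u + v), hc, smul_mul_smul_comm, sg_mul_self, one_smul, mul_assoc, ← mul_assoc (s v), hβ u v,
      smul_mul_assoc, mul_smul_comm, mul_assoc (s u) (s v) (s v), hq v, mul_smul_comm, mul_one, mul_smul_comm, hq u,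
      smul_smul, smul_smul, ← sg_add, ← sg_add]
    congr 2
    ring
  have hβadd : ∀ u v v', β u (v + v') = β u v + β u v' := by
    intro u v v'
    obtain ⟨c, hc⟩ := haa v v'
    have e1 : s (v + v') * s u = sg F (β u v + β u v') • (s u * s (v + v')) := by
      rw [hc, smul_mul_assoc, mul_assoc, hβ u v', mul_smul_comm, ← mul_assoc, hβ u v, smul_mul_assoc,
        mul_smul_comm, smul_smul, smul_smul, smul_smul, sg_add, mul_assoc]
      congr 1
      ring
    rw [hβ u (v + v')] at e1
    refine hsc (f := s u * s (v + v')) ?_ e1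
    rw [hsd, hsd, ← map_mul]
    exact hinv _
  have hqz : ∀ v, q v = 0 := by
    intro v
    by_cases hv : v = 0
    · rw [hv]; exact hq0
    rcases z2 (q v) with h1 | h1
    · exact h1
    exfalso
    have hall : ∀ u : V, u ≠ 0 → q u = 1 := fun u hu => (hqc u v hu hv).trans h1
    have hb : ∀ u v : V, u ≠ 0 → v ≠ 0 → u ≠ v → β u v = 1 := by
      intro u v hu hv huv
      have := hβq u v
      rw [hall _ hu, hall _ hv, hall _ (fun hh => huv ((add_eq_zero_iff _ _).1 hh))] at this
      rcases z2 (β u v) with h3 | h3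
      · rw [h3] at this; exact absurd this (by decide)
      · exact h3
    have := hβadd (Pi.single (Sum.inl 0) 1) (Pi.single (Sum.inl 1) 1) (Pi.single (Sum.inl 2) 1)
    rw [hb _ _ (by decide) (by decide) (by decide), hb _ _ (by decide) (by decide) (by decide),
      hb _ _ (by decide) (by decide) (by decide)] at this
    exact absurd this (by decide)
  have hβz : ∀ u v, β u v = 0 := by
    intro u v
    have := hβq u v
    rw [hqz, hqz, hqz, add_zero, add_zero] at this
    exact this.symm
  have hP : Pr s := by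
    refine ⟨fun v => ?_, fun u v => ?_, haa⟩
    · rw [hq, hqz, sg_zero, one_smul]
    · rw [hβ v u, hβz, sg_zero, one_smul]
  have hM : ∀ g : V ≃+ V, Isom g → Mv s g := by
    intro g hg
    obtain ⟨k, -, hk⟩ := h.full g hg
    obtain ⟨kt, rfl⟩ := hπ k
    refine ⟨LinearEquiv.ofLinearMap (ρ kt) (ρ kt⁻¹) ?_ ?_, fun v => ?_⟩
    · rw [← Module.End.mul_eq_comp, ← map_mul, mul_inv_cancel, map_one]; rfl
    · rw [← Module.End.mul_eq_comp, ← map_mul, inv_mul_cancel, map_one]; rfl
    · obtain ⟨c, hc⟩ := hmv kt v (g v) (hk v)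
      refine ⟨c, fun w => ?_⟩
      exact congrArg (fun f : Module.End F W => f w) hc
  have h3 := hP.scalar h2 hM hd v
  obtain ⟨c, hc⟩ := hker' x (t v) (by rw [hx, ht])
  have h4 : ρ x = sg F c • s v := hc
  rcases z2 c with rfl | rfl
  · rw [h4, sg_zero, one_smul]; exact h3
  · rw [h4, sg_one, neg_smul, one_smul]
    rcases h3 with h3 | h3
    · right; rw [h3]
    · left; rw [h3, neg_neg]

end Group

end Cfsg.Agent.H265.SpSix
end

-- part: H265/SpSix/Conway
section
/-!
# The rows `Co₁` and `Co₂`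

The rational representation of `Co₀` of degree 24.
-/

set_option autoImplicit false

namespace Cfsg.Agent.H265.SpSix

open Cfsg Cfsg.Agent.H336.SpSix Module
open Cfsg.Agent.SporadicStructure.Co0Base (e8)
open Cfsg.Agent.SporadicA.Co0Mono (signCo0)
open Cfsg.Agent.SporadicA.Co1Simple (allOne allOne_smul)

theorem finrank_sp : finrank ℚ SigZeroCo2.Lin.Sp = 24 := by
  rw [Module.finrank_fintype_fun_eq_card]
  decide

theorem rep_allOne : SigZeroCo2.Lin.rep (signCo0 allOne) = -1 := by
  refine SigZeroCo2.Lin.ext_e8 fun i => ?_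
  rw [SigZeroCo2.Lin.rep_toV, allOne_smul, SigZeroCo2.Lin.toV_neg]
  rfl

variable {K : Type*} [Group K] {th : V → K} {O K0 : Subgroup K}

theorem co1 (hK : Spor.IsoCo1 K) (h : Sit th O K0) : False := by
  obtain ⟨e⟩ := hK
  let π : Co0 →* K := (e.symm : Spor.Co1 →* K).comp (QuotientGroup.mk' (Subgroup.center Co0))
  have hπ : Function.Surjective π := e.symm.surjective.comp (QuotientGroup.mk'_surjective _)
  have hk : ∀ x : Co0, π x = 1 ↔ x ∈ Subgroup.center Co0 := by
    intro x
    rw [← QuotientGroup.eq_one_iff (N := Subgroup.center Co0) x]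
    exact (MulEquiv.map_eq_one_iff e.symm)
  obtain ⟨v, hv⟩ : ∃ v : V, v ≠ 0 := ⟨Pi.single (Sum.inl 0) 1, by decide⟩
  obtain ⟨x, hx⟩ := hπ (th v)
  have h1 := proj h π hπ (F := ℚ) (by norm_num) SigZeroCo2.Lin.rep (fun x hx => by
    rcases (CoOneType.CoOneE.mem_center_iff x).1 ((hk x).1 hx) with rfl | rfl
    · left; rw [map_one]
    · right; exact rep_allOne) (by rw [finrank_sp]; norm_num) hx
  have h2 : x ∈ Subgroup.center Co0 := by
    rw [CoOneType.CoOneE.mem_center_iff]
    rcases h1 with h1 | h1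
    · left; exact SigZeroCo2.Lin.rep_injective (by rw [h1, map_one])
    · right; exact SigZeroCo2.Lin.rep_injective (by rw [h1, rep_allOne])
  rw [(hk x).2 h2] at hx
  exact hv ((h.eq_one_iff v).1 hx.symm)

theorem co2 (hK : Spor.IsoCo2 K) (h : Sit th O K0) : False := by
  obtain ⟨e⟩ := hK
  let ρ : K →* Module.End ℚ SigZeroCo2.Lin.Sp := SigZeroCo2.Lin.rep.comp (Co2Type.Mono.toCo0.comp (e : K →* Spor.Co2))
  have hρ : Function.Injective ρ := SigZeroCo2.Lin.rep_injective.comp
    (Function.Injective.comp (g := Co2Type.Mono.toCo0) (Subgroup.inclusion_injective _) e.injective)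
  obtain ⟨v, hv⟩ : ∃ v : V, v ≠ 0 := ⟨Pi.single (Sum.inl 0) 1, by decide⟩
  have h1 := lin h (F := ℚ) (by norm_num) ρ (by rw [finrank_sp]; norm_num) v
  exact hv ((h.eq_one_iff v).1 (hρ (by rw [h1, map_one])))

end Cfsg.Agent.H265.SpSix
end

-- part: H265/SpSix/AltNine
section
/-!
# Centralisers of involutions of the alternating group of degree nine

* `alt9` : 320 does not divide the order of the centraliser of an involution of `A₉`;
* `le_of_odd_index` : a normal 2-subgroup is contained in every subgroup of odd index.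
-/

set_option autoImplicit false

namespace Cfsg.Agent.H265.SpSix

open Equiv Equiv.Perm

theorem card_mul_relIndex {G : Type*} [Group G] {K L : Subgroup G} (h : K ≤ L) :
    Nat.card K * K.relIndex L = Nat.card L := by
  have := Subgroup.relIndex_mul_relIndex ⊥ K L bot_le h
  rwa [Subgroup.relIndex_bot_left, Subgroup.relIndex_bot_left] at this

/-- a normal 2-subgroup is contained in every subgroup of odd index -/
theorem le_of_odd_index {G : Type*} [Group G] [Finite G] {Q H : Subgroup G} [Q.Normal] {p n : ℕ} (hp : p.Prime)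
    (hQ : Nat.card Q = p ^ n) (hH : ¬ p ∣ H.index) : Q ≤ H := by
  have h1 : H.relIndex (H ⊔ Q) ∣ H.index := Subgroup.relIndex_dvd_index_of_le le_sup_left
  have e1 : H.relIndex (H ⊔ Q) * Nat.card H = Nat.card (H ⊔ Q : Subgroup G) := by
    rw [mul_comm]; exact card_mul_relIndex le_sup_left
  have e2 : Q.relIndex (H ⊔ Q) * Nat.card Q = Nat.card (H ⊔ Q : Subgroup G) := by
    rw [mul_comm]; exact card_mul_relIndex le_sup_right
  have e3 : Nat.card (H ⊓ Q : Subgroup G) * (H ⊓ Q).relIndex H = Nat.card H :=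
    card_mul_relIndex inf_le_left
  have e4 : Nat.card (H ⊓ Q : Subgroup G) * (H ⊓ Q).relIndex Q = Nat.card Q :=
    card_mul_relIndex inf_le_right
  rw [Subgroup.inf_relIndex_left] at e3
  rw [Subgroup.inf_relIndex_right] at e4
  rw [Subgroup.relIndex_sup_right] at e2
  have e5 : H.relIndex (H ⊔ Q) = H.relIndex Q := by
    have h2 : 0 < Nat.card (H ⊓ Q : Subgroup G) := Nat.card_pos
    have h3 : 0 < Q.relIndex H := by
      have : 0 < Nat.card H := Nat.card_pos
      rw [← e3] at this
      exact Nat.pos_of_ne_zero fun h0 => by rw [h0, mul_zero] at this; exact absurd this (lt_irrefl _)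
    have h4 : Nat.card (H ⊓ Q : Subgroup G) * Q.relIndex H * H.relIndex (H ⊔ Q) =
        Nat.card (H ⊓ Q : Subgroup G) * Q.relIndex H * H.relIndex Q := by
      calc _ = H.relIndex (H ⊔ Q) * Nat.card H := by rw [e3]; ring
        _ = Q.relIndex H * Nat.card Q := by rw [e1, e2]
        _ = _ := by rw [← e4]; ring
    exact Nat.eq_of_mul_eq_mul_left (by (clear * - h2 h3; positivity)) h4
  have h6 : H.relIndex Q ∣ p ^ n := by
    rw [← hQ, ← e4]; exact dvd_mul_left _ _
  have h7 : H.relIndex Q = 1 := by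
    obtain ⟨k, -, hk⟩ := (Nat.dvd_prime_pow hp).1 h6
    rcases k with _ | k
    · rw [hk, pow_zero]
    · exfalso
      apply hH
      rw [e5, hk] at h1
      exact (dvd_pow_self p (Nat.succ_ne_zero k)).trans h1
  exact Subgroup.relIndex_eq_one.1 h7

theorem alt9 (b : alternatingGroup (Fin 9)) (hb : b * b = 1) (hb1 : b ≠ 1) :
    ¬ 320 ∣ Nat.card (Subgroup.centralizer ({b} : Set (alternatingGroup (Fin 9)))) := by
  classical
  have : Fact (Nat.Prime 2) := ⟨Nat.prime_two⟩
  set c : Perm (Fin 9) := b.1 with hc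
  have hcc : c ^ 2 = 1 := by rw [pow_two]; exact congrArg Subtype.val hb
  have hc1 : c ≠ 1 := fun h => hb1 (Subtype.ext h)
  obtain ⟨n, hn⟩ : ∃ n, c.cycleType = Multiset.replicate n 2 :=
    ⟨_, Multiset.eq_replicate.2 ⟨rfl, pow_prime_eq_one_iff.1 hcc⟩⟩
  have hsum : 2 * n ≤ 9 := by
    have h1 := c.sum_cycleType
    rw [hn, Multiset.sum_replicate, smul_eq_mul] at h1
    have h2 : c.support.card ≤ 9 := by
      have := Finset.card_le_univ c.support
      simpa using this
    omega
  have hn0 : n ≠ 0 := by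
    rintro rfl
    rw [Multiset.replicate_zero, cycleType_eq_zero] at hn
    exact hc1 hn
  have heven : Even n := by
    have h1 : sign c = 1 := b.2
    rw [sign_of_cycleType, hn, Multiset.sum_replicate, Multiset.card_replicate, smul_eq_mul] at h1
    rcases Nat.even_or_odd n with h | h
    · exact h
    · exfalso
      have h2 : Odd (n * 2 + n) := by
        rw [Nat.odd_add]
        exact ⟨fun ho => absurd ho (by rw [Nat.not_odd_iff_even]; exact even_two.mul_left n),
          fun he => absurd h (by rw [Nat.not_odd_iff_even]; exact he)⟩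
      rw [h2.neg_one_pow] at h1
      revert h1
      decide
  have hcases : n = 2 ∨ n = 4 := by
    have : n ≤ 4 := by omega
    interval_cases n
    · exact absurd rfl hn0
    · exact absurd heven (by decide)
    · left; rfl
    · exact absurd heven (by decide)
    · right; rfl
  have hS := nat_card_centralizer c
  rw [hn, Multiset.sum_replicate, Multiset.prod_replicate] at hS
  -- the centraliser in the alternating group embeds
  let j : Subgroup.centralizer ({b} : Set (alternatingGroup (Fin 9))) →*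
      Subgroup.centralizer ({c} : Set (Perm (Fin 9))) :=
    { toFun := fun x => ⟨x.1.1, by
        rw [Subgroup.mem_centralizer_singleton_iff]
        exact congrArg Subtype.val (Subgroup.mem_centralizer_singleton_iff.1 x.2)⟩
      map_one' := rfl
      map_mul' := fun _ _ => rfl }
  have hj : Function.Injective j := fun x y h => Subtype.ext (Subtype.ext (congrArg (fun z => z.1) h))
  rcases hcases with rfl | rfl
  · have h1 : Nat.card (Subgroup.centralizer ({c} : Set (Perm (Fin 9)))) = 960 := by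
      rw [hS]; decide
    obtain ⟨x, hx⟩ : ∃ x, c x ≠ x := by
      by_contra h
      push Not at h
      exact hc1 (Equiv.ext h)
    have hcx : c (c x) = x := by
      have := congrArg (fun f : Perm (Fin 9) => f x) hcc
      simpa [pow_two] using this
    let σ : Subgroup.centralizer ({c} : Set (Perm (Fin 9))) →* ℤˣ :=
      (sign (α := Fin 9)).comp (Subgroup.subtype _)
    have hσ : Function.Surjective σ := by
      intro u
      rcases Int.units_eq_one_or u with rfl | rfl
      · exact ⟨1, map_one _⟩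
      · refine ⟨⟨swap x (c x), ?_⟩, ?_⟩
        · rw [Subgroup.mem_centralizer_singleton_iff]
          have h3 : c * swap x (c x) * c⁻¹ = swap (c x) (c (c x)) := by
            rw [Equiv.mul_swap_eq_swap_mul, mul_inv_cancel_right]
          rw [hcx, swap_comm (c x) x] at h3
          have h4 : c * swap x (c x) = swap x (c x) * c := by
            nth_rewrite 2 [← h3]
            rw [inv_mul_cancel_right]
          exact h4.symm
        · exact sign_swap hx.symm
    have h2 : j.range = σ.ker := by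
      ext y
      constructor
      · rintro ⟨z, rfl⟩
        exact z.1.2
      · intro hy
        refine ⟨⟨⟨y.1, hy⟩, ?_⟩, rfl⟩
        rw [Subgroup.mem_centralizer_singleton_iff]
        exact Subtype.ext (Subgroup.mem_centralizer_singleton_iff.1 y.2)
    have h3 : Nat.card (Subgroup.centralizer ({b} : Set (alternatingGroup (Fin 9)))) = Nat.card σ.ker := by
      rw [← h2]
      exact Nat.card_congr (MonoidHom.ofInjective hj).toEquiv
    have h4 := Subgroup.card_eq_card_quotient_mul_card_subgroup σ.ker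
    rw [Nat.card_congr (QuotientGroup.quotientKerEquivOfSurjective σ hσ).toEquiv, h1, ← h3] at h4
    have h5 : Nat.card ℤˣ = 2 := by rw [Nat.card_eq_fintype_card]; rfl
    rw [h5] at h4
    intro h6
    omega
  · intro h6
    have h7 : Nat.card (Subgroup.centralizer ({b} : Set (alternatingGroup (Fin 9)))) ∣
        Nat.card (Subgroup.centralizer ({c} : Set (Perm (Fin 9)))) := Subgroup.card_dvd_of_injective j hj
    have h1 : Nat.card (Subgroup.centralizer ({c} : Set (Perm (Fin 9)))) = 384 := by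
      rw [hS]; decide
    rw [h1] at h7
    exact absurd (h6.trans h7) (by decide)

end Cfsg.Agent.H265.SpSix
end

-- part: H265/SpSix/Thompson
section
/-!
# The row `Th`

`C_K(z) = 2^(1+8).A₉`: the normaliser of `A` contains a Sylow 2-subgroup of `C_K(z)`, so `Q = O₂(C_K(z))` normalises
`A`; then `A ∩ Q = z^⊥` and `A` gives an involution of `A₉` whose centraliser has order divisible by 320.
-/

set_option autoImplicit false

namespace Cfsg.Agent.H265.SpSix

open Cfsg Cfsg.Agent.H336.SpSix Subgroup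
open scoped commutatorElement

variable {K : Type*} [Group K] {th : V → K} {O K0 : Subgroup K}

theorem card_ne_zero : Nat.card { v : V // v ≠ 0 } = 63 := by
  rw [Nat.card_eq_fintype_card, Fintype.card_subtype_compl, Fintype.card_subtype_eq]
  have : Fintype.card V = 64 := by simp [V]
  rw [this]

/-- the centraliser of `th a` in the normaliser of `A` -/
theorem dvd_card_inf [Finite K] (h : Sit th O K0) {a : V} (ha : a ≠ 0) :
    1474560 ∣ Nat.card (normalizer (h.A : Set K) ⊓ centralizer {th a} : Subgroup K) := by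
  set N := normalizer (h.A : Set K) with hN
  let act : MulAction N K :=
    { smul := fun n x => n.1 * x * n.1⁻¹
      one_smul := fun x => by show (1 : K) * x * 1⁻¹ = x; group
      mul_smul := fun m n x => by
        show (m.1 * n.1) * x * (m.1 * n.1)⁻¹ = m.1 * (n.1 * x * n.1⁻¹) * m.1⁻¹; group }
  have hs : ∀ (n : N) (x : K), n • x = n.1 * x * n.1⁻¹ := fun _ _ => rfl
  have horb : MulAction.orbit N (th a) = th '' {v | v ≠ 0} := by
    ext x
    constructor
    · rintro ⟨n, rfl⟩
      obtain ⟨u, hu⟩ := h.mem_normalizer.1 n.2 a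
      refine ⟨u, ?_, hu.symm⟩
      rintro rfl
      have hu' : n.1 * th a * n.1⁻¹ = 1 := by rw [hu, h.zero]
      have : th a = 1 := by
        rw [mul_inv_eq_one] at hu'
        exact mul_left_cancel (hu'.trans (mul_one _).symm)
      exact ha ((h.eq_one_iff a).1 this)
    · rintro ⟨v, hv, rfl⟩
      obtain ⟨k, hk, hk'⟩ := h.exists_conj ha hv
      exact ⟨⟨k, h.K0_le hk⟩, hk'⟩
  have h2 : Nat.card (MulAction.orbit N (th a)) = 63 := by
    rw [horb, Nat.card_coe_set_eq, Set.ncard_image_of_injective _ h.inj, ← Nat.card_coe_set_eq]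
    exact card_ne_zero
  have h3 : Nat.card (MulAction.stabilizer N (th a)) = Nat.card (N ⊓ centralizer {th a} : Subgroup K) := by
    refine Nat.card_congr ⟨fun n => ⟨n.1.1, n.1.2, ?_⟩, fun n => ⟨⟨n.1, n.2.1⟩, ?_⟩, fun _ => rfl, fun _ => rfl⟩
    · refine mem_centralizer_singleton_iff.2 ?_
      have h4 : n.1.1 * th a * n.1.1⁻¹ = th a := n.2
      exact (eq_mul_inv_iff_mul_eq.1 h4.symm).symm
    · rw [MulAction.mem_stabilizer_iff, hs, mem_centralizer_singleton_iff.1 n.2.2, mul_inv_cancel_right]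
  have h5 : Nat.card (MulAction.orbit N (th a)) * Nat.card (MulAction.stabilizer N (th a)) = Nat.card N := by
    have := Nat.card_congr (MulAction.orbitProdStabilizerEquivGroup N (th a))
    rwa [Nat.card_prod] at this
  rw [h2, h3] at h5
  have h6 := h.card_dvd_normalizer
  rw [← hN, ← h5] at h6
  exact Nat.dvd_of_mul_dvd_mul_left (k := 63) (by norm_num) (by
    rw [show 63 * 1474560 = 1451520 * 64 from by norm_num]; exact h6)

/-- a 2-subgroup moving the elements of `A` only by `th a` has order at most 128 -/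
theorem card_le_of_small [Finite K] (h : Sit th O K0) {a : V} (ha : a ≠ 0) {Q : Subgroup K} (hQ : IsPGroup 2 Q)
    (hm : ∀ x ∈ Q, ∀ v, x * th v * x⁻¹ = th v ∨ x * th v * x⁻¹ = th (v + a)) : Nat.card Q ≤ 128 := by
  have hnor : ∀ x ∈ Q, x ∈ normalizer (h.A : Set K) := fun x hx => h.mem_normalizer.2 fun v => by
    rcases hm x hx v with h1 | h1
    · exact ⟨_, h1⟩
    · exact ⟨_, h1⟩
  have hac : ∀ x ∈ Q, x * th a * x⁻¹ = th a := fun x hx => by
    rcases hm x hx a with h1 | h1
    · exact h1
    · exfalso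
      rw [v_add_self, h.zero, mul_inv_eq_one] at h1
      exact ha ((h.eq_one_iff a).1 (mul_left_cancel (h1.trans (mul_one _).symm)))
  have hperp : ∀ x ∈ Q, ∀ v, om a v = 0 → x * th v = th v * x := by
    intro x hx v hv
    rcases hm x hx v with h1 | h1
    · nth_rewrite 2 [← h1]; rw [inv_mul_cancel_right]
    exfalso
    obtain ⟨g, hg, hg'⟩ := h.exists_isom_of_mem (hnor x hx)
    have hga : g v = v + a := h.inj (by rw [← hg', h1])
    obtain ⟨u, hu⟩ := exists_om ha
    have hgu : g u = u ∨ g u = u + a := by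
      rcases hm x hx u with h3 | h3
      · left; exact h.inj (by rw [← hg', h3])
      · right; exact h.inj (by rw [← hg', h3])
    have h4 := hg v u
    rw [hga] at h4
    rcases hgu with h5 | h5
    · rw [h5, om_add_left, hu] at h4
      have : om v u + 1 = om v u := h4
      exact absurd (add_eq_left.mp this) (by decide)
    · rw [h5, om_add_left, om_add_right, om_add_right, hu, om_self, om_comm v a, hv] at h4
      have : om v u + 0 + (1 + 0) = om v u := h4
      rw [add_zero, add_zero] at this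
      exact absurd (add_eq_left.mp this) (by decide)
  have hcase := fun x (hx : x ∈ Q) => h.act_of_perp ha (hnor x hx) (hperp x hx)
  -- the kernel
  have hker : ∀ x ∈ Q, (∀ v, x * th v * x⁻¹ = th v) → x ∈ h.A := fun x hx hc =>
    h.mem_of_pgroup hQ hx fun v => by nth_rewrite 2 [← hc v]; rw [inv_mul_cancel_right]
  by_cases hall : ∀ x ∈ Q, ∀ v, x * th v * x⁻¹ = th v
  · have h1 : Q ≤ h.A := fun x hx => hker x hx (hall x hx)
    have h2 := Nat.le_of_dvd Nat.card_pos (Subgroup.card_dvd_of_le h1)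
    rw [h.card_A] at h2
    omega
  · push Not at hall
    obtain ⟨x0, hx0, v0, hv0⟩ := hall
    have h0 : ∀ v, x0 * th v * x0⁻¹ = th (tv a v) := (hcase x0 hx0).resolve_left fun hh => hv0 (hh v0)
    classical
    let f : Q → h.A × ZMod 2 := fun x => if hx : ∀ v, x.1 * th v * x.1⁻¹ = th v then (⟨x.1, hker x.1 x.2 hx⟩, 0)
      else (⟨x0⁻¹ * x.1, by
        refine hker _ (Q.mul_mem (Q.inv_mem hx0) x.2) fun v => ?_
        have h1 := (hcase x.1 x.2).resolve_left hx v
        have h2 := h0 v
        have h3 : x0⁻¹ * x.1 * th v * (x0⁻¹ * x.1)⁻¹ = x0⁻¹ * (x.1 * th v * x.1⁻¹) * x0 := by group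
        rw [h3, h1, ← h2]
        group⟩, 1)
    have hf : Function.Injective f := by
      intro x y hxy
      by_cases hx : ∀ v, x.1 * th v * x.1⁻¹ = th v <;> by_cases hy : ∀ v, y.1 * th v * y.1⁻¹ = th v
      · simp only [f, dif_pos hx, dif_pos hy] at hxy
        exact Subtype.ext (congrArg (fun p => p.1.1) hxy)
      · simp only [f, dif_pos hx, dif_neg hy] at hxy
        exact absurd (congrArg Prod.snd hxy : (0 : ZMod 2) = 1) zero_ne_one
      · simp only [f, dif_neg hx, dif_pos hy] at hxy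
        exact absurd (congrArg Prod.snd hxy : (1 : ZMod 2) = 0) one_ne_zero
      · simp only [f, dif_neg hx, dif_neg hy] at hxy
        exact Subtype.ext (mul_left_cancel (congrArg (fun p => p.1.1) hxy))
    have h1 := Nat.card_le_card_of_injective f hf
    rw [Nat.card_prod, h.card_A, Nat.card_zmod] at h1
    omega

/-- the abstract situation of the Thompson group -/
theorem no_nine [Finite K] (h : Sit th O K0) {a : V} (ha : a ≠ 0) {C : Subgroup K}
    (hC : ∀ x, x ∈ C ↔ x * th a = th a * x) (hcard : Nat.card C = 92897280) {Q : Subgroup C} [Q.Normal]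
    (hQ9 : Nat.card Q = 2 ^ 9) (hQ : IsExtraspecial 2 Q) (hQc : centralizer (Q : Set C) ≤ Q)
    (e : C ⧸ Q ≃* alternatingGroup (Fin 9)) : False := by
  classical
  have : Fact (Nat.Prime 2) := ⟨Nat.prime_two⟩
  have haC : th a ∈ C := (hC _).2 rfl
  have hAC : ∀ v, th v ∈ C := fun v => (hC _).2 (h.comm v a)
  -- `Q` in the group
  obtain ⟨Q', hQ'⟩ : ∃ Q', Q' = Q.map C.subtype := ⟨_, rfl⟩
  have memQ' : ∀ x : C, (x : K) ∈ Q' ↔ x ∈ Q := fun x => by
    rw [hQ']
    constructor
    · rintro ⟨y, hy, hxy⟩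
      rwa [← Subtype.ext hxy]
    · intro hx
      exact ⟨x, hx, rfl⟩
  have hQ'C : Q' ≤ C := by
    rw [hQ']
    rintro _ ⟨y, _, rfl⟩
    exact y.2
  have hQ'card : Nat.card Q' = 2 ^ 9 := by
    rw [← hQ9, hQ']
    exact Nat.card_congr (Q.equivMapOfInjective C.subtype C.subtype_injective).toEquiv.symm
  have hQ'p : IsPGroup 2 Q' := IsPGroup.of_card hQ'card
  have hQ'n : ∀ c ∈ C, ∀ x ∈ Q', c * x * c⁻¹ ∈ Q' := by
    intro c hc x hx
    have h1 := Normal.conj_mem (inferInstance : Q.Normal) ⟨x, hQ'C hx⟩ ((memQ' _).1 hx) ⟨c, hc⟩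
    exact (memQ' _).2 h1
  -- the centre
  have hzQ : (⟨th a, haC⟩ : C) ∈ Q := hQc (mem_centralizer_iff.2 fun x _ => by
    apply Subtype.ext
    exact (hC _).1 x.2)
  have hZ : ∀ x : Q, x ∈ center Q → ((x : C) : K) = 1 ∨ ((x : C) : K) = th a := by
    intro x hx
    have h2 : Nat.card (center Q) = 2 := hQ.2
    have hz : (⟨⟨th a, haC⟩, hzQ⟩ : Q) ∈ center Q := by
      rw [mem_center_iff]
      intro y
      apply Subtype.ext
      apply Subtype.ext
      exact (hC _).1 y.1.2
    by_contra hc
    push Not at hc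
    have hz1 : (⟨⟨th a, haC⟩, hzQ⟩ : Q) ≠ 1 := fun h0 =>
      ha ((h.eq_one_iff a).1 (congrArg (fun t : Q => ((t : C) : K)) h0))
    have hx1 : x ≠ 1 := fun h0 => hc.1 (congrArg (fun t : Q => ((t : C) : K)) h0)
    have hxz : x ≠ ⟨⟨th a, haC⟩, hzQ⟩ := fun h0 => hc.2 (congrArg (fun t : Q => ((t : C) : K)) h0)
    have h3 : ({1, ⟨⟨th a, haC⟩, hzQ⟩, x} : Finset Q).card = 3 :=
      Finset.card_eq_three.2 ⟨_, _, _, hz1.symm, hx1.symm, hxz.symm, rfl⟩
    have h4 : ((({1, ⟨⟨th a, haC⟩, hzQ⟩, x} : Finset Q)) : Set Q).ncard ≤ ((center Q : Subgroup Q) : Set Q).ncard := by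
      refine Set.ncard_le_ncard ?_ (Set.toFinite _)
      intro y hy
      simp only [Finset.coe_insert, Finset.coe_singleton, Set.mem_insert_iff, Set.mem_singleton_iff] at hy
      rcases hy with rfl | rfl | rfl
      · exact one_mem _
      · exact hz
      · exact hx
    have h5 : ((center Q : Subgroup Q) : Set Q).ncard = 2 := by rw [← Nat.card_coe_set_eq]; exact h2
    rw [Set.ncard_coe_finset, h3, h5] at h4
    omega
  have hcomm : ∀ x ∈ Q', ∀ y ∈ Q', x * y * x⁻¹ = y ∨ x * y * x⁻¹ = th a * y := by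
    intro x hx y hy
    have h1 : (⁅(⟨⟨x, hQ'C hx⟩, (memQ' _).1 hx⟩ : Q), (⟨⟨y, hQ'C hy⟩, (memQ' _).1 hy⟩ : Q)⁆ : Q) ∈ center Q := by
      rw [← hQ.1.2.2]
      exact commutator_mem_commutator (mem_top _) (mem_top _)
    have h2 : x * y * x⁻¹ * y⁻¹ = 1 ∨ x * y * x⁻¹ * y⁻¹ = th a := hZ _ h1
    rcases h2 with h2 | h2
    · left; exact mul_inv_eq_one.1 h2
    · right; exact mul_inv_eq_iff_eq_mul.1 h2
  -- the normaliser of `A` in `C` has odd index
  obtain ⟨M, hM⟩ : ∃ M, M = normalizer (h.A : Set K) ⊓ centralizer {th a} := ⟨_, rfl⟩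
  have hMC : M ≤ C := by
    rw [hM]
    intro x hx
    exact (hC x).2 (mem_centralizer_singleton_iff.1 hx.2)
  have hMd : 1474560 ∣ Nat.card M := by rw [hM]; exact dvd_card_inf h ha
  obtain ⟨MC, hMC'⟩ : ∃ MC, MC = M.subgroupOf C := ⟨_, rfl⟩
  have hMCcard : Nat.card MC = Nat.card M := by
    rw [hMC']
    exact Nat.card_congr (subgroupOfEquivOfLe hMC).toEquiv
  have hidx : MC.index ∣ 63 := by
    obtain ⟨k, hk⟩ := hMd
    have h1 := MC.card_mul_index
    rw [hMCcard, hk, hcard] at h1
    refine ⟨k, ?_⟩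
    have h2 : 1474560 * (MC.index * k) = 1474560 * 63 := by rw [← mul_assoc, mul_comm 1474560 MC.index,
      mul_assoc MC.index, mul_comm MC.index, h1]
    exact (Nat.eq_of_mul_eq_mul_left (by norm_num) h2).symm
  have hodd : ¬ 2 ∣ MC.index := fun h2 => absurd (h2.trans hidx) (by decide)
  have hQM : Q ≤ MC := le_of_odd_index Nat.prime_two hQ9 hodd
  have hQ'N : ∀ x ∈ Q', ∀ v, ∃ u, x * th v * x⁻¹ = th u := by
    intro x hx
    have h1 := hQM ((memQ' ⟨x, hQ'C hx⟩).1 hx)
    rw [hMC', mem_subgroupOf, hM] at h1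
    exact h.mem_normalizer.1 h1.1
  -- the elements of `Q` move `A` inside `A ∩ Q`
  have hmove : ∀ x ∈ Q', ∀ v u, x * th v * x⁻¹ = th u → th (v + u) ∈ Q' := by
    intro x hx v u hu
    have h1 : th (v + u) = x⁻¹⁻¹ * (th v * x⁻¹ * (th v)⁻¹) := by
      rw [inv_inv, ← mul_assoc, ← mul_assoc, hu, h.inv, ← h.add, add_comm]
    rw [h1, inv_inv]
    exact Q'.mul_mem hx (hQ'n _ (hAC v) _ (Q'.inv_mem hx))
  have hsmall : ¬ ∀ x ∈ Q', ∀ v, x * th v * x⁻¹ = th v ∨ x * th v * x⁻¹ = th (v + a) := by
    intro hh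
    have := card_le_of_small h ha hQ'p hh
    rw [hQ'card] at this
    norm_num at this
  rcases h.inter_cases ha Q' (fun k _ hk x hx => hQ'n k ((hC k).2 hk) x hx) with h0 | h0 | h0 | h0
  · exact ha ((h0 a).1 ((memQ' ⟨th a, haC⟩).2 hzQ))
  · apply hsmall
    intro x hx v
    obtain ⟨u, hu⟩ := hQ'N x hx v
    rcases (h0 _).1 (hmove x hx v u hu) with h1 | h1
    · left; rw [hu, (add_eq_zero_iff _ _).1 h1]
    · right
      rw [hu, ← h1, ← add_assoc, v_add_self, zero_add]
  · -- the main case
    obtain ⟨b, hb⟩ := exists_om ha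
    obtain ⟨φ, hφ, hφk⟩ : ∃ φ : C →* alternatingGroup (Fin 9), Function.Surjective φ ∧ ∀ x, φ x = 1 ↔ x ∈ Q :=
      ⟨(e : C ⧸ Q →* alternatingGroup (Fin 9)).comp (QuotientGroup.mk' Q),
        e.surjective.comp (QuotientGroup.mk'_surjective Q), fun x => by
          rw [← QuotientGroup.eq_one_iff (N := Q) x]
          exact e.map_eq_one_iff⟩
    obtain ⟨bb, hbb⟩ : ∃ bb, bb = φ ⟨th b, hAC b⟩ := ⟨_, rfl⟩
    have hb1 : bb ≠ 1 := by
      rw [hbb, Ne, hφk, ← memQ']
      intro hh
      have := (h0 b).1 hh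
      rw [hb] at this
      exact absurd this (by decide)
    have hb2 : bb * bb = 1 := by
      rw [hbb, ← map_mul]
      have : (⟨th b, hAC b⟩ * ⟨th b, hAC b⟩ : C) = 1 := Subtype.ext (h.sq b)
      rw [this, map_one]
    refine alt9 bb hb2 hb1 ?_
    have hle : MC.map φ ≤ centralizer ({bb} : Set (alternatingGroup (Fin 9))) := by
      rintro _ ⟨x, hx, rfl⟩
      rw [mem_centralizer_singleton_iff, hbb, ← map_mul, ← map_mul]
      have hx' : (x : K) ∈ M := by
        have : x ∈ MC := hx
        rwa [hMC', mem_subgroupOf] at this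
      rw [hM] at hx'
      obtain ⟨g, hg, hg'⟩ := h.exists_isom_of_mem hx'.1
      have hga : g a = a := h.inj (by
        rw [← hg', mem_centralizer_singleton_iff.1 hx'.2, mul_inv_cancel_right])
      have h2 : om a (g b + b) = 0 := by
        rw [om_add_right, hb]
        nth_rewrite 1 [← hga]
        rw [hg, hb]; exact z2_add_self 1
      have h3 : φ (⟨th (g b + b), hAC _⟩) = 1 := by
        rw [hφk, ← memQ']
        exact (h0 _).2 h2
      have h4 : x * ⟨th b, hAC b⟩ = ⟨th (g b + b), hAC _⟩ * (⟨th b, hAC b⟩ * x) := by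
        apply Subtype.ext
        show (x : K) * th b = th (g b + b) * (th b * x)
        rw [← mul_assoc, ← h.add, add_add_self, ← hg', inv_mul_cancel_right]
      rw [h4, map_mul, h3, one_mul]
    refine dvd_trans ?_ (card_dvd_of_le hle)
    -- the order of the image
    have h5 : Nat.card (MC.map φ) * Nat.card Q = Nat.card MC := by
      let ψ : MC →* MC.map φ := φ.subgroupMap MC
      have hψ : Function.Surjective ψ := φ.subgroupMap_surjective MC
      have h6 : Nat.card ψ.ker = Nat.card Q := by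
        refine Nat.card_congr ⟨fun x => ⟨x.1.1, ?_⟩, fun x => ⟨⟨x.1, hQM x.2⟩, ?_⟩, fun _ => rfl, fun _ => rfl⟩
        · exact (hφk _).1 (congrArg Subtype.val x.2)
        · exact Subtype.ext ((hφk _).2 x.2)
      rw [← h6, ← Nat.card_congr (QuotientGroup.quotientKerEquivOfSurjective ψ hψ).toEquiv,
        ← card_eq_card_quotient_mul_card_subgroup]
    rw [hMCcard, hQ9] at h5
    obtain ⟨k, hk⟩ := hMd
    rw [hk] at h5
    refine ⟨9 * k, ?_⟩
    have h7 : 2 ^ 9 * Nat.card (MC.map φ) = 2 ^ 9 * (320 * (9 * k)) := by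
      rw [mul_comm, h5]; ring
    exact Nat.eq_of_mul_eq_mul_left (by norm_num) h7
  · apply hsmall
    intro x hx v
    rcases hcomm x hx (th v) (h0 v) with h1 | h1
    · left; exact h1
    · right; rw [h1, ← h.add, add_comm]

theorem thompson (hK : Spor.IsoTh K) (h : Sit th O K0) : False := by
  obtain ⟨e⟩ := hK
  have hf : Finite Spor.Th := Cfsg.Agent.Th.Main1700.final.1
  have h1 := congr h e
  obtain ⟨a, ha⟩ : ∃ v : V, v ≠ 0 := ⟨Pi.single (Sum.inl 0) 1, by decide⟩
  have ho : orderOf (e (th a)) = 2 := by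
    refine orderOf_eq_prime ?_ fun h0 => ha ((h1.eq_one_iff a).1 h0)
    rw [pow_two]; exact h1.sq a
  obtain ⟨c, hc⟩ := isConj_iff.1 (Cfsg.Agent.MonsterX.ThOneClass.oneClass _ _ ho
    Cfsg.Agent.MonsterX.ThOneClass.orderOf_a)
  have h2 := congr h1 (MulAut.conj c)
  obtain ⟨Q, hn, h3, h4, h5, ⟨e'⟩⟩ := Cfsg.Agent.MonsterX.ThOneClass.struct
  refine no_nine h2 ha (fun x => ?_) Cfsg.Agent.MonsterX.ThOneClass.card_a h3 h4 h5 e'
  rw [mem_centralizer_singleton_iff]
  have : (MulAut.conj c) (e (th a)) = Cfsg.Agent.Th.IndexUpper.gTh 1 := hc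
  rw [this]

end Cfsg.Agent.H265.SpSix
end

-- part: H265/SpSix/Row
section
/-!
# The sporadic rows except `Fi₂₂`, `Fi₂₄'`, `B`, `M`
-/

set_option autoImplicit false

namespace Cfsg.Agent.H265.SpSix

open Cfsg Cfsg.Agent.H336.SpSix

variable {K : Type*} [Group K] {th : V → K} {O K0 : Subgroup K}

theorem no_card (h : Sit th O K0) {n : ℕ} (hn : Nat.card K = n) (hd : ¬ 92897280 ∣ n) : False := by
  have := h.card_dvd
  rw [hn] at this
  exact hd this

/-- the sporadic groups containing the configuration -/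
theorem row_sporA (hK : IsSporadicGroup K) (h : Sit th O K0) :
    Spor.IsoFi22 K ∨ Spor.IsoFi24' K ∨ Spor.IsoB K ∨ Spor.IsoM K := by
  rcases hK with hK | hK | hK | hK | hK | hK | hK | hK | hK | hK | hK | hK | hK | hK | hK | hK | hK | hK | hK | hK |
    hK | hK | hK | hK | hK | hK
  · exact (no_card h (NotCT.Orders.m11 hK) (by norm_num)).elim
  · exact (no_card h (NotCT.Orders.m12 hK) (by norm_num)).elim
  · exact (no_card h (NotCT.Orders.m22 hK) (by norm_num)).elim
  · exact (no_card h (NotCT.Orders.m23 hK) (by norm_num)).elim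
  · exact (no_card h (NotCT.Orders.m24 hK) (by norm_num)).elim
  · exact (no_card h (NotCT.Orders.j1 hK) (by norm_num)).elim
  · exact (no_card h (NotCT.Orders.j2 hK) (by norm_num)).elim
  · exact (no_card h (NotCT.Orders.j3 hK) (by norm_num)).elim
  · exact (no_card h (NotCT.Orders.j4 hK) (by norm_num)).elim
  · exact (co1 hK h).elim
  · exact (co2 hK h).elim
  · exact (no_card h (NotCT.Orders.co3 hK) (by norm_num)).elim
  · exact (no_card h (NotCT.Orders.mcl hK) (by norm_num)).elim
  · exact (no_card h (NotCT.Orders.hs hK) (by norm_num)).elim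
  · exact (no_card h (NotCT.Orders.suz hK) (by norm_num)).elim
  · exact (no_card h (NotCT.Orders.he hK) (by norm_num)).elim
  · exact (no_card h (NotCT.Orders.ru hK) (by norm_num)).elim
  · exact (no_card h (NotCT.Orders.on hK) (by norm_num)).elim
  · exact (no_card h (NotCT.Orders.ly hK) (by norm_num)).elim
  · exact Or.inl hK
  · exact (fi23 hK h).elim
  · exact Or.inr (Or.inl hK)
  · exact (no_card h (NotCT.Orders.hn hK) (by norm_num)).elim
  · exact (thompson hK h).elim
  · exact Or.inr (Or.inr (Or.inl hK))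
  · exact Or.inr (Or.inr (Or.inr hK))

end Cfsg.Agent.H265.SpSix
end

-- part: H834/SpEndA
section
/-!
# No elementary abelian subgroup of order 64 with normaliser `Sp_6(2)` beside an extraspecial group (helper834)

Let `z = th a0` and let `Q` be an extraspecial group of order `2 ^ 11` with centre `⟨z⟩`, normal in `C(z)` with
`C(z) / Q` of order 51840, and let `d ∈ Q` be an involution such that `{d, d z}` is invariant under `C(z)` and
`d ∉ A`.  This is impossible (proof of helper296): consider `A ∩ Q`.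
-/

set_option autoImplicit false

namespace Cfsg.Agent.H834.SpEnd

open Subgroup Cfsg.Agent.H336.SpSix
open Cfsg.Agent.H832.ThreeProd (orb card_orb)

theorem card_mul_relIndex_inf {G : Type*} [Group G] (H K : Subgroup G) :
    Nat.card (H ⊓ K : Subgroup G) * H.relIndex K = Nat.card K := by
  rw [← card_mul_index (H.subgroupOf K)]
  congr 1
  rw [← subgroupOf_map_subtype, ← Nat.card_congr ((H.subgroupOf K).equivMapOfInjective _ K.subtype_injective).toEquiv]

theorem card_mul_relIndex {G : Type*} [Group G] {H K : Subgroup G} (h : H ≤ K) :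
    Nat.card H * H.relIndex K = Nat.card K := by
  rw [← card_mul_relIndex_inf H K, inf_eq_left.2 h]

/-- an isometry moving every vector by `0` or `a` fixes `a^⊥` -/
theorem fix_perp {a : V} (ha : a ≠ 0) {g : V ≃+ V} (hg : Isom g) (h : ∀ v, g v = v ∨ g v = v + a) (v : V)
    (hv : om a v = 0) : g v = v := by
  rcases h v with h1 | h1
  · exact h1
  exfalso
  obtain ⟨u, hu⟩ := exists_om ha
  have h2 := hg u v
  rw [h1] at h2
  rcases h u with h3 | h3 <;> rw [h3] at h2
  · rw [om_add_right, om_comm u a, hu, add_eq_left] at h2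
    exact absurd h2 (by decide)
  · rw [om_add_right, om_add_left, om_add_left, om_self, om_comm u a, hu, hv, add_zero, add_zero,
      add_eq_left] at h2
    exact absurd h2 (by decide)

theorem card_V : Nat.card V = 64 := by simp [V]

/-- a vector outside and a further vector in `a^⊥` -/
theorem exists_pair {a : V} (ha : a ≠ 0) : ∃ u w : V, om a u = 1 ∧ om a w = 0 ∧ w ≠ 0 ∧ w ≠ a := by
  obtain ⟨u, hu⟩ := exists_om ha
  obtain ⟨c, hc⟩ : ∃ c : V, c ∉ ({0, a, u, a + u} : Finset V) := by
    by_contra hcon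
    push Not at hcon
    have h1 : (Finset.univ : Finset V) ⊆ {0, a, u, a + u} := fun c _ => hcon c
    have h2 := Finset.card_le_card h1
    have h3 : (Finset.univ : Finset V).card = 64 := by simp [V]
    have h4 : ({0, a, u, a + u} : Finset V).card ≤ 4 := Finset.card_le_four
    omega
  simp only [Finset.mem_insert, Finset.mem_singleton, not_or] at hc
  obtain ⟨c0, c1, c2, c3⟩ := hc
  refine ⟨u, c + om a c • u, hu, ?_, ?_, ?_⟩
  · rw [om_add_right, om_smul_right, hu, mul_one, z2_add_self]
  · rcases z2 (om a c) with h1 | h1 <;> rw [h1]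
    · rw [zero_smul, add_zero]; exact c0
    · rw [one_smul]; intro hh; exact c2 ((add_eq_zero_iff _ _).1 hh)
  · rcases z2 (om a c) with h1 | h1 <;> rw [h1]
    · rw [zero_smul, add_zero]; exact c1
    · rw [one_smul]; intro hh; exact c3 (by rw [← hh, add_add_self])

theorem card_perp {a : V} (ha : a ≠ 0) : Nat.card {v : V // om a v = 0} = 32 := by
  let f : V →+ ZMod 2 := { toFun := om a, map_zero' := om_zero_right a, map_add' := fun u v => om_add_right a u v }
  have hf : Function.Surjective f := by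
    intro x
    obtain ⟨u, hu⟩ := exists_om ha
    rcases z2 x with rfl | rfl
    · exact ⟨0, om_zero_right a⟩
    · exact ⟨u, hu⟩
  have h1 := f.ker.card_mul_index
  rw [AddSubgroup.index_ker, AddMonoidHom.range_eq_top.2 hf, AddSubgroup.card_top, card_V, Nat.card_zmod] at h1
  have h2 : Nat.card {v : V // om a v = 0} = Nat.card f.ker := rfl
  rw [h2]
  omega

variable {G : Type*} [Group G] {th : V → G} {O K0 : Subgroup G}

/-- an element of 2-power order moving each `th v` by `1` or `th a` -/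
theorem act_cases (h : Sit th O K0) {a : V} (ha : a ≠ 0) {q : G}
    (hq : ∀ v, q * th v * q⁻¹ = th v ∨ q * th v * q⁻¹ = th (v + a)) {n : ℕ} (h2 : q ^ 2 ^ n = 1) :
    q ∈ h.A ∨ ∀ v, q * th v * q⁻¹ = th (tv a v) := by
  have hqN : q ∈ normalizer (h.A : Set G) := h.mem_normalizer.2 fun v => by
    rcases hq v with h1 | h1
    · exact ⟨_, h1⟩
    · exact ⟨_, h1⟩
  obtain ⟨g, hg, hg'⟩ := h.exists_isom_of_mem hqN
  have h3 : ∀ v, g v = v ∨ g v = v + a := by
    intro v
    rcases hq v with h1 | h1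
    · exact Or.inl (h.inj ((hg' v).symm.trans h1))
    · exact Or.inr (h.inj ((hg' v).symm.trans h1))
  rcases h.act_of_perp ha hqN (fun v hv => by
    have h4 := hg' v
    rw [fix_perp ha hg h3 v hv] at h4
    exact mul_inv_eq_iff_eq_mul.1 h4) with h5 | h5
  · left
    exact h.mem_of_sq (fun v => mul_inv_eq_iff_eq_mul.1 (h5 v)) h2
  · exact Or.inr h5

/-- a 2-group `P` with `[P, A] ≤ ⟨th a⟩` satisfies `|P| ≤ 2 |P ∩ A|` -/
theorem card_le_two [Finite G] (h : Sit th O K0) {a : V} (ha : a ≠ 0) (P : Subgroup G) (hP : IsPGroup 2 P)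
    (hq : ∀ q ∈ P, ∀ v, q * th v * q⁻¹ = th v ∨ q * th v * q⁻¹ = th (v + a)) :
    Nat.card P ≤ 2 * Nat.card (P ⊓ h.A : Subgroup G) := by
  have hpow : ∀ q ∈ P, ∃ n : ℕ, q ^ 2 ^ n = 1 := by
    intro q hqP
    obtain ⟨n, hn⟩ := hP ⟨q, hqP⟩
    exact ⟨n, congrArg Subtype.val hn⟩
  have hcase : ∀ q ∈ P, q ∈ h.A ∨ ∀ v, q * th v * q⁻¹ = th (tv a v) := by
    intro q hqP
    obtain ⟨n, hn⟩ := hpow q hqP
    exact act_cases h ha (hq q hqP) hn
  by_cases hall : P ≤ h.A
  · rw [inf_eq_left.2 hall]
    omega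
  · obtain ⟨q0, hq0, hq0A⟩ := SetLike.not_le_iff_exists.1 hall
    have ht0 := (hcase q0 hq0).resolve_left hq0A
    have hsub : (P : Set G) ⊆ ((P ⊓ h.A : Subgroup G) : Set G) ∪
        (fun x => q0 * x) '' ((P ⊓ h.A : Subgroup G) : Set G) := by
      intro q hqP
      rcases hcase q hqP with h1 | h1
      · exact Or.inl ⟨hqP, h1⟩
      · right
        have hm : q0⁻¹ * q ∈ P := mul_mem (inv_mem hq0) hqP
        obtain ⟨n, hn⟩ := hpow _ hm
        refine ⟨q0⁻¹ * q, ⟨hm, h.mem_of_sq (fun v => ?_) hn⟩, mul_inv_cancel_left _ _⟩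
        have h2 : q * th v * q⁻¹ = q0 * th v * q0⁻¹ := by rw [h1, ht0]
        calc q0⁻¹ * q * th v = q0⁻¹ * (q * th v * q⁻¹) * q := by group
          _ = q0⁻¹ * (q0 * th v * q0⁻¹) * q := by rw [h2]
          _ = th v * (q0⁻¹ * q) := by group
    have h1 : Nat.card P = (P : Set G).ncard := rfl
    have h2 : Nat.card (P ⊓ h.A : Subgroup G) = ((P ⊓ h.A : Subgroup G) : Set G).ncard := rfl
    rw [h1, h2]
    calc (P : Set G).ncard ≤ _ := Set.ncard_le_ncard hsub (Set.toFinite _)
      _ ≤ _ := Set.ncard_union_le _ _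
      _ ≤ _ := Nat.add_le_add_left (Set.ncard_image_le (Set.toFinite _)) _
      _ = _ := by ring

/-- the number of `v` with a property bounds the intersection with `A` -/
theorem card_inf_le (h : Sit th O K0) (P : Subgroup G) (s : Set V) (hs : ∀ v, th v ∈ P → v ∈ s) :
    Nat.card (P ⊓ h.A : Subgroup G) ≤ s.ncard := by
  have h1 : ((P ⊓ h.A : Subgroup G) : Set G) ⊆ th '' s := by
    rintro x ⟨hxP, v, rfl⟩
    exact ⟨v, hs v hxP, rfl⟩
  have h2 : Nat.card (P ⊓ h.A : Subgroup G) = ((P ⊓ h.A : Subgroup G) : Set G).ncard := rfl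
  rw [h2]
  exact (Set.ncard_le_ncard h1 (Set.toFinite _)).trans (Set.ncard_image_le (Set.toFinite _))

/-- the situation -/
structure Dat (h : Sit th O K0) (a : V) (Q : Subgroup G) (d : G) : Prop where
  ha : a ≠ 0
  j_mem : th a ∈ Q
  comm : ∀ x ∈ Q, ∀ y ∈ Q, x * y = y * x ∨ x * y = th a * (y * x)
  sq : ∀ q ∈ Q, q * q = 1 ∨ q * q = th a
  cent : ∀ g, (∀ q ∈ Q, q * g = g * q) → g = 1 ∨ g = th a
  normal : ∀ g, g * th a = th a * g → ∀ q ∈ Q, g * q * g⁻¹ ∈ Q
  card : Nat.card Q = 2 ^ 11
  cardC : Nat.card (centralizer ({th a} : Set G)) = 51840 * 2 ^ 11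
  d_mem : d ∈ Q
  dd : d * d = 1
  dA : d ∉ h.A
  dj : ∀ g, g * th a = th a * g → g * d * g⁻¹ = d ∨ g * d * g⁻¹ = d * th a

namespace Dat

variable {h : Sit th O K0} {a : V} {Q : Subgroup G} {d : G} (D : Dat h a Q d)
include D

theorem isPGroup : IsPGroup 2 Q := IsPGroup.of_card D.card

theorem pow_one {q : G} (hq : q ∈ Q) : q ^ 2 ^ 2 = 1 := by
  have h1 : q ^ 2 ^ 2 = (q * q) * (q * q) := by
    rw [show (2 : ℕ) ^ 2 = 2 + 2 from rfl, pow_add, pow_two]
  rw [h1]
  rcases D.sq q hq with h2 | h2 <;> rw [h2]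
  · rw [one_mul]
  · exact h.sq a

/-- `C_A(d)` -/
theorem d_comm (v : V) (hv : om a v = 0) : d * th v = th v * d := by
  have hx := h.inter_cases D.ha (centralizer ({d, d * th a} : Set G)) (by
    intro k _ hk x hx
    have hk' : k⁻¹ * th a = th a * k⁻¹ := by
      rw [inv_mul_eq_iff_eq_mul, ← mul_assoc, hk, mul_inv_cancel_right]
    have hja : ∀ g : G, g * th a = th a * g → g * (d * th a) * g⁻¹ = (g * d * g⁻¹) * th a := by
      intro g hg
      calc g * (d * th a) * g⁻¹ = g * d * g⁻¹ * (g * th a) * g⁻¹ := by group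
        _ = g * d * g⁻¹ * (th a * g) * g⁻¹ := by rw [hg]
        _ = _ := by group
    have hmem : ∀ y ∈ ({d, d * th a} : Set G), k⁻¹ * y * k ∈ ({d, d * th a} : Set G) := by
      have hddj := D.dj _ hk'
      rw [inv_inv] at hddj
      rintro y (rfl | rfl)
      · rcases hddj with h1 | h1 <;> rw [h1]
        · exact Or.inl rfl
        · exact Or.inr rfl
      · have h2 := hja _ hk'
        rw [inv_inv] at h2
        rw [h2]
        rcases hddj with h1 | h1 <;> rw [h1]
        · exact Or.inr rfl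
        · left
          rw [mul_assoc, h.sq, mul_one]
    rw [mem_centralizer_iff] at hx ⊢
    intro y hy
    have h1 := hx _ (hmem y hy)
    calc y * (k * x * k⁻¹) = k * ((k⁻¹ * y * k) * x) * k⁻¹ := by group
      _ = k * (x * (k⁻¹ * y * k)) * k⁻¹ := by rw [h1]
      _ = _ := by group)
  have hiff : ∀ v, th v ∈ centralizer ({d, d * th a} : Set G) ↔ d * th v = th v * d := by
    intro v
    rw [mem_centralizer_iff]
    constructor
    · exact fun h1 => h1 d (Or.inl rfl)
    · rintro h1 y (rfl | rfl)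
      · exact h1
      · rw [mul_assoc, h.comm a v, ← mul_assoc, h1, mul_assoc]
  simp only [hiff] at hx
  -- the swapping elements multiply to a fixing element
  have hadd : ∀ u v, ¬ (d * th u = th u * d) → ¬ (d * th v = th v * d) → d * th (u + v) = th (u + v) * d := by
    intro u v hu hv
    have h1 := (D.dj _ (h.comm u a)).resolve_left fun hh => hu (mul_inv_eq_iff_eq_mul.1 hh).symm
    have h2 := (D.dj _ (h.comm v a)).resolve_left fun hh => hv (mul_inv_eq_iff_eq_mul.1 hh).symm
    have h3 : th (u + v) * d * (th (u + v))⁻¹ = d := by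
      rw [h.add, mul_inv_rev]
      calc th u * th v * d * ((th v)⁻¹ * (th u)⁻¹) = th u * (th v * d * (th v)⁻¹) * (th u)⁻¹ := by group
        _ = (th u * d * (th u)⁻¹) * (th u * th a * (th u)⁻¹) := by rw [h2]; group
        _ = d * th a * th a := by rw [h1, h.comm u a, mul_inv_cancel_right]
        _ = d := by rw [mul_assoc, h.sq, mul_one]
    exact (mul_inv_eq_iff_eq_mul.1 h3).symm
  rcases hx with h1 | h1 | h1 | h1
  · exfalso
    have h2 : d * th a = th a * d := by
      rcases D.comm d D.d_mem (th a) D.j_mem with h3 | h3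
      · exact h3
      · exfalso
        -- `d (th a) = (th a) (th a) d = d`
        rw [← mul_assoc, h.sq, one_mul] at h3
        exact D.ha ((h.eq_one_iff a).1 (mul_eq_left.1 h3))
    exact D.ha ((h1 a).1 h2)
  · exfalso
    obtain ⟨u, w, hu, hw, hw0, hwa⟩ := exists_pair D.ha
    have hu1 : ¬ (d * th u = th u * d) := by
      intro hh
      rcases (h1 u).1 hh with rfl | rfl
      · rw [om_zero_right] at hu; exact absurd hu (by decide)
      · rw [om_self] at hu; exact absurd hu (by decide)
    have hw1 : ¬ (d * th w = th w * d) := by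
      intro hh
      rcases (h1 w).1 hh with h2 | h2
      · exact hw0 h2
      · exact hwa h2
    have h3 := (h1 _).1 (hadd u w hu1 hw1)
    have h4 : om a (u + w) = 1 := by rw [om_add_right, hu, hw, add_zero]
    rcases h3 with h3 | h3 <;> rw [h3] at h4
    · rw [om_zero_right] at h4; exact absurd h4 (by decide)
    · rw [om_self] at h4; exact absurd h4 (by decide)
  · exact (h1 v).2 hv
  · exfalso
    exact D.dA (h.mem_of_mul_self (fun v => h1 v) D.dd)

/-- the first case: `A ≤ Q` -/
theorem case_top [Finite G] (hA : ∀ v, th v ∈ Q) : False := by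
  have h1 := card_le_two h D.ha Q D.isPGroup (fun q hq v => by
    rcases D.comm q hq _ (hA v) with h1 | h1
    · left; rw [h1, mul_inv_cancel_right]
    · right; rw [h1, ← mul_assoc, mul_inv_cancel_right, add_comm, h.add])
  have h2 := card_inf_le h Q Set.univ fun v _ => Set.mem_univ v
  rw [Set.ncard_univ, card_V] at h2
  rw [D.card] at h1
  omega

theorem cardN [Finite G] (hA : ∀ v, th v ∈ Q ↔ v = 0 ∨ v = a) : Nat.card (Q ⊓ normalizer (h.A : Set G) : Subgroup G) ≤ 4 := by
  have hP : IsPGroup 2 (Q ⊓ normalizer (h.A : Set G) : Subgroup G) := D.isPGroup.to_le inf_le_left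
  have h1 := card_le_two h D.ha (Q ⊓ normalizer (h.A : Set G)) hP (by
    rintro q ⟨hq, hqN⟩ v
    obtain ⟨u, hu⟩ := h.mem_normalizer.1 hqN v
    have h2 : th (u + v) ∈ Q := by
      have h3 := D.normal (th v) (h.comm v a) q⁻¹ (inv_mem hq)
      have h4 : th (u + v) = q * (th v * q⁻¹ * (th v)⁻¹) := by
        rw [h.add, ← hu, h.inv]; group
      rw [h4]
      exact mul_mem hq h3
    rcases (hA _).1 h2 with h3 | h3
    · left; rw [hu, (add_eq_zero_iff _ _).1 h3]
    · right; rw [hu]; congr 1
      rw [← h3, add_comm u v, self_add_add])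
  have h2 := card_inf_le h (Q ⊓ normalizer (h.A : Set G)) {0, a} (fun v hv => by
    rcases (hA v).1 hv.1 with h3 | h3
    · exact Or.inl h3
    · exact Or.inr h3)
  have h3 : ({0, a} : Set V).ncard ≤ 2 := (Set.ncard_insert_le _ _).trans (by rw [Set.ncard_singleton])
  omega

/-- the second case: `A ∩ Q = ⟨th a⟩` -/
theorem case_two [Finite G] (hA : ∀ v, th v ∈ Q ↔ v = 0 ∨ v = a) : False := by
  have h1 := D.cardN hA
  have h2 := Nat.le_of_dvd Nat.card_pos h.card_dvd_normalizer
  set N := normalizer (h.A : Set G) with hN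
  set C := centralizer ({th a} : Set G) with hC
  -- `|N| ≤ 63 |N ∩ C|`
  have hQC : Q ≤ C := by
    intro q hq
    rw [hC, mem_centralizer_singleton_iff]
    rcases D.comm q hq _ D.j_mem with h3 | h3
    · exact h3
    · rw [h3]
      exfalso
      rw [← mul_assoc, h.sq, one_mul] at h3
      exact D.ha ((h.eq_one_iff a).1 (mul_eq_left.1 h3))
  have h3 : Nat.card N ≤ 64 * Nat.card (N ⊓ C : Subgroup G) := by
    have h4 := card_orb N (th a)
    rw [h4]
    apply Nat.mul_le_mul_right
    have h5 : orb N (th a) ⊆ Set.range th := by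
      rintro _ ⟨n, hn, rfl⟩
      obtain ⟨u, hu⟩ := h.mem_normalizer.1 hn a
      exact ⟨u, hu.symm⟩
    refine (Set.ncard_le_ncard h5 (Set.toFinite _)).trans ?_
    rw [← Set.image_univ]
    refine (Set.ncard_image_le (Set.toFinite _)).trans ?_
    rw [Set.ncard_univ, card_V]
  -- `|N ∩ C| ≤ |N ∩ Q| |C : Q|`
  have h4 : Q.relIndex C = 51840 := by
    have h5 := card_mul_relIndex hQC
    rw [D.card, hC, D.cardC] at h5
    rw [hC]
    omega
  have h5 : Q.relIndex (N ⊓ C) ≤ 51840 := by
    rw [← h4]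
    exact relIndex_le_of_le_right inf_le_right (by rw [h4]; norm_num)
  have h6 := card_mul_relIndex_inf Q (N ⊓ C)
  have h8 : Q ⊓ (N ⊓ C) = Q ⊓ N :=
    le_antisymm (le_inf inf_le_left (inf_le_right.trans inf_le_left))
      (le_inf inf_le_left (le_inf inf_le_right (inf_le_left.trans hQC)))
  rw [h8] at h6
  rw [← h6] at h3
  have h7 : Nat.card (Q ⊓ N : Subgroup G) * Q.relIndex (N ⊓ C) ≤ 4 * 51840 := Nat.mul_le_mul h1 h5
  omega

theorem j_cen {q : G} (hq : q ∈ Q) : q * th a = th a * q := by
  rcases D.comm q hq _ D.j_mem with h3 | h3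
  · exact h3
  · rw [h3]
    exfalso
    rw [← mul_assoc, h.sq, one_mul] at h3
    exact D.ha ((h.eq_one_iff a).1 (mul_eq_left.1 h3))

theorem center_iff (x : Q) : x ∈ center Q ↔ (x : G) = 1 ∨ (x : G) = th a := by
  rw [mem_center_iff]
  constructor
  · intro h1
    exact D.cent x fun q hq => congrArg Subtype.val (h1 ⟨q, hq⟩)
  · rintro (h1 | h1) y
    · apply Subtype.ext
      show (y : G) * x = x * y
      rw [h1, mul_one, one_mul]
    · apply Subtype.ext
      show (y : G) * x = x * y
      rw [h1]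
      exact D.j_cen y.2

theorem card_center : Nat.card (center Q) = 2 := by
  have hm : (center Q : Set Q) = {1, ⟨th a, D.j_mem⟩} := by
    ext q
    rw [SetLike.mem_coe, D.center_iff, Set.mem_insert_iff, Set.mem_singleton_iff]
    constructor
    · rintro (h1 | h1)
      · exact Or.inl (Subtype.ext h1)
      · exact Or.inr (Subtype.ext h1)
    · rintro (rfl | rfl)
      · exact Or.inl rfl
      · exact Or.inr rfl
  have h1 : Nat.card (center Q) = (center Q : Set Q).ncard := rfl
  rw [h1, hm, Set.ncard_pair]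
  intro h2
  exact D.ha ((h.eq_one_iff a).1 (congrArg Subtype.val h2).symm)

theorem comm_le : commutator Q ≤ center Q := by
  rw [commutator_def, commutator_le]
  intro x _ y _
  rw [D.center_iff]
  rcases D.comm x x.2 y y.2 with h1 | h1
  · left
    show (x : G) * y * (x : G)⁻¹ * (y : G)⁻¹ = 1
    rw [h1]; group
  · right
    show (x : G) * y * (x : G)⁻¹ * (y : G)⁻¹ = th a
    rw [h1]; group

/-- the third case: `A ∩ Q = a^⊥` -/
theorem case_three [Finite G] (hA : ∀ v, th v ∈ Q ↔ om a v = 0) : False := by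
  have hcyc : IsCyclic (center Q) := by
    have : Fact (Nat.Prime 2) := ⟨Nat.prime_two⟩
    exact isCyclic_of_prime_card D.card_center
  set H : Subgroup Q := h.A.subgroupOf Q with hH
  have hHmem : ∀ x : Q, x ∈ H ↔ ∃ v, th v = x := fun x => by rw [hH, mem_subgroupOf]; rfl
  have hHw : ∀ x ∈ H, ∃ v, om a v = 0 ∧ th v = x := by
    intro x hx
    obtain ⟨v, hv⟩ := (hHmem x).1 hx
    exact ⟨v, (hA v).1 (by rw [hv]; exact x.2), hv⟩
  have hcen : center Q ≤ H := by
    intro x hx
    rw [hHmem]
    rcases (D.center_iff x).1 hx with h1 | h1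
    · exact ⟨0, by rw [h.zero, h1]⟩
    · exact ⟨a, h1.symm⟩
  have hcardH : Nat.card H = 32 := by
    rw [← card_perp D.ha]
    symm
    refine Nat.card_eq_of_bijective (fun v : {v : V // om a v = 0} =>
      (⟨⟨th v, (hA v).2 v.2⟩, mem_subgroupOf.2 (h.th_mem v)⟩ : H)) ⟨fun u v huv => ?_, fun x => ?_⟩
    · exact Subtype.ext (h.inj (congrArg (fun x : H => ((x : Q) : G)) huv))
    · obtain ⟨v, hv, hvx⟩ := hHw x x.2
      exact ⟨⟨v, hv⟩, Subtype.ext (Subtype.ext hvx)⟩
  have h1 := Cfsg.Agent.Lib.ClassTwoDuality.card_centralizer_mul_card D.comm_le hcyc H hcen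
  have h2 := Cfsg.Agent.Lib.ClassTwoDuality.centralizer_centralizer_eq D.comm_le hcyc H hcen
  rw [hcardH, D.card_center, D.card] at h1
  set R : Subgroup Q := centralizer (H : Set Q) with hR
  have hRc : Nat.card R = 128 := by omega
  set dq : Q := ⟨d, D.d_mem⟩ with hdq
  have hdH : dq ∉ H := by
    intro hh
    exact D.dA (mem_subgroupOf.1 hh)
  have hdR : dq ∈ R := by
    rw [hR, mem_centralizer_iff]
    intro x hx
    obtain ⟨v, hv, hvx⟩ := hHw x hx
    apply Subtype.ext
    show (x : G) * d = d * x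
    rw [← hvx]
    exact (D.d_comm v hv).symm
  obtain ⟨r, hr, hrd⟩ : ∃ r ∈ R, r * dq ≠ dq * r := by
    by_contra hcon
    push Not at hcon
    apply hdH
    rw [← h2, mem_centralizer_iff]
    exact fun y hy => hcon y hy
  -- `C_R(d) = H ∪ d H`
  have hHR : H ≤ R := by
    intro x hx
    rw [hR, mem_centralizer_iff]
    intro y hy
    obtain ⟨u, -, hu⟩ := hHw x hx
    obtain ⟨v, -, hv⟩ := hHw y hy
    apply Subtype.ext
    show (y : G) * x = x * y
    rw [← hu, ← hv]
    exact h.comm v u
  set D1 : Subgroup Q := R ⊓ centralizer ({dq} : Set Q) with hD1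
  have hmD1 : ∀ x, x ∈ D1 ↔ x ∈ R ∧ x * dq = dq * x := fun x => by
    rw [hD1, mem_inf, mem_centralizer_singleton_iff]
  have hHD1 : H ≤ D1 := by
    intro x hx
    rw [hmD1]
    refine ⟨hHR hx, ?_⟩
    exact (mem_centralizer_iff.1 hdR x hx)
  have hdD1 : dq ∈ D1 := (hmD1 _).2 ⟨hdR, rfl⟩
  have hD1R : D1 ≤ R := inf_le_left
  have e1 := card_mul_relIndex hHD1
  have e2 := card_mul_relIndex hD1R
  rw [hRc] at e2
  rw [hcardH] at e1
  have i1 : H.relIndex D1 ≠ 1 := by
    rw [Ne, relIndex_eq_one]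
    exact fun hle => hdH (hle hdD1)
  have i2 : D1.relIndex R ≠ 1 := by
    rw [Ne, relIndex_eq_one]
    exact fun hle => hrd ((hmD1 r).1 (hle hr)).2
  have i3 : H.relIndex D1 * D1.relIndex R = 4 := by
    rw [← e1, mul_assoc] at e2
    omega
  have i4 : H.relIndex D1 = 2 := by
    generalize H.relIndex D1 = x at *
    generalize D1.relIndex R = y at *
    have hx : x ≤ 4 := Nat.le_of_dvd (by norm_num) ⟨y, i3.symm⟩
    interval_cases x <;> (clear * - h D i3 i1 i2; omega)
  have hcl : ∀ y ∈ D1, y ∈ H ∨ y * dq ∈ H := by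
    intro y hy
    have h3 := mul_mem_iff_of_index_two (H := H.subgroupOf D1) i4 (a := ⟨y, hy⟩) (b := ⟨dq, hdD1⟩)
    rw [mem_subgroupOf, mem_subgroupOf, mem_subgroupOf] at h3
    by_cases hyH : y ∈ H
    · exact Or.inl hyH
    · right
      exact h3.2 ⟨fun h4 => absurd h4 hyH, fun h4 => absurd h4 hdH⟩
  have hdd : dq * dq = 1 := Subtype.ext D.dd
  -- the commutator with `d`
  have hrd' : (r : G) * d = th a * (d * r) := by
    rcases D.comm r r.2 d D.d_mem with h3 | h3
    · exact absurd (Subtype.ext h3) hrd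
    · exact h3
  have hrj : (r : G) * th a = th a * r := D.j_cen r.2
  -- conjugates of `r`
  have key : ∀ v, ∃ u, (r : G)⁻¹ * th v * r = th u := by
    intro v
    have hvj : th v * th a = th a * th v := h.comm v a
    obtain ⟨x, hx⟩ : ∃ x : Q, (x : G) = th v * r * (th v)⁻¹ := ⟨⟨_, D.normal (th v) hvj r r.2⟩, rfl⟩
    have hxR : x ∈ R := by
      rw [hR, mem_centralizer_iff]
      intro y hy
      obtain ⟨w, hw, hwy⟩ := hHw y hy
      have h3 := congrArg (fun y : Q => (y : G)) (mem_centralizer_iff.1 hr y hy)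
      have h4 : th w * (r : G) = r * th w := by rw [hwy]; exact h3
      apply Subtype.ext
      show (y : G) * x = x * y
      rw [hx, ← hwy]
      calc th w * (th v * r * (th v)⁻¹) = (th w * th v) * r * (th v)⁻¹ := by group
        _ = th v * (th w * r) * (th v)⁻¹ := by rw [h.comm w v]; group
        _ = th v * r * (th w * (th v)⁻¹) := by rw [h4]; group
        _ = th v * r * (th v)⁻¹ * th w := by rw [h.inv, h.comm w v]; group
    have hxd : ¬ ((x : G) * d = d * x) := by
      intro h3
      rw [hx] at h3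
      -- `r` commutes with `(th v)⁻¹ d (th v)`
      have h4 : (r : G) * ((th v)⁻¹ * d * th v) = ((th v)⁻¹ * d * th v) * r := by
        calc (r : G) * ((th v)⁻¹ * d * th v) = (th v)⁻¹ * (th v * r * (th v)⁻¹ * d) * th v := by group
          _ = (th v)⁻¹ * (d * (th v * r * (th v)⁻¹)) * th v := by rw [h3]
          _ = _ := by group
      have h5 := D.dj (th v)⁻¹ (by rw [h.inv]; exact hvj)
      rw [inv_inv] at h5
      apply hrd
      apply Subtype.ext
      show (r : G) * d = d * r
      rcases h5 with h5 | h5 <;> rw [h5] at h4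
      · exact h4
      · have h6 : (r : G) * d * th a = d * r * th a := by
          rw [mul_assoc, h4, mul_assoc, ← hrj, ← mul_assoc]
        exact mul_right_cancel h6
    have hxd' : (x : G) * d = th a * (d * x) := (D.comm x x.2 d D.d_mem).resolve_left hxd
    have hyD : r⁻¹ * x ∈ D1 := by
      rw [hmD1]
      refine ⟨mul_mem (inv_mem hr) hxR, ?_⟩
      apply Subtype.ext
      show (r : G)⁻¹ * x * d = d * ((r : G)⁻¹ * x)
      have h3 : (r : G)⁻¹ * th a * d = d * (r : G)⁻¹ := by
        rw [mul_assoc, inv_mul_eq_iff_eq_mul, ← mul_assoc, hrd', mul_assoc, mul_assoc, mul_inv_cancel, mul_one]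
      calc (r : G)⁻¹ * x * d = (r : G)⁻¹ * (x * d) := by group
        _ = ((r : G)⁻¹ * th a * d) * x := by rw [hxd']; group
        _ = _ := by rw [h3, mul_assoc]
    rcases hcl _ hyD with h3 | h3
    · obtain ⟨u, hu⟩ := (hHmem _).1 h3
      have hu' : th u = (r : G)⁻¹ * x := hu
      refine ⟨u + v, ?_⟩
      rw [h.add, hu', hx]
      group
    · exfalso
      obtain ⟨u, hu, hux⟩ := hHw _ h3
      have hu' : th u = (r : G)⁻¹ * x * d := hux
      -- `x = r (th u) d`
      have hx2 : (x : G) = r * th u * d := by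
        rw [hu']
        calc (x : G) = r * ((r : G)⁻¹ * x) * (d * d) := by rw [D.dd]; group
          _ = _ := by group
      have hud : d * th u = th u * d := D.d_comm u hu
      have hru : (r : G) * th u = th u * r := by
        obtain ⟨y, hy⟩ : ∃ y : Q, (y : G) = th u := ⟨⟨th u, (hA u).2 hu⟩, rfl⟩
        have hyH : y ∈ H := (hHmem y).2 ⟨u, hy.symm⟩
        have h4 := congrArg (fun y : Q => (y : G)) (mem_centralizer_iff.1 hr y hyH)
        rw [← hy]
        exact h4.symm
      have hxx : (x : G) * x = th a * (r * r) := by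
        rw [hx2]
        calc (r : G) * th u * d * (r * th u * d) = (r * th u) * (d * (r * th u)) * d := by group
          _ = (th u * r) * (d * (th u * r)) * d := by rw [hru]
          _ = th u * r * (d * th u) * (r * d) := by group
          _ = th u * r * (th u * d) * (th a * (d * r)) := by rw [hud, hrd']
          _ = th u * (r * th u) * (d * th a) * d * r := by group
          _ = th u * (th u * r) * (th a * d) * d * r := by rw [hru, D.j_cen D.d_mem]
          _ = (th u * th u) * (r * th a) * (d * d) * r := by group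
          _ = th a * (r * r) := by rw [h.sq, D.dd, hrj]; group
      have hxx' : (x : G) * x = r * r := by
        have h4 : (r : G) * r * th v = th v * (r * r) := by
          rcases D.sq r r.2 with h5 | h5 <;> rw [h5]
          · rw [one_mul, mul_one]
          · exact h.comm a v
        rw [hx]
        calc th v * r * (th v)⁻¹ * (th v * r * (th v)⁻¹) = th v * (r * r) * (th v)⁻¹ := by group
          _ = r * r := by rw [← h4, mul_inv_cancel_right]
      rw [hxx'] at hxx
      exact D.ha ((h.eq_one_iff a).1 (mul_eq_right.1 hxx.symm))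
  -- the action of `r⁻¹`
  have hrN : (r : G)⁻¹ ∈ normalizer (h.A : Set G) := h.mem_normalizer.2 fun v => by
    obtain ⟨u, hu⟩ := key v
    exact ⟨u, by rw [inv_inv]; exact hu⟩
  have hrW : ∀ v, om a v = 0 → (r : G)⁻¹ * th v = th v * (r : G)⁻¹ := by
    intro v hv
    obtain ⟨y, hy⟩ : ∃ y : Q, (y : G) = th v := ⟨⟨th v, (hA v).2 hv⟩, rfl⟩
    have hyH : y ∈ H := (hHmem y).2 ⟨v, hy.symm⟩
    have h4 : (y : G) * r = r * y := congrArg (fun y : Q => (y : G)) (mem_centralizer_iff.1 hr y hyH)
    rw [hy] at h4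
    rw [inv_mul_eq_iff_eq_mul, ← mul_assoc, ← h4, mul_inv_cancel_right]
  have hH_of : ∀ q : Q, (q : G) ∈ h.A → q * dq = dq * q := by
    intro q hq
    exact (mem_centralizer_iff.1 hdR q (mem_subgroupOf.2 hq))
  have hdact : ∀ v, d * th v * d⁻¹ = th v ∨ d * th v * d⁻¹ = th (v + a) := by
    intro v
    have hvj : th v * th a = th a * th v := h.comm v a
    rcases D.dj (th v) hvj with h3 | h3
    · left
      rw [mul_inv_eq_iff_eq_mul] at h3
      rw [← h3, mul_inv_cancel_right]
    · right
      rw [mul_inv_eq_iff_eq_mul] at h3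
      have h4 : d⁻¹ = d := inv_eq_of_mul_eq_one_left D.dd
      rw [h4, mul_assoc, h3, add_comm, h.add]
      calc d * (d * th a * th v) = (d * d) * (th a * th v) := by group
        _ = _ := by rw [D.dd, one_mul]
  rcases act_cases h D.ha hdact (n := 2) (D.pow_one D.d_mem) with h3 | h3
  · exact D.dA h3
  rcases h.act_of_perp D.ha hrN hrW with h4 | h4
  · have h5 : (r : G)⁻¹ ∈ h.A := h.mem_of_sq (fun v => mul_inv_eq_iff_eq_mul.1 (h4 v)) (n := 2)
      (D.pow_one (inv_mem r.2))
    exact hrd (hH_of r (by simpa using inv_mem h5))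
  · -- `r⁻¹ d` centralises `A`
    have hm : (r : G)⁻¹ * d ∈ Q := mul_mem (inv_mem r.2) D.d_mem
    have h5 : (r : G)⁻¹ * d ∈ h.A := h.mem_of_sq (fun v => by
      have h6 : (r : G)⁻¹ * d * th v * ((r : G)⁻¹ * d)⁻¹ = th v := by
        rw [mul_inv_rev]
        calc (r : G)⁻¹ * d * th v * (d⁻¹ * (r : G)⁻¹⁻¹) = (r : G)⁻¹ * (d * th v * d⁻¹) * (r : G)⁻¹⁻¹ := by group
          _ = th (tv a (tv a v)) := by rw [h3, h4]
          _ = th v := by
            congr 1
            exact (tv a).left_inv v
      exact mul_inv_eq_iff_eq_mul.1 h6) (n := 2) (D.pow_one hm)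
    have h6 := hH_of (r⁻¹ * dq) h5
    apply hrd
    have h7 : r⁻¹ * dq = dq * r⁻¹ := by
      have h8 : r⁻¹ * dq * dq = dq * r⁻¹ * dq := by rw [h6, mul_assoc]
      exact mul_right_cancel h8
    calc r * dq = r * (dq * r⁻¹) * r := by group
      _ = r * (r⁻¹ * dq) * r := by rw [h7]
      _ = dq * r := by group

/-- **The contradiction.** -/
theorem false [Finite G] : False := by
  rcases h.inter_cases D.ha Q (fun k _ hk x hx => D.normal k hk x hx) with h1 | h1 | h1 | h1
  · exact D.ha ((h1 a).1 D.j_mem)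
  · exact D.case_two h1
  · exact D.case_three h1
  · exact D.case_top h1

end Dat

end Cfsg.Agent.H834.SpEnd
end

-- part: H834/SpEnd
section
/-!
# `SpSix`, the END: a finite group with `F* = Fi22` in which `A` has the normaliser `Sp_6(2)` is `Fi22` (helper834)

`eq_top` : `Sit th O K0` in `G`, `K ≤ G` normal with trivial centralizer, `K ≅ Fi22`, `A ≤ K`: then `K = G`.
-/

set_option autoImplicit false

namespace Cfsg.Agent.H834.SpEnd

open Cfsg Cfsg.Spor Subgroup Cfsg.Agent.H336.SpSix Cfsg.Agent.KFacts.FiTT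
open Cfsg.Agent.OddHalf.D8.Fi22 (KTrans kTrans all_of_iso)
open Cfsg.Agent.OddHalf.D8.Fi22.Row (card_cent)
open Cfsg.Agent.H833.AutPair Cfsg.Agent.H833.AutFinal

section

variable {K : Type*} [Group K]

/-- `|C_A(conj x)|` divides `2 |C_K(x)|` -/
theorem card_cent_dvd {T : Set K} (h : KTrans K T) {a b : K} {R : Subgroup K} (F : Facts K a b R) (x : K) :
    Nat.card (centralizer ({MulAut.conj x} : Set (MulAut K))) ∣ 2 * Nat.card (centralizer ({x} : Set K)) := by
  set I : Subgroup (MulAut K) := (MulAut.conj : K →* MulAut K).range with hI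
  have hIn : I.Normal := by
    constructor
    rintro _ ⟨x, rfl⟩ α
    rw [conj_aut]
    exact ⟨_, rfl⟩
  have hcard : Nat.card (I ⊓ centralizer ({MulAut.conj x} : Set (MulAut K)) : Subgroup (MulAut K)) =
      Nat.card (centralizer ({x} : Set K)) := by
    have hm : ∀ g : centralizer ({x} : Set K),
        MulAut.conj (g : K) ∈ centralizer ({MulAut.conj x} : Set (MulAut K)) := by
      intro g
      have hg : (g : K) * x = x * g := mem_centralizer_singleton_iff.1 g.2
      rw [mem_Cz F, MulAut.conj_apply, hg, mul_inv_cancel_right]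
    symm
    apply Nat.card_eq_of_bijective (fun g : centralizer ({x} : Set K) =>
      (⟨MulAut.conj (g : K), ⟨(g : K), rfl⟩, hm g⟩ :
        (I ⊓ centralizer ({MulAut.conj x} : Set (MulAut K)) : Subgroup (MulAut K))))
    constructor
    · intro y z hyz
      exact Subtype.ext (conj_inj F (congrArg Subtype.val hyz))
    · rintro ⟨α, ⟨y, hy⟩, hα⟩
      have hy' : MulAut.conj y = α := hy
      subst hy'
      have h1 := (mem_Cz F).1 hα
      rw [MulAut.conj_apply] at h1
      exact ⟨⟨y, mem_centralizer_singleton_iff.2 (mul_inv_eq_iff_eq_mul.1 h1)⟩, rfl⟩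
  rw [← card_mul_relIndex_inf I, hcard, mul_comm 2]
  apply Nat.mul_dvd_mul_left
  refine (relIndex_dvd_index_of_normal I _).trans ?_
  rcases Cfsg.Agent.OddHalf.D8.Fi22.OutIdx.MulOuter.index_le h.out with h6 | h6 <;> rw [← hI] at h6 <;> rw [h6]
  · exact one_dvd _

theorem card_centralizer_map {L : Type*} [Group L] (e : K ≃* L) (x : K) :
    Nat.card (centralizer ({x} : Set K)) = Nat.card (centralizer ({e x} : Set L)) := by
  apply Nat.card_eq_of_bijective (fun g : centralizer ({x} : Set K) =>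
    (⟨e g, mem_centralizer_singleton_iff.2 (by
      rw [← map_mul, mem_centralizer_singleton_iff.1 g.2, map_mul])⟩ : centralizer ({e x} : Set L)))
  constructor
  · intro y z hyz
    exact Subtype.ext (e.injective (congrArg Subtype.val hyz))
  · rintro ⟨y, hy⟩
    refine ⟨⟨e.symm y, mem_centralizer_singleton_iff.2 (e.injective ?_)⟩, Subtype.ext (e.apply_symm_apply y)⟩
    rw [map_mul, map_mul, e.apply_symm_apply]
    exact mem_centralizer_singleton_iff.1 hy

/-- an involution `x` of `Fi22` with `2 ^ 17 ∣ |C(x)|` is a product of two commuting transpositions -/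
theorem two_of_dvd (e : K ≃* Spor.Fi22) {x : K} (hxx : x * x = 1) (hx1 : x ≠ 1)
    (h17 : 2 ^ 17 ∣ Nat.card (centralizer ({x} : Set K))) :
    ∃ a ∈ TK e, ∃ b ∈ TK e, a ≠ b ∧ a * b = b * a ∧ x = a * b ∧ x ∉ TK e := by
  have kt : KTrans K (TK e) := kTrans e
  have hT : x ∉ TK e := by
    intro hx
    obtain ⟨a1, ha1, b1, hb1, n1, c1⟩ := kt.pair
    obtain ⟨g, rfl⟩ := kt.trans a1 ha1 x hx
    have hb2 := kt.conj g b1 hb1
    obtain ⟨R, hR⟩ := all_of_iso e hx hb2 (fun hh => n1 (mul_left_cancel (mul_right_cancel hh))) (by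
      calc g * a1 * g⁻¹ * (g * b1 * g⁻¹) = g * (a1 * b1) * g⁻¹ := by group
        _ = g * (b1 * a1) * g⁻¹ := by rw [c1]
        _ = _ := by group)
    have h1 := card_cent hR.facts
    rw [h1] at h17
    norm_num at h17
  rcases kt.inv x hxx with h1 | h1 | ⟨a, ha, b, hb, h1, h2, h3⟩ | ⟨a, ha, b, hb, c, hc, n1, n2, n3, c1, c2, c3, h1⟩
  · exact absurd h1 hx1
  · exact absurd h1 hT
  · exact ⟨a, ha, b, hb, h1, h2, h3, hT⟩
  · exfalso
    obtain ⟨a', ha', rfl⟩ := ha
    obtain ⟨b', hb', rfl⟩ := hb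
    obtain ⟨c', hc', rfl⟩ := hc
    have com : ∀ {y z : Spor.Fi22}, e.symm y * e.symm z = e.symm z * e.symm y → Commute y z := by
      intro y z hyz
      apply e.symm.injective
      rw [map_mul, map_mul, hyz]
    have h2 := Cfsg.Agent.H832.ThreeProd.card_cent_three Cfsg.Agent.H830.Con22.fgroup Cfsg.Agent.H830.Con22.isT6
      ha' hb' hc' (fun hh => n1 (congrArg _ hh)) (fun hh => n2 (congrArg _ hh)) (fun hh => n3 (congrArg _ hh))
      (com c1) (com c2) (com c3)
    have h3 : e x = a' * b' * c' := by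
      rw [h1, map_mul, map_mul, e.apply_symm_apply, e.apply_symm_apply, e.apply_symm_apply]
    rw [card_centralizer_map e x, h3, h2] at h17
    norm_num at h17

/-- **No situation in `Aut Fi22`.** -/
theorem aut_false (e : K ≃* Spor.Fi22) {th : V → MulAut K} {O K0 : Subgroup (MulAut K)} (h : Sit th O K0)
    (t : V → K) (ht : ∀ v, th v = MulAut.conj (t v)) : False := by
  have kt : KTrans K (TK e) := kTrans e
  obtain ⟨a1, ha1, b1, hb1, n1, c1⟩ := kt.pair
  obtain ⟨R1, Ψ1, -, S1, -⟩ := exists_all e ha1 hb1 n1 c1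
  have F1 := S1.F
  have hcA := S1.card_aut (outFix e)
  have hK : Finite K := Nat.finite_of_card_ne_zero (by rw [F1.card]; norm_num)
  have hfA : Finite (MulAut K) := Nat.finite_of_card_ne_zero (by rw [hcA]; norm_num)
  obtain ⟨a0, ha0⟩ : ∃ a0 : V, a0 ≠ 0 := exists_ne 0
  have hx1 : t a0 ≠ 1 := by
    intro hh
    apply ha0
    rw [← h.eq_one_iff, ht, hh, map_one]
  have hxx : t a0 * t a0 = 1 := by
    apply conj_inj F1
    rw [map_mul, ← ht, h.sq, map_one]
  have h18 : 2 ^ 18 ∣ Nat.card (centralizer ({MulAut.conj (t a0)} : Set (MulAut K))) := by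
    have h1 := h.odd_index ha0
    rw [ht] at h1
    have h2 := (centralizer ({MulAut.conj (t a0)} : Set (MulAut K))).card_mul_index
    rw [hcA] at h2
    have h3 : 2 ^ 18 ∣ Nat.card (centralizer ({MulAut.conj (t a0)} : Set (MulAut K))) *
        (centralizer ({MulAut.conj (t a0)} : Set (MulAut K))).index := by
      rw [h2]; norm_num
    refine Nat.Coprime.dvd_of_dvd_mul_right (Nat.Coprime.pow_left _ ?_) h3
    rw [Nat.coprime_two_left, ← Nat.not_even_iff_odd, even_iff_two_dvd]
    exact h1
  have h17 : 2 ^ 17 ∣ Nat.card (centralizer ({t a0} : Set K)) := by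
    have h1 := h18.trans (card_cent_dvd kt F1 (t a0))
    rw [pow_succ, mul_comm (2 ^ 17)] at h1
    exact Nat.dvd_of_mul_dvd_mul_left (by norm_num) h1
  obtain ⟨a, ha, b, hb, n, c, hab, hT⟩ := two_of_dvd e hxx hx1 h17
  obtain ⟨R, Ψ, hΨs, S, -⟩ := exists_all e ha hb n c
  set Q := Ψ.ker.map (centralizer ({MulAut.conj (a * b)} : Set (MulAut K))).subtype with hQ
  have hj : th a0 = MulAut.conj (a * b) := by rw [ht, hab]
  have hadj : MulAut.conj (a * b) = MulAut.conj a * MulAut.conj b := map_mul _ _ _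
  have hbb : MulAut.conj b = MulAut.conj a * th a0 := by
    rw [hj, hadj, ← mul_assoc, ← map_mul, S.F.dd, map_one, one_mul]
  have D : Dat h a0 Q (MulAut.conj a) :=
    { ha := ha0
      j_mem := by rw [hj]; exact S.j_mem
      comm := fun x hx y hy => by rw [hj]; exact S.act.comm x hx y hy
      sq := fun q hq => by rw [hj]; exact S.sq hq
      cent := fun g hg => by rw [hj]; exact S.cent hg
      normal := fun g hg q hq => by
        rw [hj] at hg
        exact S.normal (mem_centralizer_singleton_iff.2 hg) hq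
      card := S.card
      cardC := by
        rw [hj, Ψ.ker.card_eq_card_quotient_mul_card_subgroup,
          Nat.card_congr (QuotientGroup.quotientKerEquivOfSurjective Ψ hΨs).toEquiv,
          Cfsg.Agent.H833.CentQuot.card_mulAut]
        congr 1
        have h1 := S.card
        rwa [card_map_of_injective (subtype_injective _)] at h1
      d_mem := S.conj_mem S.F.d_mem
      dd := by rw [← map_mul, S.F.dd, map_one]
      dA := by
        rintro ⟨v, hv⟩
        have hv0 : v ≠ 0 := by
          rintro rfl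
          rw [h.zero] at hv
          exact S.F.d_ne (conj_inj S.F (by rw [← hv, map_one]))
        obtain ⟨k, -, hk⟩ := h.exists_conj hv0 ha0
        rw [hv, hj, conj_aut] at hk
        apply hT
        rw [hab, ← conj_inj S.F hk]
        exact kt.aut k a ha
      dj := fun g hg => by
        rw [hj] at hg
        have hg' : g (a * b) = a * b := (mem_Cz S.F).1 (mem_centralizer_singleton_iff.2 hg)
        rcases swap_or_fix kt ha hb S.F hg' with ⟨h1, -⟩ | ⟨h1, -⟩
        · left
          rw [conj_aut, h1]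
        · right
          rw [conj_aut, h1, hbb] }
  exact D.false

end

/-- **The END for `Fi22`.** -/
theorem eq_top {G : Type*} [Group G] [Finite G] {th : V → G} {O K0 : Subgroup G} (h : Sit th O K0)
    (K : Subgroup G) [K.Normal] (hC : centralizer (K : Set G) = ⊥) (hK : ∀ v, th v ∈ K)
    (hF : Spor.IsoFi22 K) : K = ⊤ := by
  obtain ⟨e⟩ := hF
  by_contra hne
  have kt : KTrans K (TK e) := kTrans e
  obtain ⟨a1, ha1, b1, hb1, n1, c1⟩ := kt.pair
  obtain ⟨R1, Ψ1, -, S1, -⟩ := exists_all e ha1 hb1 n1 c1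
  have hcA := S1.card_aut (outFix e)
  have hfA : Finite (MulAut K) := Nat.finite_of_card_ne_zero (by rw [hcA]; norm_num)
  have hinj : Function.Injective (MulAut.conjNormal : G →* MulAut K) := by
    rw [injective_iff_map_eq_one]
    intro g hg
    have h1 : g ∈ centralizer (K : Set G) := by
      rw [mem_centralizer_iff]
      intro y hy
      have h2 := congrArg (fun α : MulAut K => ((α ⟨y, hy⟩ : K) : G)) hg
      simp only [MulAut.conjNormal_apply, MulAut.one_apply] at h2
      exact (mul_inv_eq_iff_eq_mul.1 h2).symm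
    rw [hC] at h1
    exact h1
  have hcard : Nat.card (MulAut K) ≤ Nat.card G := by
    have h1 := K.card_mul_index
    have h2 : K.index ≠ 1 := fun hh => hne (index_eq_one.1 hh)
    have h3 : K.index ≠ 0 := index_ne_zero_of_finite
    rw [hcA, ← h1, kt.card, mul_comm]
    exact Nat.mul_le_mul_left _ (by omega)
  have hbij := hinj.bijective_of_nat_card_le hcard
  exact aut_false e (h.equiv (MulEquiv.ofBijective _ hbij)) (fun v => ⟨th v, hK v⟩) fun v => by
    show MulAut.conjNormal (th v) = _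
    exact MulAut.conjNormal_val (h := ⟨th v, hK v⟩)

end Cfsg.Agent.H834.SpEnd
end

private theorem dce_65630bfe4385 : _root_.True := by
  try have : _root_.True := by simp only [_root_.Cfsg.Agent.H336.SpSix.Sit.A.congr_simp]
  try have : _root_.True := by simp only [_root_.Cfsg.Agent.H265.SpSix.wt.eq_1]
  exact _root_.True.intro
end

-- part: H336/SpSix/ClassRow_mg
section
prune_inst 0x20104440400000000000008041001c6286000402004800008000000005890c400080482080200004020800050030004813440000420000000a000000011c00800000000080080000000000000080000000000000000000000000000000000004000000000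
set_option linter.all false
open scoped Cfsg.Agent.FastGrp

-- part: H336/SpSix/CentExt
section
/-!
# Lifts of `A` to a central extension commute

`π : L → K` surjective with central kernel, `Sit th O K0` in `K`: the elements of `L` over `A` commute
(the splitting `K0` is used: `2^{1+6}.Sp_6(2)` does not split).
-/

set_option autoImplicit false

namespace Cfsg.Agent.H336.SpSix

open Subgroup Cfsg.Agent.SporRec.TwoSp6

theorem exists_perp {a : V} (ha : a ≠ 0) : ∃ c, om a c = 0 ∧ c ≠ 0 ∧ c ≠ a := by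
  obtain ⟨b, hb⟩ := exists_om ha
  have hb0 : b ≠ 0 := by
    rintro rfl
    rw [om_zero_right] at hb; exact absurd hb (by decide)
  have hab : a ≠ b := by
    rintro rfl
    rw [om_self] at hb; exact absurd hb (by decide)
  -- four vectors `0, a, b, a+b` are not everything in the kernel: use a third vector
  have key : ∀ a b : V, om a b = 1 → ∃ c, c ≠ 0 ∧ om a c = 0 ∧ om b c = 0 := by
    intro a b hab
    -- the map `c ↦ (om a c, om b c)` has a nontrivial kernel
    by_contra hcon
    push Not at hcon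
    let f : V → ZMod 2 × ZMod 2 := fun c => (om a c, om b c)
    have hf : Function.Injective f := by
      intro x y hxy
      have h1 : om a (x + y) = 0 := by
        rw [om_add_right, show om a x = om a y from congrArg Prod.fst hxy, z2_add_self]
      have h2 : om b (x + y) = 0 := by
        rw [om_add_right, show om b x = om b y from congrArg Prod.snd hxy, z2_add_self]
      by_contra hne
      exact hcon (x + y) (fun h => hne ((add_eq_zero_iff _ _).1 h)) h1 h2
    have h3 := Fintype.card_le_of_injective f hf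
    have h4 : Fintype.card V = 64 := by simp [V]
    have h5 : Fintype.card (ZMod 2 × ZMod 2) = 4 := by simp
    rw [h4, h5] at h3
    exact absurd h3 (by decide)
  obtain ⟨c, hc0, hac, hbc⟩ := key a b hb
  refine ⟨c, hac, hc0, ?_⟩
  rintro rfl
  rw [om_comm, hb] at hbc
  exact absurd hbc (by decide)

section

variable {L : Type*} [Group L]

/-- the commutator -/
def cm (g h : L) : L := g * h * g⁻¹ * h⁻¹

theorem cm_mul_right {g h h' : L} (hc : ∀ x, cm g h' * x = x * cm g h') : cm g (h * h') = cm g h * cm g h' := by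
  have h1 := hc h
  unfold cm at *
  calc g * (h * h') * g⁻¹ * (h * h')⁻¹ = g * h * g⁻¹ * (g * h' * g⁻¹ * h'⁻¹) * h⁻¹ := by group
    _ = g * h * g⁻¹ * (g * h' * g⁻¹ * h'⁻¹ * h⁻¹) := by group
    _ = g * h * g⁻¹ * (h⁻¹ * (g * h' * g⁻¹ * h'⁻¹)) := by rw [hc h⁻¹]
    _ = _ := by group

theorem cm_mul_central {g h z : L} (hz : ∀ x, z * x = x * z) : cm g (z * h) = cm g h := by
  unfold cm
  have h1 := hz (h * g⁻¹ * h⁻¹)
  calc g * (z * h) * g⁻¹ * (z * h)⁻¹ = g * (z * (h * g⁻¹ * h⁻¹)) * z⁻¹ := by group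
    _ = g * ((h * g⁻¹ * h⁻¹) * z) * z⁻¹ := by rw [h1]
    _ = _ := by group

theorem cm_eq_one {g h : L} : cm g h = 1 ↔ g * h = h * g := by
  unfold cm
  rw [mul_inv_eq_one, mul_inv_eq_iff_eq_mul]

theorem cm_spec (g h : L) : g * h = cm g h * (h * g) := by unfold cm; group

theorem cm_conj {g h : L} : g * h * g⁻¹ = cm g h * h := by unfold cm; group

end

namespace Sit

variable {K : Type*} [Group K] {th : V → K} {O K0 : Subgroup K} {L : Type*} [Group L]

/-- **lifts of `A` to a central extension commute** -/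
theorem lifts_comm [Finite K] (h : Sit th O K0) (π : L →* K) (hs : Function.Surjective π)
    (hz : ∀ z, π z = 1 → ∀ g, z * g = g * z) {g g' : L} {u v : V} (hg : π g = th u) (hg' : π g' = th v) :
    g * g' = g' * g := by
  choose x hx using fun v => hs (th v)
  -- lifts differ by central elements
  have hdiff : ∀ (g : L) (v : V), π g = th v → ∃ z, π z = 1 ∧ g = z * x v := fun g v hg =>
    ⟨g * (x v)⁻¹, by rw [map_mul, map_inv, hg, hx, mul_inv_cancel], by group⟩
  have hpair : ∀ g g' : L, ∀ u v : V, π g = th u → π g' = th v → π (cm g g') = 1 := by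
    intro g g' u v hg hg'
    unfold cm
    rw [map_mul, map_mul, map_mul, map_inv, map_inv, hg, hg', h.comm, mul_inv_cancel_right, mul_inv_cancel]
  -- it suffices to treat the chosen lifts
  suffices hall : ∀ u v, x u * x v = x v * x u by
    obtain ⟨z, hz1, rfl⟩ := hdiff g u hg
    obtain ⟨z', hz1', rfl⟩ := hdiff g' v hg'
    have e1 := hz z hz1
    have e2 := hz z' hz1'
    calc z * x u * (z' * x v) = z * ((x u * z') * x v) := by group
      _ = z * ((z' * x u) * x v) := by rw [e2 (x u)]
      _ = (z * z') * (x u * x v) := by group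
      _ = (z' * z) * (x v * x u) := by rw [e1 z', hall]
      _ = z' * (z * x v) * x u := by group
      _ = z' * (x v * z) * x u := by rw [e1 (x v)]
      _ = _ := by group
  -- products
  have hxadd : ∀ u v, ∃ z, π z = 1 ∧ x (u + v) = z * (x u * x v) := by
    intro u v
    obtain ⟨z, hz1, hz2⟩ := hdiff (x u * x v) (u + v) (by rw [map_mul, hx, hx, h.add])
    refine ⟨z⁻¹, by rw [map_inv, hz1, inv_one], by rw [hz2]; group⟩
  have hx0 : ∀ g, x 0 * g = g * x 0 := hz _ (by rw [hx, h.zero])
  have hxsq : ∀ v g, x v * x v * g = g * (x v * x v) := fun v => hz _ (by rw [map_mul, hx, h.sq])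
  -- (1) orthogonal vectors
  have hA1 : ∀ u c, om u c = 0 → x u * x c = x c * x u := by
    intro u c huc
    by_cases hc0 : c = 0
    · rw [hc0, hx0]
    obtain ⟨v, hv⟩ := exists_om hc0
    obtain ⟨k, -, hk⟩ := h.exists_tv c
    obtain ⟨T, rfl⟩ := hs k
    have e1 : π (T * x u * T⁻¹) = th u := by
      rw [map_mul, map_mul, map_inv, hx, hk, tv_of_zero (by rw [om_comm]; exact huc)]
    have e2 : π (T * x v * T⁻¹) = th (v + c) := by
      rw [map_mul, map_mul, map_inv, hx, hk, tv_of_one hv]
    obtain ⟨z1, hz1, hz1'⟩ := hdiff _ _ e1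
    obtain ⟨z2, hz2, hz2'⟩ := hdiff _ _ e2
    obtain ⟨z3, hz3, hz3'⟩ := hxadd v c
    have hcen : ∀ u v : V, ∀ y, cm (x u) (x v) * y = y * cm (x u) (x v) := fun u v =>
      hz _ (hpair _ _ u v (hx u) (hx v))
    have e3 : cm (x u) (x v) = cm (T * x u * T⁻¹) (T * x v * T⁻¹) := by
      have : cm (T * x u * T⁻¹) (T * x v * T⁻¹) = T * cm (x u) (x v) * T⁻¹ := by unfold cm; group
      rw [this, ← hcen u v T, mul_inv_cancel_right]
    have e4 : cm (z1 * x u) (z2 * (z3 * (x v * x c))) = cm (x u) (x v * x c) := by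
      rw [cm_mul_central (hz _ hz2), cm_mul_central (hz _ hz3)]
      have := hz _ hz1
      unfold cm
      calc z1 * x u * (x v * x c) * (z1 * x u)⁻¹ * (x v * x c)⁻¹
          = (z1 * (x u * (x v * x c) * (x u)⁻¹)) * z1⁻¹ * (x v * x c)⁻¹ := by group
        _ = ((x u * (x v * x c) * (x u)⁻¹) * z1) * z1⁻¹ * (x v * x c)⁻¹ := by rw [this]
        _ = _ := by group
    rw [hz1', hz2', hz3', e4, cm_mul_right (hcen u c)] at e3
    exact cm_eq_one.1 (left_eq_mul.1 e3)
  -- odd order elements commute with the lifts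
  have hodd : ∀ c : L, π c ∈ O → ∀ v, c * x v = x v * c := by
    intro c hc v
    have e1 : π (cm c (x v)) = 1 := by
      unfold cm
      rw [map_mul, map_mul, map_mul, map_inv, map_inv, hx, h.oc _ hc, mul_inv_cancel_right, mul_inv_cancel]
    have hcen := hz _ e1
    have e2 : c * x v * c⁻¹ = cm c (x v) * x v := cm_conj
    have hsq1 : cm c (x v) * cm c (x v) = 1 := by
      have e3 : (c * x v * c⁻¹) * (c * x v * c⁻¹) = x v * x v := by
        calc (c * x v * c⁻¹) * (c * x v * c⁻¹) = c * (x v * x v) * c⁻¹ := by group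
          _ = (x v * x v * c) * c⁻¹ := by rw [hxsq v c]
          _ = _ := by group
      rw [e2] at e3
      have e4 : cm c (x v) * x v * (cm c (x v) * x v) = cm c (x v) * cm c (x v) * (x v * x v) := by
        calc cm c (x v) * x v * (cm c (x v) * x v) = cm c (x v) * (x v * cm c (x v)) * x v := by group
          _ = cm c (x v) * (cm c (x v) * x v) * x v := by rw [hcen (x v)]
          _ = _ := by group
      rw [e4] at e3
      exact mul_eq_right.1 e3
    have hpow : ∀ n : ℕ, c ^ n * x v * (c ^ n)⁻¹ = cm c (x v) ^ n * x v := by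
      intro n
      induction n with
      | zero => simp
      | succ n ih =>
        calc c ^ (n + 1) * x v * (c ^ (n + 1))⁻¹ = c * (c ^ n * x v * (c ^ n)⁻¹) * c⁻¹ := by
              rw [pow_succ']; group
          _ = c * (cm c (x v) ^ n * x v) * c⁻¹ := by rw [ih]
          _ = (c * cm c (x v) ^ n) * x v * c⁻¹ := by group
          _ = (cm c (x v) ^ n * c) * x v * c⁻¹ := by
              have : Commute (cm c (x v)) c := hcen c
              rw [(this.pow_left n).eq]
          _ = cm c (x v) ^ n * (c * x v * c⁻¹) := by group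
          _ = cm c (x v) ^ (n + 1) * x v := by rw [e2, pow_succ]; group
    have hm := hpow (Nat.card O)
    have e5 : π (c ^ Nat.card O) = 1 := by
      rw [map_pow]
      have := pow_card_eq_one' (x := (⟨π c, hc⟩ : O))
      exact congrArg Subtype.val this
    rw [hz _ e5, mul_inv_cancel_right] at hm
    have e6 : cm c (x v) ^ Nat.card O = 1 := (right_eq_mul.1 hm)
    obtain ⟨m, hm'⟩ := h.odd
    rw [hm', pow_add, pow_mul, pow_two, hsq1, one_pow, one_mul, pow_one] at e6
    exact cm_eq_one.1 e6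
  -- (2) the transvection commutes with the lifts of orthogonal vectors
  intro a v
  by_cases ha : a = 0
  · rw [ha]; exact hx0 _
  rcases z2 (om a v) with hav | hav
  · exact hA1 a v hav
  obtain ⟨k, hkK, hk⟩ := h.exists_tv a
  obtain ⟨T, hT⟩ := hs k
  have hTconj : ∀ w, ∃ z, π z = 1 ∧ T * x w * T⁻¹ = z * x (tv a w) := by
    intro w
    exact hdiff _ _ (by rw [map_mul, map_mul, map_inv, hx, hT, hk])
  have hclaim2 : ∀ a', om a a' = 0 → a' ≠ 0 → a' ≠ a → T * x a' = x a' * T := by
    intro a' haa' ha'0 ha'a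
    obtain ⟨k', hkK', hk'⟩ := h.exists_tv a'
    obtain ⟨T', hT'⟩ := hs k'
    obtain ⟨w, hw1, hw2⟩ := exists_om_one_zero ha'0 ha ha'a
    -- conjugates
    obtain ⟨ζ, hζ, hζ'⟩ : ∃ z, π z = 1 ∧ T' * x w * T'⁻¹ = z * (x w * x a') := by
      obtain ⟨z1, hz1, hz1'⟩ := hdiff (T' * x w * T'⁻¹) (w + a') (by
        rw [map_mul, map_mul, map_inv, hx, hT', hk', tv_of_one hw1])
      obtain ⟨z2, hz2, hz2'⟩ := hxadd w a'
      exact ⟨z1 * z2, by rw [map_mul, hz1, hz2, one_mul], by rw [hz1', hz2']; group⟩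
    obtain ⟨σ, hσ, hσ'⟩ := hTconj w
    rw [tv_of_zero hw2] at hσ'
    obtain ⟨τ, hτ, hτ'⟩ := hTconj a'
    rw [tv_of_zero haa'] at hτ'
    have cζ := hz _ hζ
    have cσ := hz _ hσ
    have cτ := hz _ hτ
    -- the commutator of the two transvections is in `O`
    have hcO : π (cm T T') ∈ O := by
      apply h.k0c
      · unfold cm
        rw [map_mul, map_mul, map_mul, map_inv, map_inv, hT, hT']
        exact K0.mul_mem (K0.mul_mem (K0.mul_mem hkK hkK') (K0.inv_mem hkK)) (K0.inv_mem hkK')
      · intro y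
        unfold cm
        rw [map_mul, map_mul, map_mul, map_inv, map_inv, hT, hT']
        -- `k k' = k' k` on `A`
        have hcomm : ∀ y, k * (k' * th y * k'⁻¹) * k⁻¹ = k' * (k * th y * k⁻¹) * k'⁻¹ := by
          intro y
          rw [hk', hk, hk, hk']
          (with_reducible congr 1)
          simp only [tv_apply, om_add_right, om_smul_right, haa', om_comm a' a, mul_zero, add_zero]
          abel
        have hinv : ∀ y, ∃ y', th y = k' * (k * th y' * k⁻¹) * k'⁻¹ := by
          intro y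
          refine ⟨tv a (tv a' y), ?_⟩
          rw [hk, hk']
          congr 1
          simp only [tv_apply, om_add_right, om_smul_right, haa', om_comm a' a, mul_zero, add_zero, om_self]
          have h1 : y + om a' y • a' + om a y • a + om a y • a + om a' y • a' = y := by
            calc y + om a' y • a' + om a y • a + om a y • a + om a' y • a'
                = y + (om a' y • a' + om a' y • a') + (om a y • a + om a y • a) := by abel
              _ = y := by rw [v_add_self, v_add_self, add_zero, add_zero]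
          exact h1.symm
        obtain ⟨y', hy'⟩ := hinv y
        rw [hy']
        calc k * k' * k⁻¹ * k'⁻¹ * (k' * (k * th y' * k⁻¹) * k'⁻¹)
            = (k * (k' * th y' * k'⁻¹) * k⁻¹) * (k * k' * k⁻¹ * k'⁻¹) := by group
          _ = _ := by rw [hcomm]
    have hcc := hodd _ hcO
    -- compare the two conjugates of `x w`
    have e1 : T * T' * x w * (T * T')⁻¹ = ζ * (σ * x w) * (τ * x a') := by
      calc T * T' * x w * (T * T')⁻¹ = T * (T' * x w * T'⁻¹) * T⁻¹ := by group
        _ = T * (ζ * (x w * x a')) * T⁻¹ := by rw [hζ']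
        _ = (T * ζ) * x w * x a' * T⁻¹ := by group
        _ = (ζ * T) * x w * x a' * T⁻¹ := by rw [cζ T]
        _ = ζ * (T * x w * T⁻¹) * (T * x a' * T⁻¹) := by group
        _ = _ := by rw [hσ', hτ']
    have e2 : T' * T * x w * (T' * T)⁻¹ = σ * (ζ * (x w * x a')) := by
      calc T' * T * x w * (T' * T)⁻¹ = T' * (T * x w * T⁻¹) * T'⁻¹ := by group
        _ = (T' * σ) * x w * T'⁻¹ := by rw [hσ']; group
        _ = (σ * T') * x w * T'⁻¹ := by rw [cσ T']
        _ = σ * (T' * x w * T'⁻¹) := by group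
        _ = _ := by rw [hζ']
    have e3 : T * T' * x w * (T * T')⁻¹ = T' * T * x w * (T' * T)⁻¹ := by
      have e4 : T * T' = cm T T' * (T' * T) := cm_spec T T'
      have e5 : ∃ z, π z = 1 ∧ T' * T * x w * (T' * T)⁻¹ = z * (x w * x a') :=
        ⟨σ * ζ, by rw [map_mul, hσ, hζ, one_mul], by rw [e2]; group⟩
      obtain ⟨z, hz1, hz2⟩ := e5
      have cz := hz _ hz1
      rw [e4]
      calc cm T T' * (T' * T) * x w * (cm T T' * (T' * T))⁻¹
          = cm T T' * (T' * T * x w * (T' * T)⁻¹) * (cm T T')⁻¹ := by group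
        _ = cm T T' * (z * (x w * x a')) * (cm T T')⁻¹ := by rw [hz2]
        _ = (cm T T' * z) * x w * x a' * (cm T T')⁻¹ := by group
        _ = z * (cm T T' * x w) * x a' * (cm T T')⁻¹ := by rw [← cz]; group
        _ = z * x w * (cm T T' * x a') * (cm T T')⁻¹ := by rw [hcc w]; group
        _ = z * (x w * x a') := by rw [hcc a']; group
        _ = _ := hz2.symm
    rw [e1, e2] at e3
    have e6 : ζ * (σ * x w) * (τ * x a') = τ * (σ * (ζ * (x w * x a'))) := by
      calc ζ * (σ * x w) * (τ * x a') = (ζ * σ) * ((x w * τ) * x a') := by group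
        _ = (ζ * σ) * ((τ * x w) * x a') := by rw [← cτ]
        _ = (ζ * σ * τ) * (x w * x a') := by group
        _ = (τ * (σ * ζ)) * (x w * x a') := by rw [← cτ, cζ σ]
        _ = _ := by group
    rw [e6] at e3
    have e7 : τ = 1 := mul_eq_right.1 e3
    rw [e7, one_mul, mul_inv_eq_iff_eq_mul] at hτ'
    exact hτ'
  -- (3) hence it commutes with the lift of `a`
  have hTa : T * x a = x a * T := by
    obtain ⟨c, hc1, hc2, hc3⟩ := exists_perp ha
    have h1 := hclaim2 c hc1 hc2 hc3
    have h2 := hclaim2 (a + c) (by rw [om_add_right, om_self, hc1, add_zero])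
      (fun hh => hc3 ((add_eq_zero_iff _ _).1 hh).symm) (fun hh => hc2 (add_eq_left.1 hh))
    obtain ⟨z, hz1, hz2⟩ := hxadd c (a + c)
    have e1 : c + (a + c) = a := by rw [add_comm a c, self_add_add]
    rw [e1] at hz2
    rw [hz2]
    calc T * (z * (x c * x (a + c))) = (T * z) * x c * x (a + c) := by group
      _ = z * (T * x c) * x (a + c) := by rw [← hz z hz1 T]; group
      _ = z * x c * (T * x (a + c)) := by rw [h1]; group
      _ = _ := by rw [h2]; group
  -- (4) the square relation
  obtain ⟨ζ, hζ, hζ'⟩ : ∃ z, π z = 1 ∧ T * x v * T⁻¹ = z * (x v * x a) := by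
    obtain ⟨z1, hz1, hz1'⟩ := hTconj v
    rw [tv_of_one hav] at hz1'
    obtain ⟨z2, hz2, hz2'⟩ := hxadd v a
    exact ⟨z1 * z2, by rw [map_mul, hz1, hz2, one_mul], by rw [hz1', hz2']; group⟩
  have cζ := hz _ hζ
  have hT2 : T * T * x v = x v * (T * T) := by
    apply hodd
    apply h.k0c
    · rw [map_mul, hT]; exact K0.mul_mem hkK hkK
    · intro y
      rw [map_mul, hT]
      have h1 : k * (k * th y * k⁻¹) * k⁻¹ = th y := by
        rw [hk, hk]
        congr 1
        have := (tv a).left_inv y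
        exact this
      calc k * k * th y = (k * (k * th y * k⁻¹) * k⁻¹) * (k * k) := by group
        _ = _ := by rw [h1]
  -- `T² x_v T⁻² = ζ² x_v x_a²`
  have e1 : ζ * ζ * (x a * x a) = 1 := by
    have e2 : T * T * x v * (T * T)⁻¹ = ζ * ζ * (x a * x a) * x v := by
      calc T * T * x v * (T * T)⁻¹ = T * (T * x v * T⁻¹) * T⁻¹ := by group
        _ = T * (ζ * (x v * x a)) * T⁻¹ := by rw [hζ']
        _ = (T * ζ) * x v * x a * T⁻¹ := by group
        _ = (ζ * T) * x v * x a * T⁻¹ := by rw [cζ T]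
        _ = ζ * (T * x v * T⁻¹) * (T * x a) * T⁻¹ := by group
        _ = ζ * (ζ * (x v * x a)) * (x a * T) * T⁻¹ := by rw [hζ', hTa]
        _ = ζ * ζ * (x v * (x a * x a)) := by group
        _ = ζ * ζ * ((x a * x a) * x v) := by rw [hxsq a (x v)]
        _ = _ := by group
    rw [hT2, mul_inv_cancel_right] at e2
    exact (right_eq_mul.1 e2)
  have e3 : (T * x v * T⁻¹) * (T * x v * T⁻¹) = x v * x v := by
    calc (T * x v * T⁻¹) * (T * x v * T⁻¹) = (T * (x v * x v)) * T⁻¹ := by group
      _ = (x v * x v * T) * T⁻¹ := by rw [hxsq v T]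
      _ = _ := by group
  rw [hζ'] at e3
  have e4 : ζ * (x v * x a) * (ζ * (x v * x a)) = ζ * ζ * (x v * x a * x v * x a) := by
    calc ζ * (x v * x a) * (ζ * (x v * x a)) = ζ * ((x v * x a) * ζ) * (x v * x a) := by group
      _ = ζ * (ζ * (x v * x a)) * (x v * x a) := by rw [← cζ (x v * x a)]
      _ = _ := by group
  rw [e4] at e3
  have e5 : ζ * ζ = (x a * x a)⁻¹ := eq_inv_of_mul_eq_one_left e1
  rw [e5, inv_mul_eq_iff_eq_mul] at e3
  -- `x_v x_a x_v x_a = x_a² x_v²`
  have e6 : x v * x a * x v * x a = x v * (x v * (x a * x a)) := by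
    rw [e3, hxsq a (x v * x v)]; group
  have e7 : x a * x v * x a = x v * (x a * x a) := by
    have : x v * (x a * x v * x a) = x v * (x v * (x a * x a)) := by rw [← e6]; group
    exact mul_left_cancel this
  have e8 : x a * x v * x a = x v * x a * x a := by rw [e7]; group
  exact mul_right_cancel e8

end Sit

end Cfsg.Agent.H336.SpSix
end

-- part: H336/SpSix/Weights
section
/-!
# Weights of `A` in a ring
-/

set_option autoImplicit false

namespace Cfsg.Agent.H336.SpSix.Wt

open Cfsg.Agent.H336.SpSix Finset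

variable (F : Type*) {R : Type*} [Field F] [Ring R] [Algebra F R]

/-- the sign -/
def sg (x : ZMod 2) : F := if x = 0 then 1 else -1

theorem sg_zero : sg F 0 = 1 := by simp [sg]

theorem sg_one : sg F 1 = -1 := by simp only [sg, _root_.Cfsg.Agent.H336.SpSix.Wt.sg, _root_.one_ne_zero, ↓ _root_.reduceIte]

theorem sg_add (x y : ZMod 2) : sg F (x + y) = sg F x * sg F y := by
  rcases z2 x with rfl | rfl <;> rcases z2 y with rfl | rfl
  · simp [sg_zero]
  · simp [sg_zero]
  · simp [sg_zero]
  · rw [show (1 : ZMod 2) + 1 = 0 from by decide, sg_zero, sg_one]; ring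

theorem sg_mul_self (x : ZMod 2) : sg F x * sg F x = 1 := by
  rw [← sg_add, z2_add_self, sg_zero]

theorem sg_inj (h2 : (2 : F) ≠ 0) {x y : ZMod 2} (h : sg F x = sg F y) : x = y := by
  have h3 : (1 : F) ≠ -1 := by
    intro h
    apply h2
    linear_combination h
  rcases z2 x with rfl | rfl <;> rcases z2 y with rfl | rfl
  · rfl
  · rw [sg_zero, sg_one] at h; exact absurd h h3
  · rw [sg_zero, sg_one] at h; exact absurd h.symm h3
  · rfl

theorem sum_sg (h2 : (2 : F) ≠ 0) (u : V) : ∑ v : V, sg F (om u v) = if u = 0 then 64 else 0 := by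
  by_cases hu : u = 0
  · rw [if_pos hu, hu]
    have : ∀ v : V, sg F (om 0 v) = 1 := fun v => by rw [om_zero_left, sg_zero]
    rw [sum_congr rfl fun v _ => this v, sum_const, card_univ]
    have h4 : Fintype.card V = 64 := by simp [V]
    rw [h4]
    simp
  · rw [if_neg hu]
    obtain ⟨w, hw⟩ := exists_om hu
    have h1 : ∑ v : V, sg F (om u v) = ∑ v : V, sg F (om u (v + w)) :=
      (Equiv.sum_comp (Equiv.addRight w) (fun v => sg F (om u v))).symm
    have h3 : ∑ v : V, sg F (om u (v + w)) = -∑ v : V, sg F (om u v) := by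
      rw [← sum_neg_distrib]
      refine sum_congr rfl fun v _ => ?_
      rw [om_add_right, hw, sg_add, sg_one]; ring
    rw [h3] at h1
    have h4 : (2 : F) * ∑ v : V, sg F (om u v) = 0 := by linear_combination h1
    exact (mul_eq_zero.1 h4).resolve_left h2

/-- the idempotents -/
noncomputable def P (Y : V → R) (u : V) : R := (64 : F)⁻¹ • ∑ v, sg F (om u v) • Y v

variable {Y : V → R}

theorem h64 (h2 : (2 : F) ≠ 0) : (64 : F) ≠ 0 := by
  have : (64 : F) = 2 ^ 6 := by norm_num
  rw [this]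
  exact pow_ne_zero _ h2

theorem P_mul_Y (hY : ∀ u v, Y (u + v) = Y u * Y v) (u w : V) : P F Y u * Y w = sg F (om u w) • P F Y u := by
  unfold P
  rw [smul_mul_assoc, sum_mul, smul_comm (sg F (om u w)) (64 : F)⁻¹]
  congr 1
  rw [smul_sum, ← Equiv.sum_comp (Equiv.addRight w)
    (fun v => sg F (om u w) • sg F (om u v) • Y v)]
  refine sum_congr rfl fun v _ => ?_
  simp only [Equiv.coe_addRight]
  rw [om_add_right, sg_add, hY, smul_smul, smul_mul_assoc]
  congr 1
  rw [mul_comm (sg F (om u v)), ← mul_assoc, sg_mul_self, one_mul]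

theorem Y_mul_P (hY : ∀ u v, Y (u + v) = Y u * Y v) (u w : V) : Y w * P F Y u = sg F (om u w) • P F Y u := by
  unfold P
  rw [mul_smul_comm, mul_sum, smul_comm (sg F (om u w)) (64 : F)⁻¹]
  congr 1
  rw [smul_sum, ← Equiv.sum_comp (Equiv.addRight w)
    (fun v => sg F (om u w) • sg F (om u v) • Y v)]
  refine sum_congr rfl fun v _ => ?_
  simp only [Equiv.coe_addRight]
  rw [om_add_right, sg_add, add_comm v w, hY, smul_smul, mul_smul_comm]
  congr 1
  rw [mul_comm (sg F (om u v)), ← mul_assoc, sg_mul_self, one_mul]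

theorem P_mul_P (h2 : (2 : F) ≠ 0) (hY : ∀ u v, Y (u + v) = Y u * Y v) (u u' : V) :
    P F Y u * P F Y u' = if u = u' then P F Y u else 0 := by
  have h1 : P F Y u * P F Y u' = (64 : F)⁻¹ • ∑ v, sg F (om (u + u') v) • P F Y u := by
    have e : P F Y u' = (64 : F)⁻¹ • ∑ v, sg F (om u' v) • Y v := rfl
    rw [e, mul_smul_comm, mul_sum]
    congr 1
    refine sum_congr rfl fun v _ => ?_
    rw [mul_smul_comm, P_mul_Y F hY, smul_smul, om_add_left, sg_add, mul_comm]
  rw [h1, ← sum_smul, sum_sg F h2, smul_smul]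
  by_cases h : u = u'
  · rw [if_pos h, if_pos ((add_eq_zero_iff _ _).2 h), inv_mul_cancel₀ (h64 F h2), one_smul]
  · rw [if_neg h, if_neg (fun hh => h ((add_eq_zero_iff _ _).1 hh)), mul_zero, zero_smul]

theorem sum_P (h2 : (2 : F) ≠ 0) (hY0 : Y 0 = 1) : ∑ u, P F Y u = 1 := by
  unfold P
  rw [← smul_sum, sum_comm]
  have h1 : ∀ v : V, ∑ u : V, sg F (om u v) • Y v = if v = 0 then (64 : F) • (1 : R) else 0 := by
    intro v
    rw [← sum_smul]
    have : ∑ u : V, sg F (om u v) = ∑ u : V, sg F (om v u) := sum_congr rfl fun u _ => by rw [om_comm]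
    rw [this, sum_sg F h2]
    by_cases hv : v = 0
    · rw [if_pos hv, if_pos hv, hv, hY0]
    · rw [if_neg hv, if_neg hv, zero_smul]
  rw [sum_congr rfl fun v _ => h1 v, sum_ite_eq' univ (0 : V), if_pos (mem_univ _), smul_smul,
    inv_mul_cancel₀ (h64 F h2), one_smul]

/-- the combinations of the idempotents -/
noncomputable def D (Y : V → R) (e : V → F) : R := ∑ u, e u • P F Y u

theorem D_mul (h2 : (2 : F) ≠ 0) (hY : ∀ u v, Y (u + v) = Y u * Y v) (e e' : V → F) :
    D F Y e * D F Y e' = D F Y (fun u => e u * e' u) := by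
  unfold D
  rw [sum_mul]
  refine sum_congr rfl fun u _ => ?_
  rw [mul_sum, sum_eq_single u]
  · rw [smul_mul_smul_comm, P_mul_P F h2 hY, if_pos rfl]
  · intro v _ hv
    rw [smul_mul_smul_comm, P_mul_P F h2 hY, if_neg (Ne.symm hv), smul_zero]
  · intro h; exact absurd (mem_univ _) h

theorem D_one (h2 : (2 : F) ≠ 0) (hY0 : Y 0 = 1) : D F Y (fun _ => 1) = 1 := by
  unfold D
  simp only [one_smul]
  exact sum_P F h2 hY0

theorem D_mul_P (h2 : (2 : F) ≠ 0) (hY : ∀ u v, Y (u + v) = Y u * Y v) (e : V → F) (u : V) :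
    D F Y e * P F Y u = e u • P F Y u := by
  unfold D
  rw [sum_mul, sum_eq_single u]
  · rw [smul_mul_assoc, P_mul_P F h2 hY, if_pos rfl]
  · intro v _ hv
    rw [smul_mul_assoc, P_mul_P F h2 hY, if_neg hv, smul_zero]
  · intro h; exact absurd (mem_univ _) h

theorem D_comm (hY : ∀ u v, Y (u + v) = Y u * Y v) (e : V → F) (v : V) : D F Y e * Y v = Y v * D F Y e := by
  unfold D
  rw [sum_mul, mul_sum]
  refine sum_congr rfl fun u _ => ?_
  rw [smul_mul_assoc, mul_smul_comm, P_mul_Y F hY, Y_mul_P F hY]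

theorem D_scalar (h2 : (2 : F) ≠ 0) (hY : ∀ u v, Y (u + v) = Y u * Y v) {e : V → F} {c : F}
    (h : D F Y e = algebraMap F R c) {u : V} (hu : P F Y u ≠ 0) : e u = c := by
  have h1 := D_mul_P F h2 hY e u
  rw [h, ← Algebra.smul_def, ← sub_eq_zero, ← sub_smul] at h1
  rcases smul_eq_zero.1 h1 with h3 | h3
  · exact (sub_eq_zero.1 h3).symm
  · exact absurd h3 hu

theorem P_inj (h2 : (2 : F) ≠ 0) (hY : ∀ u v, Y (u + v) = Y u * Y v) {u u' : V} (hu : P F Y u ≠ 0)
    (h : P F Y u = P F Y u') : u = u' := by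
  by_contra hne
  have h1 := P_mul_P F h2 hY u u'
  rw [if_neg hne, ← h, P_mul_P F h2 hY, if_pos rfl] at h1
  exact hu h1

/-- duality -/
theorem exists_dual (f : V → ZMod 2) (hf : ∀ u v, f (u + v) = f u + f v) : ∃ k, ∀ v, f v = om k v := by
  let k : V := Sum.elim (fun i => f (Pi.single (Sum.inr i) 1)) (fun i => f (Pi.single (Sum.inl i) 1))
  refine ⟨k, ?_⟩
  let φ : V →+ ZMod 2 := AddMonoidHom.mk' f hf
  let ψ : V →+ ZMod 2 := AddMonoidHom.mk' (om k) (om_add_right k)
  have h : φ = ψ := by
    apply AddMonoidHom.functions_ext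
    intro i x
    rcases z2 x with rfl | rfl
    · rw [Pi.single_zero, map_zero, map_zero]
    · change f (Pi.single i 1) = om k (Pi.single i 1)
      rcases i with i | i
      · rw [om_comm, om_single_inl]
        rfl
      · rw [om_comm, om_single_inr]
        rfl
  intro v
  exact DFunLike.congr_fun h v

end Cfsg.Agent.H336.SpSix.Wt
end

-- part: H336/SpSix/LinRep
section
/-!
# A projective representation of `K` restricted to `A` lifts to a linear one
-/

set_option autoImplicit false
set_option linter.unusedSectionVars false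

namespace Cfsg.Agent.H336.SpSix

open Subgroup Cfsg.Agent.SporRec.TwoSp6

/-- `L` is a group with a faithful linear representation, `K` its quotient by the scalars -/
structure Lin (F : Type*) {R K L : Type*} [Field F] [Ring R] [Algebra F R] [Group K] [Group L]
    (π : L →* K) (ι : L →* R) : Prop where
  surj : Function.Surjective π
  ker : ∀ g, π g = 1 ↔ ∃ c : F, ι g = algebraMap F R c
  inj : Function.Injective ι

namespace Lin

variable {F R K L : Type*} [Field F] [Ring R] [Algebra F R] [Nontrivial R] [Group K] [Group L]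
  {π : L →* K} {ι : L →* R}

theorem ne_zero (g : L) : ι g ≠ 0 := by
  intro h
  have h1 : ι g * ι g⁻¹ = 1 := by rw [← map_mul, mul_inv_cancel, map_one]
  rw [h, zero_mul] at h1
  exact zero_ne_one h1

theorem central (H : Lin F π ι) (z : L) (hz : π z = 1) (g : L) : z * g = g * z := by
  obtain ⟨c, hc⟩ := (H.ker z).1 hz
  apply H.inj
  rw [map_mul, map_mul, hc]
  exact Algebra.commutes c _

/-- proportional elements have the same image -/
theorem eq_of_smul (H : Lin F π ι) {g g' : L} {c : F} (h : ι g = c • ι g') : π g = π g' := by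
  have h1 : ι (g * g'⁻¹) = algebraMap F R c := by
    rw [map_mul, h, smul_mul_assoc, ← map_mul, mul_inv_cancel, map_one, Algebra.algebraMap_eq_smul_one]
  have h2 := (H.ker _).2 ⟨c, h1⟩
  rw [map_mul, map_inv, mul_inv_eq_one] at h2
  exact h2

theorem exists_smul (H : Lin F π ι) {g g' : L} (h : π g = π g') : ∃ c : F, c ≠ 0 ∧ ι g = c • ι g' := by
  obtain ⟨c, hc⟩ := (H.ker (g * g'⁻¹)).1 (by rw [map_mul, map_inv, h, mul_inv_cancel])
  refine ⟨c, ?_, ?_⟩
  · rintro rfl
    rw [map_zero] at hc
    exact ne_zero (ι := ι) _ hc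
  · have : ι g = ι (g * g'⁻¹) * ι g' := by rw [← map_mul, inv_mul_cancel_right]
    rw [this, hc, Algebra.smul_def]

/-- **the linear lift of `A`** -/
theorem exists_Y [Finite K] (H : Lin F π ι) {th : V → K} {O K0 : Subgroup K} (h : Sit th O K0) :
    ∃ Y : V → R, (∀ u v, Y (u + v) = Y u * Y v) ∧ Y 0 = 1 ∧
      ∀ v, ∃ g : L, ∃ c : F, c ≠ 0 ∧ π g = th v ∧ Y v = c • ι g := by
  classical
  have hcom := fun {g g' : L} {u v : V} => h.lifts_comm π H.surj H.central (g := g) (g' := g') (u := u) (v := v)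
  choose x hx using fun v => H.surj (th v)
  -- squares of lifts are scalars
  have hsq : ∀ (g : L) (v : V), π g = th v → ∃ m : F, m ≠ 0 ∧ ι g * ι g = algebraMap F R m := by
    intro g v hg
    obtain ⟨c, hc⟩ := (H.ker (g * g)).1 (by rw [map_mul, hg, h.sq])
    refine ⟨c, ?_, by rw [← map_mul, hc]⟩
    rintro rfl
    rw [map_zero] at hc
    exact ne_zero (ι := ι) _ hc
  choose m hm0 hm using fun v => hsq (x v) v (hx v)
  have hinj : ∀ a b : F, algebraMap F R a = algebraMap F R b → a = b := fun a b hab =>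
    (algebraMap F R).injective hab
  -- conjugate elements
  have hconj : ∀ v w, v ≠ 0 → w ≠ 0 → ∃ d : F, m v = d * d * m w := by
    intro v w hv hw
    obtain ⟨k, -, hk⟩ := h.exists_conj hv hw
    obtain ⟨T, rfl⟩ := H.surj k
    have h1 : π (T * x v * T⁻¹) = π (x w) := by rw [map_mul, map_mul, map_inv, hx, hk, hx]
    obtain ⟨c, -, hc⟩ := H.exists_smul h1
    refine ⟨c, hinj _ _ ?_⟩
    have h2 : ι (T * x v * T⁻¹) * ι (T * x v * T⁻¹) = algebraMap F R (m v) := by
      rw [← map_mul]
      have : T * x v * T⁻¹ * (T * x v * T⁻¹) = T * (x v * x v) * T⁻¹ := by group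
      rw [this, map_mul, map_mul, map_mul, hm, ← Algebra.commutes, mul_assoc, ← map_mul, mul_inv_cancel, map_one,
        mul_one]
    rw [← h2, hc, smul_mul_smul_comm, hm, map_mul, Algebra.smul_def]
  have hprod : ∀ u v, ∃ d : F, d ≠ 0 ∧ m u * m v = d * d * m (u + v) := by
    intro u v
    have h1 : π (x u * x v) = π (x (u + v)) := by rw [map_mul, hx, hx, hx, h.add]
    obtain ⟨c, hc0, hc⟩ := H.exists_smul h1
    refine ⟨c, hc0, hinj _ _ ?_⟩
    have h2 : ι (x u * x v) * ι (x u * x v) = algebraMap F R (m u * m v) := by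
      rw [← map_mul]
      have : x u * x v * (x u * x v) = (x u * x u) * (x v * x v) := by
        calc x u * x v * (x u * x v) = x u * (x v * x u) * x v := by group
          _ = x u * (x u * x v) * x v := by rw [hcom (hx v) (hx u)]
          _ = _ := by group
      rw [this, map_mul, map_mul, map_mul, hm, hm, map_mul]
    rw [← h2, hc, smul_mul_smul_comm, hm, map_mul, Algebra.smul_def]
  have hissq : ∀ v, ∃ s : F, s ≠ 0 ∧ s * s * m v = 1 := by
    have key : ∀ v, v ≠ 0 → ∃ s : F, m v = s * s := by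
      intro v hv
      obtain ⟨c, -, hc0, hcv⟩ := exists_perp hv
      have hvc : v + c ≠ 0 := fun hh => hcv ((add_eq_zero_iff _ _).1 hh).symm
      obtain ⟨d1, hd1, e1⟩ := hprod v c
      obtain ⟨d2, e2⟩ := hconj c v hc0 hv
      obtain ⟨d3, e3⟩ := hconj v (v + c) hv hvc
      refine ⟨d3 * (d2 * m v / d1), ?_⟩
      have e4 : m (v + c) = (d2 * m v / d1) * (d2 * m v / d1) := by
        rw [e2] at e1
        field_simp
        linear_combination -e1
      calc m v = d3 * d3 * m (v + c) := e3
        _ = d3 * d3 * ((d2 * m v / d1) * (d2 * m v / d1)) := by rw [← e4]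
        _ = _ := by ring
    intro v
    by_cases hv : v = 0
    · -- `x 0` is a scalar
      obtain ⟨c, hc⟩ := (H.ker (x v)).1 (by rw [hx, hv, h.zero])
      have hc0 : c ≠ 0 := by
        rintro rfl
        rw [map_zero] at hc
        exact ne_zero (ι := ι) _ hc
      have e1 : m v = c * c := hinj _ _ (by rw [← hm, hc, map_mul])
      exact ⟨c⁻¹, inv_ne_zero hc0, by rw [e1]; field_simp⟩
    · obtain ⟨s, hs⟩ := key v hv
      have hs0 : s ≠ 0 := by
        rintro rfl
        exact hm0 v (by rw [hs]; ring)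
      exact ⟨s⁻¹, inv_ne_zero hs0, by rw [hs]; field_simp⟩
  choose s hs0 hs using hissq
  -- the group of all lifts of square one
  let M : Subgroup Rˣ :=
    { carrier := {r | r * r = 1 ∧ ∃ (g : L) (v : V) (c : F), c ≠ 0 ∧ π g = th v ∧ (r : R) = c • ι g}
      one_mem' := ⟨one_mul _, 1, 0, 1, one_ne_zero, by rw [map_one, h.zero], by simp⟩
      mul_mem' := by
        rintro r r' ⟨hr, g, v, c, hc0, hg, hc⟩ ⟨hr', g', v', c', hc0', hg', hc'⟩
        have e1 : r * r' = r' * r := by
          apply Units.ext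
          rw [Units.val_mul, Units.val_mul, hc, hc', smul_mul_smul_comm, smul_mul_smul_comm, ← map_mul, ← map_mul,
            hcom hg hg', mul_comm c c']
        refine ⟨?_, g * g', v + v', c * c', mul_ne_zero hc0 hc0', by rw [map_mul, hg, hg', h.add], ?_⟩
        · calc r * r' * (r * r') = r * (r' * r) * r' := by group
            _ = r * (r * r') * r' := by rw [e1]
            _ = (r * r) * (r' * r') := by group
            _ = 1 := by rw [hr, hr', one_mul]
        · rw [Units.val_mul, hc, hc', smul_mul_smul_comm, map_mul]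
      inv_mem' := by
        rintro r ⟨hr, g, v, c, hc0, hg, hc⟩
        have : r⁻¹ = r := inv_eq_of_mul_eq_one_left hr
        rw [this]
        exact ⟨hr, g, v, c, hc0, hg, hc⟩ }
  have hMsq : ∀ r : M, r * r = 1 := fun r => Subtype.ext r.2.1
  have hMcomm : ∀ r r' : M, r * r' = r' * r := by
    intro r r'
    have h1 := hMsq (r * r')
    have h2 := hMsq r
    have h3 := hMsq r'
    calc r * r' = (r * r')⁻¹ := (inv_eq_of_mul_eq_one_left h1).symm
      _ = r'⁻¹ * r⁻¹ := mul_inv_rev _ _
      _ = _ := by rw [inv_eq_of_mul_eq_one_left h2, inv_eq_of_mul_eq_one_left h3]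
  let _ : CommGroup M := { (inferInstance : Group M) with mul_comm := hMcomm }
  have hch : ∀ r : M, ∃ v : V, ∃ (g : L) (c : F), c ≠ 0 ∧ π g = th v ∧ ((r : Rˣ) : R) = c • ι g := by
    rintro ⟨r, hr, g, v, c, hc⟩
    exact ⟨v, g, c, hc⟩
  choose q hq using hch
  have huniq : ∀ r : M, ∀ v : V, ∀ (g : L) (c : F), c ≠ 0 → π g = th v → ((r : Rˣ) : R) = c • ι g → q r = v := by
    intro r v g c hc0 hg hc
    obtain ⟨g', c', hc0', hg', hc'⟩ := hq r
    apply h.inj
    rw [← hg', ← hg]
    apply H.eq_of_smul (c := c'⁻¹ * c)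
    rw [mul_smul, ← hc, hc', inv_smul_smul₀ hc0']
  have hqadd : ∀ r r' : M, q (r * r') = q r + q r' := by
    intro r r'
    obtain ⟨g, c, hc0, hg, hc⟩ := hq r
    obtain ⟨g', c', hc0', hg', hc'⟩ := hq r'
    refine huniq _ _ (g * g') (c * c') (mul_ne_zero hc0 hc0') (by rw [map_mul, hg, hg', h.add]) ?_
    rw [Subgroup.coe_mul, Units.val_mul, hc, hc', smul_mul_smul_comm, map_mul]
  -- as vector spaces
  have h2z : ∀ a : Additive M, (2 : ℕ) • a = 0 := by
    intro a
    rw [two_nsmul]
    exact hMsq a.toMul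
  let _ : Module (ZMod 2) (Additive M) := AddCommGroup.zmodModule h2z
  let Q : Additive M →+ V := AddMonoidHom.mk' (fun a => q a.toMul) (fun a b => hqadd _ _)
  let Ql : Additive M →ₗ[ZMod 2] V := Q.toZModLinearMap 2
  have hQs : Function.Surjective Ql := by
    intro v
    have e1 : (s v • ι (x v)) * (s v • ι (x v)) = 1 := by
      rw [smul_mul_smul_comm, hm, Algebra.algebraMap_eq_smul_one, smul_smul, hs, one_smul]
    let r : Rˣ := ⟨s v • ι (x v), s v • ι (x v), e1, e1⟩
    have hr : r ∈ M := ⟨Units.ext e1, x v, v, s v, hs0 v, hx v, rfl⟩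
    exact ⟨Additive.ofMul ⟨r, hr⟩, huniq ⟨r, hr⟩ v (x v) (s v) (hs0 v) (hx v) rfl⟩
  obtain ⟨σ, hσ⟩ := Ql.exists_rightInverse_of_surjective (LinearMap.range_eq_top.2 hQs)
  refine ⟨fun v => (((σ v).toMul : M) : Rˣ), fun u v => ?_, ?_, fun v => ?_⟩
  · change ((((σ (u + v)).toMul : M) : Rˣ) : R) = (((σ u).toMul : M) : Rˣ) * (((σ v).toMul : M) : Rˣ)
    rw [map_add, toMul_add, Subgroup.coe_mul, Units.val_mul]
  · change ((((σ 0).toMul : M) : Rˣ) : R) = 1
    rw [map_zero, toMul_zero]; rfl
  · obtain ⟨g, c, hc0, hg, hc⟩ := hq (σ v).toMul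
    have e : q (σ v).toMul = v := LinearMap.congr_fun hσ v
    exact ⟨g, c, hc0, by rw [hg, e], hc⟩

end Lin

end Cfsg.Agent.H336.SpSix
end

-- part: H336/SpSix/Count
section
/-!
# Counting the weights
-/

set_option autoImplicit false
set_option linter.unusedSectionVars false

namespace Cfsg.Agent.H336.SpSix

open Subgroup Cfsg.Agent.SporRec.TwoSp6 Cfsg.Agent.H336.SpSix.Wt

/-- the weights -/
abbrev X (F : Type*) {R : Type*} [Field F] [Ring R] [Algebra F R] (Y : V → R) := {u : V // P F Y u ≠ 0}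

section

variable {F R : Type*} [Field F] [Ring R] [Algebra F R] {Y : V → R}

open Classical in
/-- extension of a sign function -/
noncomputable def ex (e : X F Y → ℤˣ) (u : V) : F := if hu : P F Y u ≠ 0 then ((e ⟨u, hu⟩ : ℤ) : F) else 1

theorem ex_mul (e e' : X F Y → ℤˣ) (u : V) : ex (e * e') u = ex e u * ex e' u := by
  unfold ex
  split_ifs <;> simp

theorem ex_one (u : V) : ex (1 : X F Y → ℤˣ) u = 1 := by
  unfold ex
  split_ifs <;> simp

theorem ex_apply (e : X F Y → ℤˣ) (u : X F Y) : ex e u = ((e u : ℤ) : F) := by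
  unfold ex
  rw [dif_pos u.2]

theorem ex_cases (e : X F Y → ℤˣ) (u : V) : ex e u = 1 ∨ ex e u = -1 := by
  unfold ex
  split_ifs with hu
  · rcases Int.units_eq_one_or (e ⟨u, hu⟩) with h | h <;> rw [h] <;> simp
  · exact Or.inl rfl

theorem unit_eq (h2 : (2 : F) ≠ 0) {a b : ℤˣ} (h : ((a : ℤ) : F) = ((b : ℤ) : F)) : a = b := by
  have h3 : (1 : F) ≠ -1 := fun h => h2 (by linear_combination h)
  rcases Int.units_eq_one_or a with rfl | rfl <;> rcases Int.units_eq_one_or b with rfl | rfl
  · rfl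
  · exact absurd (by simpa using h) h3
  · exact absurd (by simpa using h.symm) h3
  · rfl

/-- the sign elements -/
noncomputable def Ds (e : X F Y → ℤˣ) : R := D F Y (ex e)

theorem Ds_mul (h2 : (2 : F) ≠ 0) (hY : ∀ u v, Y (u + v) = Y u * Y v) (e e' : X F Y → ℤˣ) :
    Ds (e * e') = Ds e * Ds e' := by
  unfold Ds
  rw [D_mul F h2 hY]
  congr 1
  funext u
  exact ex_mul e e' u

theorem Ds_one (h2 : (2 : F) ≠ 0) (hY0 : Y 0 = 1) : Ds (1 : X F Y → ℤˣ) = 1 := by
  unfold Ds
  rw [show ex (1 : X F Y → ℤˣ) = fun _ => (1 : F) from funext ex_one]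
  exact D_one F h2 hY0

theorem Ds_sq (h2 : (2 : F) ≠ 0) (hY : ∀ u v, Y (u + v) = Y u * Y v) (hY0 : Y 0 = 1) (e : X F Y → ℤˣ) :
    Ds e * Ds e = 1 := by
  rw [← Ds_mul h2 hY]
  have : e * e = 1 := by
    funext u
    exact Int.units_mul_self _
  rw [this, Ds_one h2 hY0]

/-- the sign functions whose element lies in the image of `L` -/
def Hs {L : Type*} [Group L] (h2 : (2 : F) ≠ 0) (hY : ∀ u v, Y (u + v) = Y u * Y v) (hY0 : Y 0 = 1) (ι : L →* R) :
    Subgroup (X F Y → ℤˣ) where
  carrier := {e | ∃ g : L, ι g = Ds e}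
  one_mem' := ⟨1, by rw [map_one, Ds_one h2 hY0]⟩
  mul_mem' := by
    rintro e e' ⟨g, hg⟩ ⟨g', hg'⟩
    exact ⟨g * g', by rw [map_mul, hg, hg', Ds_mul h2 hY]⟩
  inv_mem' := by
    rintro e ⟨g, hg⟩
    refine ⟨g, ?_⟩
    have : e⁻¹ = e := by
      funext u
      exact Int.units_inv_eq_self _
    rw [this, hg]

end

namespace Lin

variable {F R K L : Type*} [Field F] [Ring R] [Algebra F R] [Nontrivial R] [Group K] [Group L]
  {π : L →* K} {ι : L →* R} {th : V → K} {O K0 : Subgroup K} {Y : V → R}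

theorem nonempty_X (h2 : (2 : F) ≠ 0) (hY0 : Y 0 = 1) : Nonempty (X F Y) := by
  by_contra hne
  rw [nonempty_subtype] at hne
  push Not at hne
  have h1 := sum_P F h2 hY0
  rw [Finset.sum_eq_zero fun u _ => hne u] at h1
  exact zero_ne_one h1

theorem card_Hs_le (H : Lin F π ι) (h : Sit th O K0) (h2 : (2 : F) ≠ 0) (hY : ∀ u v, Y (u + v) = Y u * Y v)
    (hY0 : Y 0 = 1) (hYx : ∀ v, ∃ g : L, ∃ c : F, c ≠ 0 ∧ π g = th v ∧ Y v = c • ι g) :
    Nat.card (Hs h2 hY hY0 ι) ≤ 128 := by
  obtain ⟨x0⟩ := nonempty_X (F := F) h2 hY0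
  have hA : ∀ e : Hs h2 hY hY0 ι, ∃ g : L, ι g = Ds e.1 := fun e => e.2
  choose g hg using hA
  have hgA : ∀ e, π (g e) ∈ h.A := by
    intro e
    refine h.mem_of_mul_self (fun v => ?_) ?_
    · obtain ⟨x, c, hc0, hx, hc⟩ := hYx v
      rw [← hx, ← map_mul, ← map_mul]
      congr 1
      apply H.inj
      rw [map_mul, map_mul, hg]
      have h1 := D_comm F hY (ex e.1) v
      rw [hc, mul_smul_comm, smul_mul_assoc] at h1
      have h3 := congrArg (fun r => c⁻¹ • r) h1
      simp only [inv_smul_smul₀ hc0] at h3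
      exact h3
    · rw [← map_mul]
      have h1 : g e * g e = 1 := H.inj (by rw [map_mul, hg, Ds_sq h2 hY hY0, map_one])
      rw [h1, map_one]
  have hinj : Function.Injective (fun e : Hs h2 hY hY0 ι => ((⟨π (g e), hgA e⟩ : h.A), e.1 x0)) := by
    intro e e' hee
    have e1 : π (g e) = π (g e') := congrArg Subtype.val (Prod.ext_iff.1 hee).1
    have e2 : e.1 x0 = e'.1 x0 := (Prod.ext_iff.1 hee).2
    obtain ⟨c, -, hc⟩ := H.exists_smul e1
    rw [hg, hg] at hc
    have e3 : Ds (e.1 * e'.1) = algebraMap F R c := by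
      rw [Ds_mul h2 hY, hc, smul_mul_assoc, Ds_sq h2 hY hY0, Algebra.algebraMap_eq_smul_one]
    have e4 : ∀ u : X F Y, ex (e.1 * e'.1) u = c := fun u => D_scalar F h2 hY e3 u.2
    have e5 : c = 1 := by
      rw [← e4 x0, ex_apply, Pi.mul_apply, e2, Int.units_mul_self]; simp
    apply Subtype.ext
    funext u
    have e6 := e4 u
    rw [ex_apply, e5, Pi.mul_apply] at e6
    have e7 : e.1 u * e'.1 u = 1 := unit_eq h2 (by rw [e6]; simp)
    calc e.1 u = e.1 u * e'.1 u * e'.1 u := by rw [mul_assoc, Int.units_mul_self, mul_one]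
      _ = e'.1 u := by rw [e7, one_mul]
  have hfin : Finite h.A := Nat.finite_of_card_ne_zero (by rw [h.card_A]; norm_num)
  have h3 := Nat.card_le_card_of_injective _ hinj
  have h4 : Nat.card ℤˣ = 2 := by rw [Nat.card_eq_fintype_card, Fintype.card_units_int]
  rw [Nat.card_prod, h.card_A, h4] at h3
  exact h3

theorem card_X_le (H : Lin F π ι) (h : Sit th O K0) (h2 : (2 : F) ≠ 0) (hY : ∀ u v, Y (u + v) = Y u * Y v)
    (hY0 : Y 0 = 1) (hYx : ∀ v, ∃ g : L, ∃ c : F, c ≠ 0 ∧ π g = th v ∧ Y v = c • ι g)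
    (hidx : (Hs (F := F) h2 hY hY0 ι).index ≤ 4) : Nat.card (X F Y) ≤ 9 := by
  classical
  have h1 := H.card_Hs_le h h2 hY hY0 hYx
  have h3 := (Hs (F := F) h2 hY hY0 ι).card_mul_index
  have h4 : Nat.card (X F Y → ℤˣ) = 2 ^ Nat.card (X F Y) := by
    rw [Nat.card_fun, Nat.card_eq_fintype_card (α := ℤˣ), Fintype.card_units_int]
  rw [h4] at h3
  have h5 : 2 ^ Nat.card (X F Y) ≤ 2 ^ 9 := by
    rw [← h3]
    calc _ ≤ 128 * 4 := Nat.mul_le_mul h1 hidx
      _ = 2 ^ 9 := by norm_num
  exact (Nat.pow_le_pow_iff_right (by norm_num)).1 h5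

/-- conjugation of the idempotents -/
theorem conj_P (H : Lin F π ι) (h : Sit th O K0) (h2 : (2 : F) ≠ 0) (hY : ∀ u v, Y (u + v) = Y u * Y v)
    (hY0 : Y 0 = 1) (hYx : ∀ v, ∃ g : L, ∃ c : F, c ≠ 0 ∧ π g = th v ∧ Y v = c • ι g)
    (g : L) (hg : π g ∈ normalizer (h.A : Set K)) :
    ∃ k : V, ∀ u, ι g * P F Y u * ι g⁻¹ = P F Y (Sp.act (h.rep ⟨π g, hg⟩) u + k) := by
  set s := h.rep ⟨π g, hg⟩ with hs
  have hYsq : ∀ v, Y v * Y v = 1 := fun v => by rw [← hY, v_add_self, hY0]
  have hgg : ι g⁻¹ * ι g = 1 := by rw [← map_mul, inv_mul_cancel, map_one]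
  have hgg' : ι g * ι g⁻¹ = 1 := by rw [← map_mul, mul_inv_cancel, map_one]
  have h1 : ∀ v, ∃ f : ZMod 2, ι g * Y v * ι g⁻¹ = sg F f • Y (Sp.act s v) := by
    intro v
    obtain ⟨x, c, hc0, hx, hc⟩ := hYx v
    obtain ⟨x', c', hc0', hx', hc'⟩ := hYx (Sp.act s v)
    have e1 : π (g * x * g⁻¹) = π x' := by
      rw [map_mul, map_mul, map_inv, hx, hx']
      exact h.rep_spec ⟨π g, hg⟩ v
    obtain ⟨d, -, hd⟩ := H.exists_smul e1
    have e2 : ι g * Y v * ι g⁻¹ = (c * d * c'⁻¹) • Y (Sp.act s v) := by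
      rw [hc, hc', mul_smul_comm, smul_mul_assoc, ← map_mul, ← map_mul, hd, smul_smul, smul_smul]
      congr 1
      field_simp
    have e3 : (c * d * c'⁻¹) * (c * d * c'⁻¹) = 1 := by
      have e4 : (ι g * Y v * ι g⁻¹) * (ι g * Y v * ι g⁻¹) = 1 := by
        calc (ι g * Y v * ι g⁻¹) * (ι g * Y v * ι g⁻¹) = ι g * Y v * (ι g⁻¹ * ι g) * (Y v * ι g⁻¹) := by
              simp only [mul_assoc]
          _ = ι g * (Y v * Y v) * ι g⁻¹ := by rw [hgg]; simp only [mul_assoc, mul_one, one_mul]
          _ = 1 := by rw [hYsq, mul_one, hgg']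
      rw [e2, smul_mul_smul_comm, hYsq, ← Algebra.algebraMap_eq_smul_one] at e4
      exact (algebraMap F R).injective (e4.trans (map_one _).symm)
    rcases mul_self_eq_one_iff.1 e3 with e5 | e5
    · exact ⟨0, by rw [e2, e5, sg_zero]⟩
    · exact ⟨1, by rw [e2, e5, sg_one]⟩
  choose f hf using h1
  have hY1 : ∀ v, Y v ≠ 0 := fun v hv => by
    have := hYsq v
    rw [hv, zero_mul] at this
    exact zero_ne_one this
  have hfadd : ∀ u v, f (u + v) = f u + f v := by
    intro u v
    apply sg_inj F h2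
    have e1 := hf (u + v)
    have e2 : ι g * Y (u + v) * ι g⁻¹ = (ι g * Y u * ι g⁻¹) * (ι g * Y v * ι g⁻¹) := by
      rw [hY]
      calc ι g * (Y u * Y v) * ι g⁻¹ = ι g * Y u * 1 * (Y v * ι g⁻¹) := by simp only [mul_assoc, mul_one, one_mul]
        _ = ι g * Y u * (ι g⁻¹ * ι g) * (Y v * ι g⁻¹) := by rw [hgg]
        _ = _ := by simp only [mul_assoc]
    rw [e2, hf, hf, smul_mul_smul_comm, ← hY, ← Sp.act_add] at e1
    rw [sg_add]
    rw [← sub_eq_zero, ← sub_smul] at e1
    rcases smul_eq_zero.1 e1 with h3 | h3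
    · exact (sub_eq_zero.1 h3).symm
    · exact absurd h3 (hY1 _)
  obtain ⟨k, hk⟩ := exists_dual (fun w => f (Sp.act s⁻¹ w)) (fun u v => by rw [Sp.act_add, hfadd])
  have hk' : ∀ v, f v = om k (Sp.act s v) := by
    intro v
    have := hk (Sp.act s v)
    rwa [← Sp.act_mul, inv_mul_cancel, Sp.act_one] at this
  refine ⟨k, fun u => ?_⟩
  unfold P
  rw [mul_smul_comm, smul_mul_assoc, Finset.mul_sum, Finset.sum_mul]
  congr 1
  rw [← Equiv.sum_comp (actE s).toEquiv (fun w => sg F (om (Sp.act s u + k) w) • Y w)]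
  refine Finset.sum_congr rfl fun v _ => ?_
  change ι g * sg F (om u v) • Y v * ι g⁻¹ = sg F (om (Sp.act s u + k) (Sp.act s v)) • Y (Sp.act s v)
  rw [mul_smul_comm, smul_mul_assoc, hf, smul_smul, om_add_left, sg_add, hk']
  (with_reducible congr 3)
  rw [← om_eq, ← om_eq, Sp.act_om]

/-- **no configuration with few weights** -/
theorem false_of_card_X [Finite K] [Finite L] (H : Lin F π ι) (h : Sit th O K0) (h2 : (2 : F) ≠ 0)
    (hY : ∀ u v, Y (u + v) = Y u * Y v) (hY0 : Y 0 = 1)
    (hYx : ∀ v, ∃ g : L, ∃ c : F, c ≠ 0 ∧ π g = th v ∧ Y v = c • ι g)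
    (hX : Nat.card (X F Y) ≤ 9) : False := by
  classical
  -- the set of idempotents
  let Z : Type _ := {r : R // r ≠ 0 ∧ ∃ u, P F Y u = r}
  have hZf : Finite Z := by
    refine Finite.of_surjective (α := X F Y) (fun u => (⟨P F Y u, u.2, u, rfl⟩ : Z)) ?_
    rintro ⟨r, hr, u, rfl⟩
    exact ⟨⟨u, hr⟩, rfl⟩
  have hZX : Nat.card Z ≤ Nat.card (X F Y) := by
    refine Nat.card_le_card_of_surjective (fun u : X F Y => (⟨P F Y u, u.2, u, rfl⟩ : Z)) ?_
    rintro ⟨r, hr, u, rfl⟩
    exact ⟨⟨u, hr⟩, rfl⟩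
  let N := (normalizer (h.A : Set K)).comap π
  have hgg : ∀ g, ι g⁻¹ * ι g = 1 := fun g => by rw [← map_mul, inv_mul_cancel, map_one]
  have hgg' : ∀ g, ι g * ι g⁻¹ = 1 := fun g => by rw [← map_mul, mul_inv_cancel, map_one]
  let _ : MulAction N Z :=
    { smul := fun g r => ⟨ι g * r * ι (g : L)⁻¹, by
        constructor
        · intro h0
          apply r.2.1
          have : (r : R) = ι (g : L)⁻¹ * (ι g * r * ι (g : L)⁻¹) * ι g := by
            calc (r : R) = (ι (g : L)⁻¹ * ι g) * r * (ι (g : L)⁻¹ * ι g) := by rw [hgg, one_mul, mul_one]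
              _ = _ := by simp only [mul_assoc]
          rw [this, h0, mul_zero, zero_mul]
        · obtain ⟨-, u, hu⟩ := r.2
          obtain ⟨k, hk⟩ := H.conj_P h h2 hY hY0 hYx g g.2
          exact ⟨_, by rw [← hu, hk u]⟩⟩
      one_smul := fun r => Subtype.ext (by
        change ι ((1 : N) : L) * r * ι ((1 : N) : L)⁻¹ = r
        rw [Subgroup.coe_one, inv_one, map_one, one_mul, mul_one])
      mul_smul := fun g g' r => Subtype.ext (by
        change ι ((g * g' : N) : L) * r * ι ((g * g' : N) : L)⁻¹ = ι g * (ι g' * r * ι (g' : L)⁻¹) * ι (g : L)⁻¹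
        rw [Subgroup.coe_mul, mul_inv_rev, map_mul, map_mul]
        simp only [mul_assoc]) }
  have hsmul : ∀ (g : N) (r : Z), ((g • r : Z) : R) = ι g * r * ι (g : L)⁻¹ := fun _ _ => rfl
  let ψ : N →* Equiv.Perm Z := MulAction.toPermHom N Z
  let ρ : N →* S := h.rep.comp ((π.comp N.subtype).codRestrict (normalizer (h.A : Set K)) (fun g => g.2))
  have hρ : ∀ g : N, ρ g = h.rep ⟨π g, g.2⟩ := fun _ => rfl
  have hρs : Function.Surjective ρ := by
    intro s
    obtain ⟨n, hn⟩ := h.rep_surjective s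
    obtain ⟨g, hg⟩ := H.surj n
    have hgN : π g ∈ normalizer (h.A : Set K) := by rw [hg]; exact n.2
    refine ⟨⟨g, hgN⟩, ?_⟩
    rw [hρ, ← hn]
    congr 1
    exact Subtype.ext hg
  have hsimple := isSimple_S
  rcases (Subgroup.Normal.map (inferInstance : ψ.ker.Normal) ρ hρs).eq_bot_or_eq_top with h1 | h1
  · -- the order of `S` is at most `9!`
    rw [Subgroup.map_eq_bot_iff] at h1
    have hle : Nat.card S ≤ Nat.card (Equiv.Perm Z) := by
      choose σ hσ using hρs
      refine Nat.card_le_card_of_injective (fun s => ψ (σ s)) fun s t hst => ?_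
      have h3 : σ s * (σ t)⁻¹ ∈ ψ.ker := by
        rw [MonoidHom.mem_ker, map_mul, map_inv, mul_inv_eq_one]; exact hst
      have h4 := h1 h3
      rw [MonoidHom.mem_ker, map_mul, map_inv, hσ, hσ, mul_inv_eq_one] at h4
      exact h4
    have h3 : Nat.card (Equiv.Perm Z) = (Nat.card Z).factorial := by
      have := Fintype.ofFinite Z
      rw [Nat.card_eq_fintype_card, Fintype.card_perm, Nat.card_eq_fintype_card]
    rw [h3, card_S] at hle
    have h4 : (Nat.card Z).factorial ≤ (9).factorial := Nat.factorial_le (hZX.trans hX)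
    have h5 : (9).factorial = 362880 := by decide
    omega
  · -- all weights are equal
    have hall : ∀ u u', P F Y u ≠ 0 → P F Y u' ≠ 0 → u = u' := by
      intro u u' hu hu'
      rw [← add_eq_zero_iff]
      apply eq_zero_of_om
      intro a
      have h3 : Sp.tr a ∈ (⊤ : Subgroup S) := trivial
      rw [← h1] at h3
      obtain ⟨g, hgk, hg⟩ := h3
      obtain ⟨k, hk⟩ := H.conj_P h h2 hY hY0 hYx g g.2
      have hfix : ∀ w, P F Y w ≠ 0 → Sp.act (ρ g) w + k = w := by
        intro w hw
        have h4 : ψ g (⟨P F Y w, hw, w, rfl⟩ : Z) = ⟨P F Y w, hw, w, rfl⟩ := by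
          rw [MonoidHom.mem_ker.1 hgk]; rfl
        have h5 := congrArg Subtype.val h4
        change ι g * P F Y w * ι (g : L)⁻¹ = P F Y w at h5
        rw [hk w] at h5
        exact (P_inj F h2 hY hw h5.symm).symm
      have e1 := hfix u hu
      have e2 := hfix u' hu'
      rw [hg, Sp.act_tr, om_eq] at e1 e2
      -- `om u a • a = k` and the same for `u'`
      have e3 : om u a • a = k := by
        have : u + (u + om u a • a + k) = u + u := by rw [e1]
        rw [v_add_self, add_assoc u, self_add_add] at this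
        exact (add_eq_zero_iff _ _).1 this
      have e4 : om u' a • a = k := by
        have : u' + (u' + om u' a • a + k) = u' + u' := by rw [e2]
        rw [v_add_self, add_assoc u', self_add_add] at this
        exact (add_eq_zero_iff _ _).1 this
      by_cases ha : a = 0
      · rw [ha, om_zero_left]
      · rw [om_comm, om_add_left]
        have e5 : (om u a + om u' a) • a = 0 := by rw [add_smul, e3, e4, v_add_self]
        rcases smul_eq_zero.1 e5 with h6 | h6
        · exact h6
        · exact absurd h6 ha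
    -- then `A` acts by scalars
    obtain ⟨⟨u0, hu0⟩⟩ := nonempty_X (F := F) h2 hY0
    have hone : P F Y u0 = 1 := by
      rw [← sum_P F h2 hY0, Finset.sum_eq_single u0]
      · intro v _ hv
        by_contra h3
        exact hv (hall v u0 h3 hu0)
      · intro h3; exact absurd (Finset.mem_univ _) h3
    have hth : ∀ v, th v = 1 := by
      intro v
      obtain ⟨x, c, hc0, hx, hc⟩ := hYx v
      have h3 := P_mul_Y F hY u0 v
      rw [hone, one_mul, hc] at h3
      rw [← hx, H.ker]
      refine ⟨c⁻¹ * sg F (om u0 v), ?_⟩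
      rw [Algebra.algebraMap_eq_smul_one, mul_smul, ← h3, inv_smul_smul₀ hc0]
    obtain ⟨v, hv⟩ := exists_ne (0 : V)
    exact hv ((h.eq_one_iff v).1 (hth v))

end Lin

end Cfsg.Agent.H336.SpSix
end

-- part: H336/SpSix/FormData
section
/-!
# Matrix groups preserving a form: the sign elements are isometries; the main contradiction
-/

set_option autoImplicit false
set_option linter.unusedSectionVars false

namespace Cfsg.Agent.H336.SpSix

open Subgroup Matrix Cfsg.Agent.SporRec.TwoSp6 Cfsg.Agent.H336.SpSix.Wt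

/-- **main contradiction**, from a bound of the index of the sign functions realised in `L` -/
theorem Lin.false_of_idx {F R K L : Type*} [Field F] [Ring R] [Algebra F R] [Nontrivial R] [Group K] [Group L]
    [Finite K] [Finite L] {π : L →* K} {ι : L →* R} (H : Lin F π ι) {th : V → K} {O K0 : Subgroup K}
    (h : Sit th O K0) (h2 : (2 : F) ≠ 0)
    (hidx : ∀ (Y : V → R) (hY : ∀ u v, Y (u + v) = Y u * Y v) (hY0 : Y 0 = 1),
      (∀ v, ∃ g : L, ∃ c : F, c ≠ 0 ∧ π g = th v ∧ Y v = c • ι g) →
      (Hs (F := F) h2 hY hY0 ι).index ≤ 4) : False := by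
  obtain ⟨Y, hY, hY0, hYx⟩ := H.exists_Y h
  exact H.false_of_card_X h h2 hY hY0 hYx (H.card_X_le h h2 hY hY0 hYx (hidx Y hY hY0 hYx))

/-- `K = L / Z(L)` -/
theorem Lin.mk_quot {F R L : Type*} [Field F] [Ring R] [Algebra F R] [Group L] (ι : L →* R)
    (hinj : Function.Injective ι) (hz : ∀ z ∈ center L, ∃ c : F, ι z = algebraMap F R c) :
    Lin F (QuotientGroup.mk' (center L)) ι where
  surj := QuotientGroup.mk'_surjective _
  ker g := by
    rw [← MonoidHom.mem_ker, QuotientGroup.ker_mk']
    refine ⟨hz g, ?_⟩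
    rintro ⟨c, hc⟩
    rw [mem_center_iff]
    intro x
    apply hinj
    rw [map_mul, map_mul, hc]
    exact (Algebra.commutes c _).symm
  inj := hinj

theorem index_le_of_hom {E Q : Type*} [Group E] [Finite E] [Group Q] (θ : E →* Q) (H : Subgroup E)
    (hker : θ.ker ≤ H) {n : ℕ} (hn : Nat.card θ.range ≤ n) : H.index ≤ n := by
  have h1 : H.index ∣ θ.ker.index := index_dvd_of_le hker
  have h0 : 0 < θ.ker.index := Nat.pos_of_ne_zero Subgroup.index_ne_zero_of_finite
  rw [Subgroup.index_ker] at h1 h0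
  exact (Nat.le_of_dvd h0 h1).trans hn

/-- the sign elements as units -/
noncomputable def dsU {F R : Type*} [Field F] [Ring R] [Algebra F R] {Y : V → R} (h2 : (2 : F) ≠ 0)
    (hY : ∀ u v, Y (u + v) = Y u * Y v) (hY0 : Y 0 = 1) : (X F Y → ℤˣ) →* Rˣ where
  toFun e := ⟨Ds e, Ds e, Ds_sq h2 hY hY0 e, Ds_sq h2 hY hY0 e⟩
  map_one' := Units.ext (Ds_one h2 hY0)
  map_mul' e e' := Units.ext (Ds_mul h2 hY e e')

/-- a sesquilinear form -/
structure SForm {F κ : Type*} [Field F] (f : (κ → F) → (κ → F) → F) (σ : F → F) : Prop where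
  add_left : ∀ u v w, f (u + v) w = f u w + f v w
  add_right : ∀ u v w, f u (v + w) = f u v + f u w
  smul_left : ∀ c u v, f (c • u) v = c * f u v
  smul_right : ∀ c u v, f u (c • v) = σ c * f u v
  ne : ∃ u v, f u v ≠ 0

namespace SForm

variable {F κ : Type*} [Field F] {f : (κ → F) → (κ → F) → F} {σ : F → F}

/-- the field automorphism -/
noncomputable def hom (S : SForm f σ) : F →+* F where
  toFun := σ
  map_one' := by
    obtain ⟨u, v, h⟩ := S.ne
    have := S.smul_right 1 u v
    rw [one_smul] at this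
    exact mul_right_cancel₀ h (by rw [← this, one_mul])
  map_mul' a b := by
    obtain ⟨u, v, h⟩ := S.ne
    apply mul_right_cancel₀ h
    rw [← S.smul_right, mul_smul, S.smul_right, S.smul_right, mul_assoc]
  map_zero' := by
    obtain ⟨u, v, h⟩ := S.ne
    have h0 := S.add_right u 0 0
    rw [add_zero] at h0
    have h1 : f u 0 = 0 := left_eq_add.1 h0
    have := S.smul_right 0 u v
    rw [zero_smul, h1] at this
    exact (mul_eq_zero.1 this.symm).resolve_right h
  map_add' a b := by
    obtain ⟨u, v, h⟩ := S.ne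
    apply mul_right_cancel₀ h
    rw [add_mul, ← S.smul_right, ← S.smul_right, ← S.smul_right, add_smul, S.add_right]

theorem hom_apply (S : SForm f σ) (c : F) : S.hom c = σ c := rfl

variable [Fintype κ] [DecidableEq κ]

theorem sum_left (S : SForm f σ) {T : Type*} (s : Finset T) (g : T → (κ → F)) (v : κ → F) :
    f (∑ i ∈ s, g i) v = ∑ i ∈ s, f (g i) v := by
  classical
  have h0 : f 0 v = 0 := by
    have h0 := S.add_left 0 0 v
    rw [add_zero] at h0
    exact left_eq_add.1 h0
  induction s using Finset.induction_on with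
  | empty => simpa using h0
  | insert a s ha ih => rw [Finset.sum_insert ha, Finset.sum_insert ha, S.add_left, ih]

theorem sum_right (S : SForm f σ) {T : Type*} (s : Finset T) (g : T → (κ → F)) (u : κ → F) :
    f u (∑ i ∈ s, g i) = ∑ i ∈ s, f u (g i) := by
  classical
  have h0 : f u 0 = 0 := by
    have h0 := S.add_right u 0 0
    rw [add_zero] at h0
    exact left_eq_add.1 h0
  induction s using Finset.induction_on with
  | empty => simpa using h0
  | insert a s ha ih => rw [Finset.sum_insert ha, Finset.sum_insert ha, S.add_right, ih]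

variable {K L : Type*} [Group K] [Group L] {π : L →* K} {ι : L →* Matrix κ κ F} {th : V → K} {O K0 : Subgroup K}
  {Y : V → Matrix κ κ F}

/-- the elements `Y v` are isometries -/
theorem Y_iso [Nonempty κ] (S : SForm f σ) (H : Lin F π ι) (h : Sit th O K0)
    (hiso : ∀ g u v, f (ι g *ᵥ u) (ι g *ᵥ v) = f u v)
    (hY : ∀ u v, Y (u + v) = Y u * Y v) (hY0 : Y 0 = 1)
    (hYx : ∀ v, ∃ g : L, ∃ c : F, c ≠ 0 ∧ π g = th v ∧ Y v = c • ι g) (w : V) (u v : κ → F) :
    f (Y w *ᵥ u) (Y w *ᵥ v) = f u v := by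
  have hYsq : ∀ v, Y v * Y v = 1 := fun v => by rw [← hY, v_add_self, hY0]
  -- the multiplier
  have h1 : ∀ w, ∃ m : F, m ≠ 0 ∧ ∀ u v, f (Y w *ᵥ u) (Y w *ᵥ v) = m * f u v := by
    intro w
    obtain ⟨g, c, hc0, -, hc⟩ := hYx w
    refine ⟨c * σ c, mul_ne_zero hc0 ?_, fun u v => ?_⟩
    · rw [← S.hom_apply]; exact (map_ne_zero _).2 hc0
    · rw [hc, smul_mulVec, smul_mulVec, S.smul_left, S.smul_right, hiso, mul_assoc]
  choose m hm0 hm using h1
  obtain ⟨u0, v0, h0⟩ := S.ne
  have hadd : ∀ w w', m (w + w') = m w * m w' := by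
    intro w w'
    apply mul_right_cancel₀ h0
    rw [← hm, hY, ← mulVec_mulVec, ← mulVec_mulVec, hm, hm, mul_assoc]
  have hconj : ∀ w w', w ≠ 0 → w' ≠ 0 → m w = m w' := by
    intro w w' hw hw'
    obtain ⟨k, -, hk⟩ := h.exists_conj hw hw'
    obtain ⟨T, rfl⟩ := H.surj k
    obtain ⟨x, c, hc0, hx, hc⟩ := hYx w
    obtain ⟨x', c', hc0', hx', hc'⟩ := hYx w'
    have e1 : π (T * x * T⁻¹) = π x' := by rw [map_mul, map_mul, map_inv, hx, hx', hk]
    obtain ⟨d, -, hd⟩ := H.exists_smul e1
    -- `ι T * Y w * ι T⁻¹ = e • Y w'`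
    have e2 : ι T * Y w * ι T⁻¹ = (c * d * c'⁻¹) • Y w' := by
      rw [hc, hc', mul_smul_comm, smul_mul_assoc, ← map_mul, ← map_mul, hd, smul_smul, smul_smul]
      congr 1
      field_simp
    have hTT : ι T⁻¹ * ι T = 1 := by rw [← map_mul, inv_mul_cancel, map_one]
    have e3 : (c * d * c'⁻¹) * (c * d * c'⁻¹) = 1 := by
      have e4 : (ι T * Y w * ι T⁻¹) * (ι T * Y w * ι T⁻¹) = 1 := by
        calc (ι T * Y w * ι T⁻¹) * (ι T * Y w * ι T⁻¹) = ι T * Y w * (ι T⁻¹ * ι T) * (Y w * ι T⁻¹) := by
              simp only [mul_assoc]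
          _ = ι T * (Y w * Y w) * ι T⁻¹ := by rw [hTT]; simp only [mul_assoc, mul_one]
          _ = 1 := by rw [hYsq, mul_one, ← map_mul, mul_inv_cancel, map_one]
      rw [e2, smul_mul_smul_comm, hYsq] at e4
      obtain ⟨i⟩ := (inferInstance : Nonempty κ)
      have := congrFun (congrFun e4 i) i
      simpa only [_root_.Matrix.smul_apply, _root_.Matrix.one_apply_eq, _root_.smul_eq_mul, _root_.mul_one] using this
    have e5 : σ (c * d * c'⁻¹) * (c * d * c'⁻¹) = 1 := by
      rcases mul_self_eq_one_iff.1 e3 with e6 | e6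
      · rw [e6, ← S.hom_apply, map_one, mul_one]
      · rw [e6, ← S.hom_apply, map_neg, map_one]; ring
    apply mul_right_cancel₀ h0
    have e7 : f ((ι T * Y w * ι T⁻¹) *ᵥ u0) ((ι T * Y w * ι T⁻¹) *ᵥ v0) = m w * f u0 v0 := by
      rw [← mulVec_mulVec, ← mulVec_mulVec, ← mulVec_mulVec, ← mulVec_mulVec, hiso, hm, hiso]
    rw [← e7, e2, smul_mulVec, smul_mulVec, S.smul_left, S.smul_right, hm]
    linear_combination (m w' * f u0 v0) * e5
  have hone : ∀ w, m w = 1 := by
    intro w
    by_cases hw : w = 0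
    · apply mul_right_cancel₀ h0
      rw [← hm, hw, hY0, one_mulVec, one_mulVec, one_mul]
    · obtain ⟨c, -, hc0, hcv⟩ := exists_perp hw
      have hvc : w + c ≠ 0 := fun hh => hcv ((add_eq_zero_iff _ _).1 hh).symm
      have e1 := hadd w c
      rw [hconj (w + c) w hvc hw, hconj c w hc0 hw] at e1
      exact (mul_right_cancel₀ (hm0 w) (by rw [one_mul]; exact e1)).symm
  rw [hm, hone, one_mul]

/-- the sign elements are isometries -/
theorem Ds_iso [Nonempty κ] (S : SForm f σ) (H : Lin F π ι) (h : Sit th O K0) (h2 : (2 : F) ≠ 0)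
    (hiso : ∀ g u v, f (ι g *ᵥ u) (ι g *ᵥ v) = f u v)
    (hY : ∀ u v, Y (u + v) = Y u * Y v) (hY0 : Y 0 = 1)
    (hYx : ∀ v, ∃ g : L, ∃ c : F, c ≠ 0 ∧ π g = th v ∧ Y v = c • ι g) (e : X F Y → ℤˣ) (u v : κ → F) :
    f (Ds e *ᵥ u) (Ds e *ᵥ v) = f u v := by
  have hYsq : ∀ v, Y v * Y v = 1 := fun v => by rw [← hY, v_add_self, hY0]
  have hYs : ∀ w u v, f (Y w *ᵥ u) v = f u (Y w *ᵥ v) := by
    intro w u v
    have h1 := S.Y_iso H h hiso hY hY0 hYx w u (Y w *ᵥ v)
    rwa [mulVec_mulVec, hYsq, one_mulVec] at h1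
  have hσsg : ∀ x : ZMod 2, σ (sg F x) = sg F x := by
    intro x
    rw [← S.hom_apply]
    unfold sg
    split_ifs
    · exact map_one _
    · rw [map_neg, map_one]
  have hσ64 : σ (64 : F)⁻¹ = (64 : F)⁻¹ := by
    rw [← S.hom_apply, map_inv₀, map_ofNat]
  have hPs : ∀ w u v, f (P F Y w *ᵥ u) v = f u (P F Y w *ᵥ v) := by
    intro w u v
    unfold P
    rw [smul_mulVec, smul_mulVec, S.smul_left, S.smul_right, hσ64, sum_mulVec, sum_mulVec, S.sum_left, S.sum_right]
    congr 1
    refine Finset.sum_congr rfl fun i _ => ?_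
    rw [smul_mulVec, smul_mulVec, S.smul_left, S.smul_right, hσsg, hYs]
  have hσex : ∀ w, σ (ex e w) = ex e w := by
    intro w
    rw [← S.hom_apply]
    rcases ex_cases e w with h1 | h1 <;> rw [h1]
    · exact map_one _
    · rw [map_neg, map_one]
  have hDs : ∀ u v, f (Ds e *ᵥ u) v = f u (Ds e *ᵥ v) := by
    intro u v
    unfold Ds D
    rw [sum_mulVec, sum_mulVec, S.sum_left, S.sum_right]
    refine Finset.sum_congr rfl fun i _ => ?_
    rw [smul_mulVec, smul_mulVec, S.smul_left, S.smul_right, hσex, hPs]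
  rw [hDs, mulVec_mulVec, Ds_sq h2 hY hY0, one_mulVec]

end SForm

/-- the determinant of the sign elements -/
theorem det_range_le {F κ : Type*} [Field F] [Fintype κ] [DecidableEq κ] {Y : V → Matrix κ κ F} (h2 : (2 : F) ≠ 0)
    (hY : ∀ u v, Y (u + v) = Y u * Y v) (hY0 : Y 0 = 1) :
    Nat.card (GeneralLinearGroup.det.comp (dsU h2 hY hY0)).range ≤ 4 := by
  have h1 : (GeneralLinearGroup.det.comp (dsU h2 hY hY0)).range ≤ rootsOfUnity 2 F := by
    rintro _ ⟨e, rfl⟩
    rw [mem_rootsOfUnity, pow_two, ← map_mul]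
    have : e * e = 1 := by
      funext u
      exact Int.units_mul_self _
    rw [this, map_one]
  have h3 := Subgroup.card_dvd_of_le h1
  have h4 : Nat.card (rootsOfUnity 2 F) ≤ 2 := card_rootsOfUnity F 2
  have h5 : 0 < Nat.card (rootsOfUnity 2 F) := Nat.card_pos
  exact (Nat.le_of_dvd h5 h3).trans (h4.trans (by norm_num))

end Cfsg.Agent.H336.SpSix
end

-- part: H336/SpSix/ClassInst
section
/-!
# The classical groups of odd characteristic
-/

set_option autoImplicit false
set_option linter.unusedSectionVars false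

namespace Cfsg.Agent.H336.SpSix.ClassInst

open Subgroup Cfsg Matrix Cfsg.Agent.SporRec.TwoSp6 Cfsg.Agent.H336.SpSix Cfsg.Agent.H336.SpSix.Wt
open Cfsg.Agent.H131.ClassTwo

variable {F : Type*} [Field F] [Fintype F]

theorem algebraMap_mat {κ : Type*} [Fintype κ] [DecidableEq κ] (c : F) :
    algebraMap F (Matrix κ κ F) c = c • 1 := Algebra.algebraMap_eq_smul_one c

theorem row_sl (h2 : (2 : F) ≠ 0) {n : ℕ} (hn : 1 ≤ n) {th : V → ProjectiveSpecialLinearGroup (Fin n) F}
    {O K0 : Subgroup (ProjectiveSpecialLinearGroup (Fin n) F)} (h : Sit th O K0) : False := by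
  haveI : Nonempty (Fin n) := ⟨⟨0, hn⟩⟩
  have H : Lin F (QuotientGroup.mk' (center (_root_.Matrix.SpecialLinearGroup (Fin n) F))) (toM n F) :=
    Lin.mk_quot (toM n F) (fun g g' hg => Subtype.ext hg) (fun z hz => by
      obtain ⟨c, -, hc⟩ := sl_center hz
      exact ⟨c, by rw [hc, algebraMap_mat]⟩)
  have : Finite (_root_.Matrix.SpecialLinearGroup (Fin n) F) := inferInstance
  refine H.false_of_idx h h2 fun Y hY hY0 hYx => ?_
  refine index_le_of_hom (GeneralLinearGroup.det.comp (dsU h2 hY hY0)) _ ?_ (det_range_le h2 hY hY0)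
  intro e he
  have hdet : (Ds e : Matrix (Fin n) (Fin n) F).det = 1 := congrArg Units.val (MonoidHom.mem_ker.1 he)
  exact ⟨⟨Ds e, hdet⟩, rfl⟩

theorem row_sp (h2 : (2 : F) ≠ 0) {m : ℕ} (hm : 1 ≤ m) {th : V → PSp m F} {O K0 : Subgroup (PSp m F)}
    (h : Sit th O K0) : False := by
  haveI : Nonempty (Fin m ⊕ Fin m) := ⟨Sum.inl ⟨0, hm⟩⟩
  have H : Lin F (QuotientGroup.mk' (center (symplecticGroup (Fin m) F))) (toS m F) :=
    Lin.mk_quot (toS m F) (fun g g' hg => Subtype.ext hg) (fun z hz => by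
      obtain ⟨c, -, hc⟩ := sp_center hz
      exact ⟨c, by rw [hc, algebraMap_mat]⟩)
  have : Finite (symplecticGroup (Fin m) F) := Subtype.finite
  have hS : SForm (sympForm m F) (fun c : F => c) :=
    { add_left := ClassicalGeometry.SympBasic.sympForm_add_left
      add_right := ClassicalGeometry.SympBasic.sympForm_add_right
      smul_left := ClassicalGeometry.SympBasic.sympForm_smul_left
      smul_right := ClassicalGeometry.SympBasic.sympForm_smul_right
      ne := by
        refine ⟨Pi.single (Sum.inl ⟨0, hm⟩) 1, Pi.single (Sum.inr ⟨0, hm⟩) 1, ?_⟩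
        rw [ClassicalGeometry.SympBasic.sympForm_single_inl_left]
        simp }
  refine H.false_of_idx h h2 fun Y hY hY0 hYx => ?_
  have htop : Hs (F := F) h2 hY hY0 (toS m F) = ⊤ := by
    rw [eq_top_iff]
    intro e _
    have hiso : ∀ (g : symplecticGroup (Fin m) F) u v, sympForm m F (toS m F g *ᵥ u) (toS m F g *ᵥ v) =
        sympForm m F u v := fun g u v => ClassicalGeometry.SympBasic.sympForm_mulVec g.2 u v
    have h3 : (Ds e : Matrix (Fin m ⊕ Fin m) (Fin m ⊕ Fin m) F) ∈ symplecticGroup (Fin m) F :=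
      ClassicalGeometry.SympBasic.mem_symplecticGroup_iff.2 (hS.Ds_iso H h h2 hiso hY hY0 hYx e)
    exact ⟨⟨_, h3⟩, rfl⟩
  rw [htop, index_top]
  norm_num

theorem row_su {q : ℕ} (hF : Fintype.card F = q ^ 2) (h2 : (2 : F) ≠ 0) {n : ℕ} (hn : 3 ≤ n) {th : V → PSU n F q}
    {O K0 : Subgroup (PSU n F q)} (h : Sit th O K0) : False := by
  haveI : Nonempty (Fin n) := ⟨⟨0, by omega⟩⟩
  have H : Lin F (QuotientGroup.mk' (center (SU n F q))) (toU n F q) :=
    Lin.mk_quot (toU n F q) (fun g g' hg => Subtype.ext (Subtype.ext hg)) (fun z hz => by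
      obtain ⟨c, -, hc⟩ := su_center hF hn hz
      exact ⟨c, by rw [hc, algebraMap_mat]⟩)
  have : Finite (SU n F q) := inferInstance
  have hS : SForm (hermForm n F q) (fun c : F => c ^ q) :=
    { add_left := LieClassical.HermBasic.herm_add_left
      add_right := LieClassical.HermBasic.herm_add_right hF
      smul_left := LieClassical.HermBasic.herm_smul_left
      smul_right := LieClassical.HermBasic.herm_smul_right
      ne := by
        refine ⟨Pi.single ⟨0, by omega⟩ 1, Pi.single ⟨0, by omega⟩ 1, ?_⟩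
        have hq : q ≠ 0 := by
          rintro rfl
          have := Fintype.card_pos (α := F)
          rw [hF] at this
          simp at this
        unfold hermForm
        rw [Finset.sum_eq_single (⟨0, by omega⟩ : Fin n)]
        · simp
        · intro j _ hj
          simp [hj]
        · simp }
  refine H.false_of_idx h h2 fun Y hY hY0 hYx => ?_
  refine index_le_of_hom (GeneralLinearGroup.det.comp (dsU h2 hY hY0)) _ ?_ (det_range_le h2 hY hY0)
  intro e he
  have hdet : (Ds e : Matrix (Fin n) (Fin n) F).det = 1 := congrArg Units.val (MonoidHom.mem_ker.1 he)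
  have hiso : ∀ (g : SU n F q) u v, hermForm n F q (toU n F q g *ᵥ u) (toU n F q g *ᵥ v) =
      hermForm n F q u v := fun g u v => g.2 u v
  exact ⟨⟨⟨Ds e, hdet⟩, fun u v => hS.Ds_iso H h h2 hiso hY hY0 hYx e u v⟩, rfl⟩

/-- the matrix of an element of `Ω(Q)` -/
def toO {κ : Type} [Fintype κ] [DecidableEq κ] (Q : (κ → F) → F) : Omega F Q →* Matrix κ κ F where
  toFun g := (((g : isometryGroup F Q) : GeneralLinearGroup κ F) : Matrix κ κ F)
  map_one' := rfl
  map_mul' _ _ := rfl

theorem row_om {κ : Type} [Fintype κ] [DecidableEq κ] (h2 : (2 : F) ≠ 0) (Q : QuadraticForm F (κ → F))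
    (hQ : (QuadraticMap.polarBilin Q).Nondegenerate) (hκ : 3 ≤ Fintype.card κ) (hs : ∃ u : κ → F, u ≠ 0 ∧ Q u = 0)
    {th : V → POmega F (⇑Q)} {O K0 : Subgroup (POmega F (⇑Q))} (h : Sit th O K0) : False := by
  haveI : Nonempty κ := Fintype.card_pos_iff.1 (by omega)
  have H : Lin F (QuotientGroup.mk' (center (Omega F (⇑Q)))) (toO (⇑Q)) :=
    Lin.mk_quot (toO (⇑Q)) (fun g g' hg => Subtype.ext (Subtype.ext (Units.ext hg))) (fun z hz => by
      rcases (LieClassical.OrthCenter.mem_center_omega_iff hQ hκ hs z).1 hz with h1 | h1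
      · exact ⟨1, by rw [map_one]; exact h1⟩
      · exact ⟨-1, by rw [map_neg, map_one]; exact h1⟩)
  have : Finite (Omega F (⇑Q)) := inferInstance
  have hS : SForm (QuadraticMap.polar (⇑Q)) (fun c : F => c) :=
    { add_left := QuadraticMap.polar_add_left Q
      add_right := QuadraticMap.polar_add_right Q
      smul_left := fun c u v => by rw [QuadraticMap.polar_smul_left, smul_eq_mul]
      smul_right := fun c u v => by rw [QuadraticMap.polar_smul_right, smul_eq_mul]
      ne := by
        by_contra hcon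
        push Not at hcon
        have hne : ∃ u : κ → F, u ≠ 0 := exists_ne 0
        obtain ⟨u, hu⟩ := hne
        apply hu
        exact hQ.1 u fun v => hcon u v }
  have hhalf : ∀ v, QuadraticMap.polar (⇑Q) v v = 2 * Q v := by
    intro v
    rw [QuadraticMap.polar, ← two_smul F v, QuadraticMap.map_smul, smul_eq_mul]
    ring
  refine H.false_of_idx h h2 fun Y hY hY0 hYx => ?_
  have hiso : ∀ (g : Omega F (⇑Q)) u v, QuadraticMap.polar (⇑Q) (toO (⇑Q) g *ᵥ u) (toO (⇑Q) g *ᵥ v) =
      QuadraticMap.polar (⇑Q) u v := by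
    intro g u v
    have hg : ∀ w, Q (toO (⇑Q) g *ᵥ w) = Q w := fun w => (g : isometryGroup F (⇑Q)).2 w w
    rw [QuadraticMap.polar, QuadraticMap.polar, ← mulVec_add, hg, hg, hg]
  have hds : ∀ (e : X F Y → ℤˣ) w, Q (Ds e *ᵥ w) = Q w := by
    intro e w
    have h3 := hS.Ds_iso H h h2 hiso hY hY0 hYx e w w
    rw [hhalf, hhalf] at h3
    exact mul_left_cancel₀ h2 h3
  let δ : (X F Y → ℤˣ) →* isometryGroup F (⇑Q) :=
    (dsU h2 hY hY0).codRestrict (isometryGroup F (⇑Q)) (fun e w _ => hds e w)
  refine index_le_of_hom ((QuotientGroup.mk' (Omega F (⇑Q))).comp δ) _ ?_ ?_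
  · intro e he
    have h3 : δ e ∈ Omega F (⇑Q) := by
      rw [MonoidHom.mem_ker, MonoidHom.comp_apply, ← MonoidHom.mem_ker, QuotientGroup.ker_mk'] at he
      exact he
    exact ⟨⟨δ e, h3⟩, rfl⟩
  · have h3 : (Omega F (⇑Q)).index = 4 := ClassicalGeometry.OmegaIndex.index_Omega h2 (by omega) Q hQ
    have hfin : Finite (isometryGroup F (⇑Q)) := inferInstance
    calc Nat.card _ ≤ Nat.card (isometryGroup F (⇑Q) ⧸ Omega F (⇑Q)) :=
          Nat.card_le_card_of_injective _ (Subgroup.subtype_injective _)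
      _ = 4 := h3

/-! ### the rows -/

end Cfsg.Agent.H336.SpSix.ClassInst
end

-- part: H336/SpSix/ClassRow
section
/-!
# The classical groups: only characteristic 2 remains
-/

set_option autoImplicit false

namespace Cfsg.Agent.H336.SpSix.ClassRow

open Subgroup Cfsg Matrix Cfsg.Agent.H336.SpSix Cfsg.Agent.H336.SpSix.ClassInst
open Cfsg.Agent.LieClassical.OmegaReindex

theorem charP_two_or {F : Type*} [Field F] [Finite F] : CharP F 2 ∨ (2 : F) ≠ 0 := by
  by_cases h : (2 : F) = 0
  · exact Or.inl (CharTwo.of_one_ne_zero_of_two_eq_zero one_ne_zero h)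
  · exact Or.inr h

theorem row_om_eq {F : Type} [Field F] [Fintype F] {κ : Type} [Fintype κ] [DecidableEq κ] (h2 : (2 : F) ≠ 0)
    (Q : QuadraticForm F (κ → F)) (Q' : (κ → F) → F) (hQQ : ⇑Q = Q')
    (hQ : (QuadraticMap.polarBilin Q).Nondegenerate) (hκ : 3 ≤ Fintype.card κ) (hs : ∃ u : κ → F, u ≠ 0 ∧ Q' u = 0)
    {th : V → POmega F Q'} {O K0 : Subgroup (POmega F Q')} (h : Sit th O K0) : False := by
  subst hQQ
  exact row_om h2 Q hQ hκ hs h

theorem charTwo_of_classical {K : Type*} [Group K] [Finite K] {th : V → K} {O K0 : Subgroup K} (h : Sit th O K0)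
    (hK : IsPSL K ∨ IsPSp K ∨ IsPSU K ∨ IsPOmegaOdd K ∨ IsPOmegaPlus K ∨ IsPOmegaMinus K) :
    IsLieTypeChar 2 K := by
  rcases hK with hK | hK | hK | hK | hK | hK
  · obtain ⟨F, _, _, n, hn, h4, ⟨e⟩⟩ := hK
    rcases charP_two_or (F := F) with h2 | h2
    · exact Or.inl ⟨F, inferInstance, inferInstance, h2, n, hn, h4, ⟨e⟩⟩
    · exact (row_sl h2 (by omega) (h.equiv e)).elim
  · obtain ⟨F, _, _, m, hm, h4, ⟨e⟩⟩ := hK
    rcases charP_two_or (F := F) with h2 | h2
    · exact Or.inr (Or.inl ⟨F, inferInstance, inferInstance, h2, m, hm, h4, ⟨e⟩⟩)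
    · exact (row_sp h2 (by omega) (h.equiv e)).elim
  · obtain ⟨F, _, _, n, q, hF, hn, h4, ⟨e⟩⟩ := hK
    rcases charP_two_or (F := F) with h2 | h2
    · exact Or.inr (Or.inr (Or.inl ⟨F, inferInstance, inferInstance, h2, n, q, hF, hn, h4, ⟨e⟩⟩))
    · exact (row_su hF h2 hn (h.equiv e)).elim
  · obtain ⟨F, _, _, m, hm, hodd, ⟨e⟩⟩ := hK
    have h2 : (2 : F) ≠ 0 := Cfsg.Agent.SignalizersComponents.SLQuasisimple.two_ne_zero_of_odd hodd
    refine (row_om_eq h2 (quadOdd m F) _ (coe_quadOdd m F) (quadOdd_nondegenerate h2) ?_ ?_ (h.equiv e)).elim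
    · simp only [_root_.Fintype.card_sum, _root_.Fintype.card_unique, _root_.Fintype.card_fin]; omega
    · refine ⟨Pi.single (.inr (.inl ⟨0, by omega⟩)) 1, ?_, ?_⟩
      · intro hh
        have := congrFun hh (.inr (.inl ⟨0, by omega⟩))
        simp at this
      · simp only [quadFormOdd, _root_.Cfsg.quadFormOdd, _root_.ne_eq, _root_.reduceCtorEq, _root_.not_false_eq_true, _root_.Pi.single_eq_of_ne, _root_.OfNat.ofNat_ne_zero, _root_.zero_pow, _root_.Sum.inr.injEq, _root_.MulZeroClass.mul_zero, _root_.Finset.sum_const_zero, _root_.add_zero]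
  · obtain ⟨F, _, _, m, hm, ⟨e⟩⟩ := hK
    rcases charP_two_or (F := F) with h2 | h2
    · exact Or.inr (Or.inr (Or.inr (Or.inr (Or.inl ⟨F, inferInstance, inferInstance, h2, m, hm, ⟨e⟩⟩))))
    · refine (row_om_eq h2 (quadPlus m F) _ (coe_quadPlus m F) quadPlus_nondegenerate ?_ ?_ (h.equiv e)).elim
      · simp only [_root_.Fintype.card_sum, _root_.Fintype.card_fin]; omega
      · refine ⟨Pi.single (.inl ⟨0, by omega⟩) 1, ?_, ?_⟩
        · intro hh
          have := congrFun hh (.inl ⟨0, by omega⟩)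
          simp at this
        · simp only [quadFormPlus, _root_.Cfsg.quadFormPlus, _root_.ne_eq, _root_.reduceCtorEq, _root_.not_false_eq_true, _root_.Pi.single_eq_of_ne, _root_.MulZeroClass.mul_zero, _root_.Finset.sum_const_zero]
  · obtain ⟨F, _, _, m, a, b, hm, hab, ⟨e⟩⟩ := hK
    rcases charP_two_or (F := F) with h2 | h2
    · exact Or.inr (Or.inr (Or.inr (Or.inr (Or.inr (Or.inl ⟨F, inferInstance, inferInstance, h2, m, a, b, hm, hab, ⟨e⟩⟩)))))
    · refine (row_om_eq h2 (quadMinus (m - 1) F a b) _ (coe_quadMinus (m - 1) F a b) (quadMinus_nondegenerate hab) ?_ ?_ (h.equiv e)).elim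
      · simp only [_root_.Fintype.card_sum, _root_.Fintype.card_fin, _root_.Nat.reduceLeDiff]; omega
      · refine ⟨Pi.single (.inl (.inl ⟨0, by omega⟩)) 1, ?_, ?_⟩
        · intro hh
          have := congrFun hh (.inl (.inl ⟨0, by omega⟩))
          simp only [_root_.Pi.single_eq_same, _root_.Pi.zero_apply, _root_.one_ne_zero] at this
        · simp only [quadFormMinus, _root_.Cfsg.quadFormMinus, _root_.ne_eq, _root_.Sum.inl.injEq, _root_.reduceCtorEq, _root_.not_false_eq_true, _root_.Pi.single_eq_of_ne, _root_.MulZeroClass.mul_zero, _root_.Finset.sum_const_zero, _root_.Fin.isValue, _root_.OfNat.ofNat_ne_zero, _root_.zero_pow, _root_.add_zero]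

end Cfsg.Agent.H336.SpSix.ClassRow
end

-- part: H669/Sp6/Alt
section
/-!
# No alternating group contains an elementary abelian subgroup of order 64 with symplectic normaliser

Task 1299 (row of S3405).
-/

set_option autoImplicit false

namespace Cfsg.Agent.H669.Sp6

open Cfsg.Agent.H336.SpSix Equiv.Perm

theorem card_V : Fintype.card V = 64 := by simp [V]

namespace Alt

variable {n : ℕ} {th : V → alternatingGroup (Fin n)} {O K0 : Subgroup (alternatingGroup (Fin n))}

/-- the permutation given by a vector -/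
abbrev P (th : V → alternatingGroup (Fin n)) (v : V) : Equiv.Perm (Fin n) := (th v : Equiv.Perm (Fin n))

theorem P_add (h : Sit th O K0) (u v : V) : P th (u + v) = P th u * P th v := by
  simp only [P, h.add, Subgroup.coe_mul]

theorem P_zero (h : Sit th O K0) : P th 0 = 1 := by
  simp only [P, h.zero, Subgroup.coe_one]

theorem P_add_apply (h : Sit th O K0) (u v : V) (x : Fin n) : P th (u + v) x = P th u (P th v x) := by
  rw [P_add h]; rfl

theorem P_P (h : Sit th O K0) (v : V) (x : Fin n) : P th v (P th v x) = x := by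
  rw [← P_add_apply h, v_add_self, P_zero h]; rfl

theorem P_comm (h : Sit th O K0) (u v : V) (x : Fin n) : P th u (P th v x) = P th v (P th u x) := by
  rw [← P_add_apply h, ← P_add_apply h, add_comm]

theorem P_eq_one (h : Sit th O K0) {v : V} (hv : P th v = 1) : v = 0 := by
  rw [← h.eq_one_iff]; exact Subtype.ext hv

/-- even involutions which commute with `A` lie in `A` -/
theorem exists_P (h : Sit th O K0) {s : Equiv.Perm (Fin n)} (hc : ∀ v x, s (P th v x) = P th v (s x))
    (h2 : ∀ x, s (s x) = x) (he : sign s = 1) : ∃ w, P th w = s := by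
  have hs : s ∈ alternatingGroup (Fin n) := mem_alternatingGroup.2 he
  obtain ⟨w, hw⟩ := h.mem_of_mul_self (x := ⟨s, hs⟩)
    (fun v => Subtype.ext (Equiv.ext fun x => hc v x)) (Subtype.ext (Equiv.ext fun x => h2 x))
  exact ⟨w, congrArg Subtype.val hw⟩

theorem card_support_eq (h : Sit th O K0) {u v : V} (hu : u ≠ 0) (hv : v ≠ 0) :
    (P th u).support.card = (P th v).support.card := by
  obtain ⟨k, -, hk⟩ := h.exists_conj hu hv
  have hk' : (k : Equiv.Perm (Fin n)) * P th u * (k : Equiv.Perm (Fin n))⁻¹ = P th v := by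
    have := congrArg Subtype.val hk
    simpa only [_root_.Subgroup.coe_mul, _root_.InvMemClass.coe_inv] using this
  rw [← hk', card_support_conj]

/-- two nonzero vectors do not have disjoint supports -/
theorem not_disjoint (h : Sit th O K0) {u v : V} (hu : u ≠ 0) (hv : v ≠ 0) (hd : (P th u).Disjoint (P th v)) :
    False := by
  have huv : u + v ≠ 0 := fun hh => by
    rw [add_eq_zero_iff] at hh
    subst hh
    exact hu (P_eq_one h (disjoint_refl_iff.1 hd))
  have h1 := hd.card_support_mul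
  rw [← P_add h, card_support_eq h huv hu, card_support_eq h hv hu] at h1
  have h2 : (P th u).support.card ≠ 0 := fun hh => hu (P_eq_one h (card_support_eq_zero.1 hh))
  omega

/-- restriction of `v` to the orbit of `x` -/
noncomputable def dl (h : Sit th O K0) (x : Fin n) (v : V) : Equiv.Perm (Fin n) := by
  classical
  exact Function.Involutive.toPerm (fun y => if ∃ u, P th u x = y then P th v y else y) (by
    intro y
    by_cases hy : ∃ u, P th u x = y
    · have hy' : ∃ u, P th u x = P th v y := by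
        obtain ⟨u, rfl⟩ := hy
        exact ⟨v + u, P_add_apply h v u x⟩
      simp only [hy, hy', if_true]
      exact P_P h v y
    · simp only [hy, if_false])

theorem dl_of_mem (h : Sit th O K0) {x y : Fin n} (v : V) (hy : ∃ u, P th u x = y) : dl h x v y = P th v y := by
  classical
  exact if_pos hy

theorem dl_of_not (h : Sit th O K0) {x y : Fin n} (v : V) (hy : ¬ ∃ u, P th u x = y) : dl h x v y = y := by
  classical
  exact if_neg hy

theorem mem_orb_iff (h : Sit th O K0) (x y : Fin n) (w : V) :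
    (∃ u, P th u x = P th w y) ↔ ∃ u, P th u x = y := by
  constructor
  · rintro ⟨u, hu⟩
    exact ⟨w + u, by rw [P_add_apply h, hu, P_P h]⟩
  · rintro ⟨u, rfl⟩
    exact ⟨w + u, P_add_apply h w u x⟩

theorem dl_comm (h : Sit th O K0) (x : Fin n) (v w : V) (y : Fin n) :
    dl h x v (P th w y) = P th w (dl h x v y) := by
  by_cases hy : ∃ u, P th u x = y
  · rw [dl_of_mem h v hy, dl_of_mem h v ((mem_orb_iff h x y w).2 hy), P_comm h]
  · rw [dl_of_not h v hy, dl_of_not h v (fun hh => hy ((mem_orb_iff h x y w).1 hh))]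

theorem dl_dl (h : Sit th O K0) (x : Fin n) (v : V) (y : Fin n) : dl h x v (dl h x v y) = y := by
  by_cases hy : ∃ u, P th u x = y
  · rw [dl_of_mem h v hy, dl_of_mem h v ((mem_orb_iff h x y v).2 hy), P_P h]
  · rw [dl_of_not h v hy, dl_of_not h v hy]

/-- if the orbit is fixed by a vector at one point, then everywhere -/
theorem fix_orb (h : Sit th O K0) {x y : Fin n} {v : V} (hx : P th v x = x) (hy : ∃ u, P th u x = y) :
    P th v y = y := by
  obtain ⟨u, rfl⟩ := hy
  rw [P_comm h, hx]

/-- the number of points of an orbit is a power of two -/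
theorem card_orb (h : Sit th O K0) (x : Fin n) :
    (Finset.univ.image fun v => P th v x).card ∣ 64 := by
  have h1 : (Finset.univ : Finset V).card = ∑ y ∈ (Finset.univ.image fun v => P th v x),
      (Finset.univ.filter fun v => P th v x = y).card :=
    Finset.card_eq_sum_card_image (fun v => P th v x) Finset.univ
  have h2 : ∀ y ∈ (Finset.univ.image fun v => P th v x),
      (Finset.univ.filter fun v => P th v x = y).card = (Finset.univ.filter fun v => P th v x = x).card := by
    intro y hy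
    obtain ⟨u, -, rfl⟩ := Finset.mem_image.1 hy
    apply Finset.card_bij (fun v _ => u + v)
    · intro a ha
      simp only [Finset.mem_filter, Finset.mem_univ, true_and] at ha ⊢
      rw [P_add_apply h, ha, P_P h]
    · intro a _ b _ hab
      exact add_left_cancel hab
    · intro b hb
      simp only [Finset.mem_filter, Finset.mem_univ, true_and] at hb
      refine ⟨u + b, ?_, self_add_add u b⟩
      simp only [Finset.mem_filter, Finset.mem_univ, true_and]
      rw [P_add_apply h, hb]
  rw [Finset.sum_congr rfl h2, Finset.sum_const, smul_eq_mul, Finset.card_univ, card_V] at h1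
  exact Dvd.intro _ h1.symm

/-- parity of a fixed point free involution on a set of `4 m` points -/
theorem sign_of_four {s : Equiv.Perm (Fin n)} (h2 : ∀ x, s (s x) = x) (h4 : 4 ∣ s.support.card) : sign s = 1 := by
  by_cases h1 : s = 1
  · rw [h1, map_one]
  have ho : orderOf s = 2 := orderOf_eq_prime (by rw [pow_two]; exact Equiv.ext fun x => h2 x) h1
  obtain ⟨k, hk⟩ := cycleType_prime_order (σ := s) (by rw [ho]; exact Nat.prime_two)
  rw [ho] at hk
  have hs := sum_cycleType s
  rw [hk, Multiset.sum_replicate, smul_eq_mul] at hs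
  rw [sign_of_cycleType, hk, Multiset.sum_replicate, Multiset.card_replicate, smul_eq_mul]
  have h3 : Even ((k + 1) * 2 + (k + 1)) := by
    obtain ⟨m, hm⟩ := h4
    rw [← hs] at hm
    exact ⟨3 * m, by omega⟩
  exact h3.neg_one_pow

theorem support_dl (h : Sit th O K0) {x : Fin n} {v : V} (hv : P th v x ≠ x) :
    (dl h x v).support = Finset.univ.image fun v => P th v x := by
  ext y
  rw [mem_support]
  simp only [Finset.mem_image, Finset.mem_univ, true_and]
  constructor
  · intro hy
    by_contra hc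
    exact hy (dl_of_not h v hc)
  · rintro ⟨u, rfl⟩ hy
    rw [dl_of_mem h v ⟨u, rfl⟩, P_comm h] at hy
    exact hv ((P th u).injective hy)

theorem exists_ne (h : Sit th O K0) : ∃ v x, P th v x ≠ x := by
  by_contra hc
  push Not at hc
  have h1 : P th (Pi.single (Sum.inl 0) 1) = 1 := Equiv.ext fun x => hc _ x
  have h2 := P_eq_one h h1
  have h3 := congrFun h2 (Sum.inl 0)
  simp only [_root_.Fin.isValue, _root_.Pi.single_eq_same, _root_.Pi.zero_apply, _root_.one_ne_zero] at h3

/-- there is exactly one nontrivial orbit and it is regular -/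
theorem regular (h : Sit th O K0) : ∃ x, (∀ v, P th v x = x → v = 0) ∧
    ∀ y, (¬ ∃ u, P th u x = y) → ∀ v, P th v y = y := by
  by_cases hcase : ∃ x v0, P th v0 x ≠ x ∧ ∀ v, sign (dl h x v) = 1
  · obtain ⟨x, v0, hv0, hs⟩ := hcase
    refine ⟨x, ?_⟩
    have key : ∀ v, P th v x = x ∨ ∀ y, (¬ ∃ u, P th u x = y) → P th v y = y := by
      intro v
      obtain ⟨w, hw⟩ := exists_P h (dl_comm h x v) (dl_dl h x v) (hs v)
      by_cases hw0 : w = 0
      · left
        rw [hw0, P_zero h] at hw
        have := dl_of_mem h v (x := x) (y := x) ⟨0, by rw [P_zero h]; rfl⟩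
        rw [← hw] at this
        exact this.symm
      by_cases hvw : v + w = 0
      · right
        rw [add_eq_zero_iff] at hvw
        intro y hy
        rw [hvw, hw]
        exact dl_of_not h v hy
      · exfalso
        refine not_disjoint h hw0 hvw ?_
        intro y
        by_cases hy : ∃ u, P th u x = y
        · right
          rw [P_add_apply h, hw, dl_of_mem h v hy, P_P h]
        · left
          rw [hw, dl_of_not h v hy]
    have hW : ∀ v y, (¬ ∃ u, P th u x = y) → P th v y = y := by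
      have hW0 := (key v0).resolve_left hv0
      intro v
      rcases key v with h1 | h1
      · rcases key (v + v0) with h2 | h2
        · exfalso
          apply hv0
          rw [add_comm, P_add_apply h, h1] at h2
          exact h2
        · intro y hy
          have h3 := h2 y hy
          rwa [P_add_apply h, hW0 y hy] at h3
      · exact h1
    refine ⟨?_, fun y hy v => hW v y hy⟩
    intro v hv
    apply P_eq_one h
    ext1 y
    by_cases hy : ∃ u, P th u x = y
    · exact fix_orb h hv hy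
    · exact hW v y hy
  · exfalso
    push Not at hcase
    -- all nontrivial orbits have two points
    have htwo : ∀ x v0, P th v0 x ≠ x → ∀ v, P th v x = x ∨ P th v x = P th v0 x := by
      intro x v0 hv0
      obtain ⟨v1, hv1⟩ := hcase x v0 hv0
      have hn4 : ¬ 4 ∣ (Finset.univ.image fun v => P th v x).card := by
        intro h4
        by_cases hvx : P th v1 x = x
        · apply hv1
          have : dl h x v1 = 1 := by
            ext1 y
            by_cases hy : ∃ u, P th u x = y
            · rw [dl_of_mem h v1 hy]; exact fix_orb h hvx hy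
            · rw [dl_of_not h v1 hy]; rfl
          rw [this, map_one]
        · rw [← support_dl h hvx] at h4
          exact hv1 (sign_of_four (dl_dl h x v1) h4)
      have hd := card_orb h x
      rw [show (64 : ℕ) = 2 ^ 6 by norm_num, Nat.dvd_prime_pow Nat.prime_two] at hd
      obtain ⟨k, -, hk⟩ := hd
      have hk1 : k ≤ 1 := by
        by_contra hc
        apply hn4
        rw [hk]
        exact pow_dvd_pow 2 (by omega : 2 ≤ k)
      have hle : (Finset.univ.image fun v => P th v x).card ≤ 2 := by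
        rw [hk]
        calc 2 ^ k ≤ 2 ^ 1 := Nat.pow_le_pow_right (by norm_num) hk1
          _ = 2 := by norm_num
      have hsub : ({x, P th v0 x} : Finset (Fin n)) ⊆ Finset.univ.image fun v => P th v x := by
        intro y hy
        simp only [Finset.mem_insert, Finset.mem_singleton] at hy
        simp only [Finset.mem_image, Finset.mem_univ, true_and]
        rcases hy with rfl | rfl
        · exact ⟨0, by rw [P_zero h]; rfl⟩
        · exact ⟨v0, rfl⟩
      have heq := Finset.eq_of_subset_of_card_le hsub (by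
        rw [Finset.card_pair (Ne.symm hv0)]; exact hle)
      intro v
      have : P th v x ∈ ({x, P th v0 x} : Finset (Fin n)) := by
        rw [heq]
        exact Finset.mem_image.2 ⟨v, Finset.mem_univ _, rfl⟩
      simpa using this
    obtain ⟨v0, x, hv0⟩ := exists_ne h
    -- a second orbit
    have hsec : ∃ y v1, (¬ ∃ u, P th u x = y) ∧ P th v1 y ≠ y := by
      by_contra hc
      push Not at hc
      have hcard : (Finset.univ : Finset V).card ≤ ({x, P th v0 x} : Finset (Fin n)).card := by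
        apply Finset.card_le_card_of_injOn (fun v => P th v x)
        · intro v _
          have := htwo x v0 hv0 v
          simpa using this
        · intro a _ b _ hab
          have hab' : P th a x = P th b x := hab
          have h1 : P th (a + b) x = x := by rw [P_add_apply h, ← hab', P_P h]
          have h2 : a + b = 0 := by
            apply P_eq_one h
            ext1 y
            by_cases hy : ∃ u, P th u x = y
            · exact fix_orb h h1 hy
            · exact hc y (a + b) (fun u hu => hy ⟨u, hu⟩)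
          exact (add_eq_zero_iff _ _).1 h2
      rw [Finset.card_univ, card_V, Finset.card_pair (Ne.symm hv0)] at hcard
      omega
    obtain ⟨y, v1, hy, hv1⟩ := hsec
    have hy' : ¬ ∃ u, P th u y = x := by
      rintro ⟨u, hu⟩
      exact hy ⟨u, by rw [← hu, P_P h]⟩
    -- a common fixing vector
    have hfix : ∃ a b : V, a ≠ b ∧ P th a x = P th b x ∧ P th a y = P th b y := by
      have hlt : (({x, P th v0 x} : Finset (Fin n)) ×ˢ ({y, P th v1 y} : Finset (Fin n))).card <
          (Finset.univ : Finset V).card := by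
        rw [Finset.card_product, Finset.card_pair (Ne.symm hv0), Finset.card_pair (Ne.symm hv1), Finset.card_univ,
          card_V]
        norm_num
      obtain ⟨a, -, b, -, hab, heq⟩ := Finset.exists_ne_map_eq_of_card_lt_of_maps_to hlt
        (f := fun v => (P th v x, P th v y)) (by
          intro v _
          have h1 := htwo x v0 hv0 v
          have h2 := htwo y v1 hv1 v
          simp only [Finset.mem_coe, Finset.mem_product, Finset.mem_insert, Finset.mem_singleton]
          exact ⟨h1, h2⟩)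
      exact ⟨a, b, hab, (Prod.ext_iff.1 heq).1, (Prod.ext_iff.1 heq).2⟩
    obtain ⟨a, b, hab, hax, hay⟩ := hfix
    have hab0 : a + b ≠ 0 := fun hh => hab ((add_eq_zero_iff _ _).1 hh)
    have habx : P th (a + b) x = x := by rw [P_add_apply h, ← hax, P_P h]
    have haby : P th (a + b) y = y := by rw [P_add_apply h, ← hay, P_P h]
    -- an even product supported on the two orbits
    have hw : ∃ s : Equiv.Perm (Fin n), (∀ v z, s (P th v z) = P th v (s z)) ∧ (∀ z, s (s z) = z) ∧ sign s = 1 ∧
        s ≠ 1 ∧ ∀ z, (¬ ∃ u, P th u x = z) → (¬ ∃ u, P th u y = z) → s z = z := by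
      rcases Int.units_eq_one_or (sign (dl h x v0)) with h1 | h1
      · refine ⟨dl h x v0, dl_comm h x v0, dl_dl h x v0, h1, ?_, fun z hz _ => dl_of_not h v0 hz⟩
        intro hh
        apply hv0
        rw [← dl_of_mem h v0 ⟨0, by rw [P_zero h]; rfl⟩, hh]
        rfl
      rcases Int.units_eq_one_or (sign (dl h y v1)) with h2 | h2
      · refine ⟨dl h y v1, dl_comm h y v1, dl_dl h y v1, h2, ?_, fun z _ hz => dl_of_not h v1 hz⟩
        intro hh
        apply hv1
        rw [← dl_of_mem h v1 ⟨0, by rw [P_zero h]; rfl⟩, hh]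
        rfl
      refine ⟨dl h x v0 * dl h y v1, ?_, ?_, by rw [map_mul, h1, h2]; rfl, ?_, ?_⟩
      · intro v z
        rw [mul_apply, mul_apply, dl_comm, dl_comm]
      · have hcomm : ∀ z, dl h x v0 (dl h y v1 z) = dl h y v1 (dl h x v0 z) := by
          intro z
          by_cases hz : ∃ u, P th u x = z
          · rw [dl_of_mem h v0 hz, dl_comm]
            have hz' : ¬ ∃ u, P th u y = z := by
              rintro ⟨u, rfl⟩
              exact hy ((mem_orb_iff h x y u).1 hz)
            rw [dl_of_not h v1 hz', dl_of_mem h v0 hz]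
          · rw [dl_of_not h v0 hz]
            by_cases hz' : ∃ u, P th u y = z
            · rw [dl_of_mem h v1 hz', dl_of_not]
              rwa [mem_orb_iff h x z v1]
            · rw [dl_of_not h v1 hz', dl_of_not h v0 hz]
        intro z
        rw [mul_apply, mul_apply, hcomm, dl_dl h x v0, dl_dl]
      · intro hh
        apply hv0
        have h3 := congrArg (fun s : Equiv.Perm (Fin n) => s x) hh
        simp only [mul_apply, one_apply] at h3
        rw [dl_of_not h v1 hy', dl_of_mem h v0 ⟨0, by rw [P_zero h]; rfl⟩] at h3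
        exact h3
      · intro z hz hz'
        rw [mul_apply, dl_of_not h v1 hz', dl_of_not h v0 hz]
    obtain ⟨s, hs1, hs2, hs3, hs4, hs5⟩ := hw
    obtain ⟨w, hw⟩ := exists_P h hs1 hs2 hs3
    have hw0 : w ≠ 0 := by
      rintro rfl
      apply hs4
      rw [← hw, P_zero h]
    refine not_disjoint h hab0 hw0 ?_
    intro z
    by_cases hz : ∃ u, P th u x = z
    · left; exact fix_orb h habx hz
    by_cases hz' : ∃ u, P th u y = z
    · left; exact fix_orb h haby hz'
    · right
      rw [hw]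
      exact hs5 z hz hz'

/-- a linear map of order three which is not an isometry -/
def g3 : V ≃+ V where
  toFun v := Sum.elim ![v (Sum.inl 1), v (Sum.inl 0) + v (Sum.inl 1), v (Sum.inl 2)] (fun i => v (Sum.inr i))
  invFun v := Sum.elim ![v (Sum.inl 0) + v (Sum.inl 1), v (Sum.inl 0), v (Sum.inl 2)] (fun i => v (Sum.inr i))
  left_inv := by
    intro v
    funext i
    rcases i with i | i
    · fin_cases i
      · simp only [Sum.elim_inl]
        show v (Sum.inl 1) + (v (Sum.inl 0) + v (Sum.inl 1)) = v (Sum.inl 0)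
        rw [add_left_comm, z2_add_self, add_zero]
      · rfl
      · rfl
    · rfl
  right_inv := by
    intro v
    funext i
    rcases i with i | i
    · fin_cases i
      · rfl
      · simp only [Sum.elim_inl]
        show v (Sum.inl 0) + v (Sum.inl 1) + v (Sum.inl 0) = v (Sum.inl 1)
        rw [add_right_comm, z2_add_self, zero_add]
      · rfl
    · rfl
  map_add' := by
    intro u v
    funext i
    rcases i with i | i
    · fin_cases i
      · rfl
      · show (u (Sum.inl 0) + v (Sum.inl 0)) + (u (Sum.inl 1) + v (Sum.inl 1)) =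
          (u (Sum.inl 0) + u (Sum.inl 1)) + (v (Sum.inl 0) + v (Sum.inl 1))
        ring
      · rfl
    · rfl

/-- the permutation of `V` given by `g3` -/
def s3 : Equiv.Perm V := g3.toEquiv

theorem s3_apply (v : V) : s3 v = g3 v := rfl

theorem s3_pow : s3 ^ 3 = 1 := by
  have h0 : ∀ v : V, (g3 v) (Sum.inl 0) = v (Sum.inl 1) := fun v => rfl
  have h1 : ∀ v : V, (g3 v) (Sum.inl 1) = v (Sum.inl 0) + v (Sum.inl 1) := fun v => rfl
  have h2 : ∀ v : V, (g3 v) (Sum.inl 2) = v (Sum.inl 2) := fun v => rfl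
  have h3 : ∀ (v : V) (i : Fin 3), (g3 v) (Sum.inr i) = v (Sum.inr i) := fun v i => rfl
  have hz := z2_add_self
  apply Equiv.ext
  intro v
  have e1 : (s3 ^ 3) v = g3 (g3 (g3 v)) := by
    rw [pow_succ, pow_two]; rfl
  rw [e1, one_apply]
  funext i
  rcases i with i | i
  · fin_cases i
    · show (g3 (g3 (g3 v))) (Sum.inl 0) = v (Sum.inl 0)
      rw [h0, h1, h0, h1, add_left_comm, hz, add_zero]
    · show (g3 (g3 (g3 v))) (Sum.inl 1) = v (Sum.inl 1)
      simp only [h1, h0]
      linear_combination hz (v (Sum.inl 0)) + hz (v (Sum.inl 1))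
    · show (g3 (g3 (g3 v))) (Sum.inl 2) = v (Sum.inl 2)
      rw [h2, h2, h2]
  · rw [h3, h3, h3]

theorem g3_not_isom : ¬ Isom g3 := by
  intro h
  have := h (Pi.single (Sum.inl 0) 1) (Pi.single (Sum.inr 0) 1)
  revert this
  decide

theorem sign_s3 : sign s3 = 1 := by
  have h := congrArg sign s3_pow
  rw [map_pow, map_one] at h
  rcases Int.units_eq_one_or (sign s3) with h1 | h1
  · exact h1
  · rw [h1] at h
    exact absurd h (by decide)

end Alt

open Alt in
/-- **task 1299** -/
theorem row_alt {n : ℕ} {th : V → alternatingGroup (Fin n)} {O K0 : Subgroup (alternatingGroup (Fin n))}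
    (h : Sit th O K0) : False := by
  classical
  obtain ⟨x, hreg, hout⟩ := regular h
  let p : Fin n → Prop := fun y => ∃ u, P th u x = y
  let e : V ≃ Subtype p := Equiv.ofBijective (fun v => ⟨P th v x, v, rfl⟩) (by
    constructor
    · intro a b hab
      have hab' : P th a x = P th b x := congrArg Subtype.val hab
      have h1 : P th (a + b) x = x := by rw [P_add_apply h, ← hab', P_P h]
      exact (add_eq_zero_iff _ _).1 (hreg _ h1)
    · rintro ⟨y, u, hu⟩
      exact ⟨u, Subtype.ext hu⟩)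
  have he : ∀ v, (e v : Fin n) = P th v x := fun v => rfl
  let s : Equiv.Perm (Fin n) := s3.extendDomain e
  have hs1 : ∀ v, s (P th v x) = P th (g3 v) x := by
    intro v
    have := extendDomain_apply_image s3 e v
    rw [he, he, s3_apply] at this
    exact this
  have hs2 : ∀ y, ¬ p y → s y = y := fun y hy => extendDomain_apply_not_subtype s3 e hy
  have hsign : s ∈ alternatingGroup (Fin n) := by
    rw [mem_alternatingGroup]
    show sign (s3.extendDomain e) = 1
    rw [sign_extendDomain]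
    exact sign_s3
  have hconj : ∀ v, (⟨s, hsign⟩ : alternatingGroup (Fin n)) * th v * (⟨s, hsign⟩ : alternatingGroup (Fin n))⁻¹ =
      th (g3 v) := by
    intro v
    rw [mul_inv_eq_iff_eq_mul]
    apply Subtype.ext
    show s * P th v = P th (g3 v) * s
    ext1 y
    rw [mul_apply, mul_apply]
    by_cases hy : p y
    · obtain ⟨u, rfl⟩ := hy
      rw [← P_add_apply h, hs1, hs1, ← P_add_apply h, map_add]
    · rw [hout y hy, hs2 y hy, hout y hy]
  apply g3_not_isom
  intro u v
  exact h.act ⟨s, hsign⟩ (fun v => ⟨_, hconj v⟩) u v (g3 u) (g3 v) (hconj u) (hconj v)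

end Cfsg.Agent.H669.Sp6
end

private theorem dce_6db8db08bf5f : _root_.True := by
  try have : _root_.True := by simp only [_root_.Cfsg.Agent.H336.SpSix.SForm.hom.congr_simp]
  try have : _root_.True := by simp only [_root_.Cfsg.Agent.H669.Sp6.Alt.dl.congr_simp]
  try have : _root_.True := by simp only [_root_.Cfsg.Agent.H336.SpSix.Wt.sg.eq_1]
  exact _root_.True.intro
end

-- part: H336/SpSix/All
section
prune_inst 0x440480000000200000080908100000010000400000000000020000000000000098088400800000000080001000100000044000000000000000004000000000010800000a0080000000018000000000000000000000000000000000000000004000000000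
set_option linter.all false
open scoped Cfsg.Agent.FastGrp

-- part: H336/SpSix/Reduce
section
/-!
# Reduction to a simple normal subgroup with trivial centraliser
-/

set_option autoImplicit false

namespace Cfsg.Agent.H336.SpSix

open Subgroup Pointwise Cfsg Cfsg.Agent.SporRec.TwoSp6
open Cfsg.Agent.SignalizersComponents.Components Cfsg.Agent.H369.Socle

/-- a 2-subgroup in which `A` is self-normalising -/
theorem eq_of_inf_normalizer_le {G : Type*} [Group G] [Finite G] {P A : Subgroup G} (hP : IsPGroup 2 P) (hA : A ≤ P)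
    (h : P ⊓ normalizer (A : Set G) ≤ A) : P = A := by
  have : Fact (Nat.Prime 2) := ⟨Nat.prime_two⟩
  by_contra hne
  have hnil : Group.IsNilpotent P := hP.isNilpotent
  have hlt : A.subgroupOf P < ⊤ := by
    rw [lt_top_iff_ne_top, Ne, subgroupOf_eq_top]
    exact fun h1 => hne (le_antisymm h1 hA)
  obtain ⟨h1, h2⟩ := SetLike.lt_iff_le_and_exists.1 (Group.normalizerCondition_of_isNilpotent _ hlt)
  obtain ⟨⟨x, hxP⟩, hx, hxA⟩ := h2
  apply hxA
  rw [mem_subgroupOf]
  refine h ⟨hxP, ?_⟩
  change x ∈ normalizer (A : Set G)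
  rw [mem_normalizer_iff] at hx ⊢
  intro a
  constructor
  · intro ha
    have := (hx ⟨a, hA ha⟩).1 (mem_subgroupOf.2 ha)
    exact mem_subgroupOf.1 this
  · intro ha
    have haP : a ∈ P := by
      have h3 := P.mul_mem (P.mul_mem (P.inv_mem hxP) (hA ha)) hxP
      have h4 : x⁻¹ * (x * a * x⁻¹) * x = a := by group
      rwa [h4] at h3
    have := (hx ⟨a, haP⟩).2 (mem_subgroupOf.2 ha)
    exact mem_subgroupOf.1 this

namespace Sit

variable {G : Type*} [Group G] {th : V → G} {O K0 : Subgroup G}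

theorem inv_all (h : Sit th O K0) (M : Subgroup G) (hM : ∀ k ∈ K0, ∀ x ∈ M, k * x * k⁻¹ ∈ M) {v : V}
    (hv : v ≠ 0) (hvM : th v ∈ M) (u : V) : th u ∈ M := by
  by_cases hu : u = 0
  · rw [hu, h.zero]; exact M.one_mem
  · obtain ⟨k, hk, hk'⟩ := h.exists_conj hv hu
    rw [← hk']
    exact hM k hk _ hvM

/-- a normal 2-subgroup of `N` lies in `A` -/
theorem le_of_pgroup_normal [Finite G] (h : Sit th O K0) (R : Subgroup G) (hR : IsPGroup 2 R)
    (hn : (R.subgroupOf (normalizer (h.A : Set G))).Normal) : R ⊓ normalizer (h.A : Set G) ≤ h.A := by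
  rcases h.normal_cases (R.subgroupOf (normalizer (h.A : Set G))) with h2 | h2
  · rintro x ⟨hx, hxN⟩
    have h3 : (⟨x, hxN⟩ : normalizer (h.A : Set G)) ∈ h.rep.ker := h2 (mem_subgroupOf.2 hx)
    rw [MonoidHom.mem_ker, h.rep_eq_one] at h3
    exact h.mem_of_pgroup hR hx h3
  · exfalso
    have h3 : IsPGroup 2 (R.subgroupOf (normalizer (h.A : Set G))) := hR.comap_of_injective _ (subtype_injective _)
    have h4 : IsPGroup 2 (⊤ : Subgroup S) := by
      rw [← h2]
      exact h3.map _
    have : Fact (Nat.Prime 2) := ⟨Nat.prime_two⟩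
    rw [IsPGroup.iff_card, card_top, card_S] at h4
    obtain ⟨n, hn⟩ := h4
    have h5 : 3 ∣ 2 ^ n := by rw [← hn]; decide
    exact absurd (Nat.Prime.dvd_of_dvd_pow Nat.prime_three h5) (by decide)

/-- a normal 2-subgroup -/
theorem pgroup_normal [Finite G] (h : Sit th O K0) (R : Subgroup G) [hRn : R.Normal] (hR : IsPGroup 2 R) :
    R = ⊥ ∨ R = h.A := by
  have h1 := h.le_of_pgroup_normal R hR inferInstance
  by_cases h2 : ∃ v, v ≠ 0 ∧ th v ∈ R
  · right
    obtain ⟨v, hv, hvR⟩ := h2
    have hA : h.A ≤ R := by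
      rintro _ ⟨u, rfl⟩
      exact h.inv_all R (fun k _ x hx => hRn.conj_mem x hx k) hv hvR u
    exact eq_of_inf_normalizer_le hR hA h1
  · left
    push Not at h2
    have h3 : IsPGroup 2 (R ⊔ h.A : Subgroup G) := hR.to_sup_of_normal_left h.isPGroup_A
    have h4 : R ⊔ h.A = h.A := by
      refine eq_of_inf_normalizer_le h3 le_sup_right ?_
      rintro x ⟨hx, hxN⟩
      obtain ⟨r, hr, a, ha, rfl⟩ := mem_sup_of_normal_left.1 hx
      have hrN : r ∈ normalizer (h.A : Set G) := by
        have := (normalizer (h.A : Set G)).mul_mem hxN ((normalizer (h.A : Set G)).inv_mem (le_normalizer ha))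
        rwa [mul_inv_cancel_right] at this
      exact mul_mem (h1 ⟨hr, hrN⟩) ha
    rw [eq_bot_iff]
    intro r hr
    have h5 : r ∈ h.A := by rw [← h4]; exact mem_sup_left hr
    obtain ⟨v, rfl⟩ := h5
    by_cases hv : v = 0
    · rw [hv, h.zero]; exact one_mem _
    · exact absurd hr (h2 v hv)

/-- a normal subgroup of even order contains `A` -/
theorem A_le_of_even [Finite G] (h : Sit th O K0) (M : Subgroup G) [hM : M.Normal] (h2 : 2 ∣ Nat.card M) : h.A ≤ M := by
  have : Fact (Nat.Prime 2) := ⟨Nat.prime_two⟩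
  obtain ⟨P, hP⟩ := h.isPGroup_A.exists_le_sylow
  -- `P ∩ M` is a nontrivial normal subgroup of `P`
  have hne : M.subgroupOf (P : Subgroup G) ≠ ⊥ := by
    obtain ⟨x, hx⟩ := exists_prime_orderOf_dvd_card' 2 h2
    have hxo : orderOf (x : G) = 2 := by rw [orderOf_coe]; exact hx
    have hxp : IsPGroup 2 (zpowers (x : G)) := by
      rw [IsPGroup.iff_card]; exact ⟨1, by rw [Nat.card_zpowers, hxo, pow_one]⟩
    obtain ⟨Q, hQ⟩ := hxp.exists_le_sylow
    obtain ⟨g, hg⟩ := MulAction.exists_smul_eq G Q P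
    have h3 : g * x * g⁻¹ ∈ P := by
      rw [← hg]
      change g * x * g⁻¹ ∈ (MulAut.conj g) • (Q : Subgroup G)
      rw [Subgroup.mem_pointwise_smul_iff_inv_smul_mem]
      have h5 : (MulAut.conj g)⁻¹ • (g * (x : G) * g⁻¹) = x := by
        rw [← map_inv, MulAut.smul_def, MulAut.conj_apply]; group
      rw [h5]
      exact hQ (mem_zpowers _)
    have h4 : g * x * g⁻¹ ∈ M := hM.conj_mem _ x.2 g
    intro hb
    have h5 : (⟨_, h3⟩ : P) ∈ M.subgroupOf (P : Subgroup G) := mem_subgroupOf.2 h4
    rw [hb, mem_bot] at h5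
    have h6 : g * (x : G) * g⁻¹ = 1 := congrArg Subtype.val h5
    rw [mul_inv_eq_one, mul_eq_left] at h6
    rw [h6, orderOf_one] at hxo
    exact absurd hxo (by decide)
  obtain ⟨z, hzM, hz1, hzc⟩ : ∃ z : P, z ∈ M.subgroupOf (P : Subgroup G) ∧ z ≠ 1 ∧ z ∈ center P := by
    have hnil : Group.IsNilpotent (P : Subgroup G) := P.2.isNilpotent
    have h3 := Cfsg.Agent.Lib.NormalAbelian.normal_inf_center_ne_bot (M.subgroupOf (P : Subgroup G)) hne
    obtain ⟨z, hz1⟩ := Subgroup.ne_bot_iff_exists_ne_one.1 h3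
    exact ⟨z, z.2.1, fun hh => hz1 (Subtype.ext hh), z.2.2⟩
  have hzA : (z : G) ∈ h.A := h.mem_of_pgroup P.2 z.2 fun v =>
    (congrArg Subtype.val (mem_center_iff.1 hzc ⟨_, hP (h.th_mem v)⟩)).symm
  obtain ⟨v, hv⟩ := hzA
  have hv0 : v ≠ 0 := by
    rintro rfl
    rw [h.zero] at hv
    exact hz1 (Subtype.ext hv.symm)
  rintro _ ⟨u, rfl⟩
  refine h.inv_all M (fun k _ x hx => hM.conj_mem x hx k) hv0 ?_ u
  rw [hv]
  exact mem_subgroupOf.1 hzM

/-- the simple normal subgroup -/
theorem exists_simple [Finite G] (h : Sit th O K0) (hO : oddCore G = ⊥) (hN : ¬ h.A.Normal) :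
    ∃ K : Subgroup G, K.Normal ∧ IsSimpleGroup K ∧ ¬ IsMulCommutative K ∧ centralizer (K : Set G) = ⊥ ∧
      ∀ v, th v ∈ K := by
  have : Fact (Nat.Prime 2) := ⟨Nat.prime_two⟩
  have h2core : pCore 2 G = ⊥ := by
    rcases h.pgroup_normal (pCore 2 G) (Cfsg.Agent.Lib.Cores.pCore_isPGroup 2) with h1 | h1
    · exact h1
    · exact absurd (h1 ▸ (inferInstance : (pCore 2 G).Normal)) hN
  have hR : NoSol G := by
    apply Cfsg.Agent.H446.TopBound.noSol_of_fitting
    rw [Cfsg.Agent.SignalizersComponents.PConstrained.fittingSubgroup_eq_pCore_of_pPrimeCore_eq_bot 2 hO, h2core]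
  obtain ⟨v0, hv0⟩ : ∃ v : V, v ≠ 0 := exists_ne 0
  have hth0 : th v0 ≠ 1 := fun hh => hv0 ((h.eq_one_iff _).1 hh)
  have heven : ∀ C : Subgroup G, IsComponent C → 2 ∣ Nat.card C := by
    intro C hC
    by_contra hodd
    have h1 := Cfsg.Agent.S0205.result (G := C) (by rwa [← Nat.not_even_iff_odd, even_iff_two_dvd])
    exact quasisimple_not_isSolvable hC.2 h1
  -- a component not centralised by `A`
  obtain ⟨K, hK, x0, hx0, v1, hv1⟩ : ∃ C : Subgroup G, IsComponent C ∧ ∃ x ∈ C, ∃ v, th v * x * (th v)⁻¹ ≠ x := by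
    by_contra hc
    push Not at hc
    exact hth0 (eq_one_of_centralizes hR fun C hC x hx => hc C hC x hx v0)
  have hKs : IsSimpleGroup K := isSimple hR hK
  have hKc : ∀ x ∈ K, (∀ y ∈ K, x * y = y * x) → x = 1 := by
    intro x hx hc
    have h1 : (⟨x, hx⟩ : K) ∈ center K := mem_center_iff.2 fun y => Subtype.ext (hc y y.2).symm
    rw [center_eq_bot hR hK, mem_bot] at h1
    exact congrArg Subtype.val h1
  have hAE : h.A ≤ layer G := by
    have hn : (layer G).Normal := layer_normal G
    exact h.A_le_of_even (layer G) ((heven K hK).trans (card_dvd_of_le (component_le_layer hK)))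
  -- the product decomposition
  let T : Subgroup G :=
    { carrier := {x | ∃ k ∈ K, ∃ c, (∀ y ∈ K, c * y = y * c) ∧ x = k * c}
      one_mem' := ⟨1, K.one_mem, 1, fun y _ => by rw [one_mul, mul_one], (mul_one 1).symm⟩
      mul_mem' := by
        rintro _ _ ⟨k, hk, c, hc, rfl⟩ ⟨k', hk', c', hc', rfl⟩
        refine ⟨k * k', K.mul_mem hk hk', c * c', fun y hy => ?_, ?_⟩
        · rw [mul_assoc, hc' y hy, ← mul_assoc, hc y hy, mul_assoc]
        · rw [mul_assoc, ← mul_assoc c, hc k' hk', mul_assoc, mul_assoc]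
      inv_mem' := by
        rintro _ ⟨k, hk, c, hc, rfl⟩
        refine ⟨k⁻¹, K.inv_mem hk, c⁻¹, fun y hy => ?_, ?_⟩
        · rw [inv_mul_eq_iff_eq_mul, ← mul_assoc, hc y hy, mul_inv_cancel_right]
        · rw [mul_inv_rev, inv_mul_eq_iff_eq_mul, ← mul_assoc, hc _ (K.inv_mem hk), mul_inv_cancel_right] }
  have hT : layer G ≤ T := by
    rw [layer_le_iff]
    intro D hD x hx
    by_cases hDK : D = K
    · subst hDK
      exact ⟨x, hx, 1, fun y _ => by rw [one_mul, mul_one], (mul_one _).symm⟩
    · exact ⟨1, K.one_mem, x, fun y hy => comm_of_ne hD hK hDK hx hy, (one_mul _).symm⟩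
  have hdec : ∀ v, ∃ k ∈ K, ∃ c, (∀ y ∈ K, c * y = y * c) ∧ th v = k * c := fun v => hT (hAE (h.th_mem v))
  -- the components lie in `A`
  have hkA : ∀ v k c, k ∈ K → (∀ y ∈ K, c * y = y * c) → th v = k * c → k ∈ h.A := by
    intro v k c hk hc hv
    refine h.mem_of_mul_self (fun u => ?_) ?_
    · obtain ⟨k', hk', c', hc', hu⟩ := hdec u
      have h1 := h.comm v u
      rw [hv, hu] at h1
      have h2 : (k' * k)⁻¹ * (k * k') = 1 := by
        have h3 : (k' * k)⁻¹ * (k * k') = (c' * c) * (c * c')⁻¹ := by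
          rw [inv_mul_eq_iff_eq_mul, ← mul_assoc, eq_mul_inv_iff_mul_eq]
          calc k * k' * (c * c') = k * (c * k') * c' := by rw [hc k' hk']; group
            _ = k * c * (k' * c') := by group
            _ = k' * c' * (k * c) := h1
            _ = k' * (c' * k) * c := by group
            _ = k' * (k * c') * c := by rw [hc' k hk]
            _ = _ := by group
        refine hKc _ (K.mul_mem (K.inv_mem (K.mul_mem hk' hk)) (K.mul_mem hk hk')) fun y hy => ?_
        rw [h3]
        have hcc : ∀ y ∈ K, (c' * c) * y = y * (c' * c) := fun y hy => by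
          rw [mul_assoc, hc y hy, ← mul_assoc, hc' y hy, mul_assoc]
        have hcc' : ∀ y ∈ K, (c * c')⁻¹ * y = y * (c * c')⁻¹ := fun y hy => by
          rw [inv_mul_eq_iff_eq_mul, ← mul_assoc]
          have : c * c' * y = y * (c * c') := by rw [mul_assoc, hc' y hy, ← mul_assoc, hc y hy, mul_assoc]
          rw [this, mul_inv_cancel_right]
        rw [mul_assoc, hcc' y hy, ← mul_assoc, hcc y hy, mul_assoc]
      rw [inv_mul_eq_one] at h2
      rw [hu, ← mul_assoc, ← h2, mul_assoc, mul_assoc, hc' k hk]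
    · have h1 := h.sq v
      rw [hv] at h1
      refine hKc _ (K.mul_mem hk hk) fun y hy => ?_
      have h2 : k * k = (c * c)⁻¹ := by
        rw [eq_inv_iff_mul_eq_one, ← h1]
        calc k * k * (c * c) = k * (k * c) * c := by group
          _ = k * (c * k) * c := by rw [hc k hk]
          _ = _ := by group
      rw [h2, inv_mul_eq_iff_eq_mul, ← mul_assoc]
      have : c * c * y = y * (c * c) := by rw [mul_assoc, hc y hy, ← mul_assoc, hc y hy, mul_assoc]
      rw [this, mul_inv_cancel_right]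
  -- a nonzero element of `A ∩ K`
  obtain ⟨v, hv, hvK⟩ : ∃ v, v ≠ 0 ∧ th v ∈ K := by
    obtain ⟨k, hk, c, hc, h1⟩ := hdec v1
    obtain ⟨w, hw⟩ := hkA v1 k c hk hc h1
    refine ⟨w, ?_, by rw [hw]; exact hk⟩
    rintro rfl
    rw [h.zero] at hw
    rw [← hw, one_mul] at h1
    rw [h1] at hv1
    exact hv1 (by rw [hc x0 hx0, mul_inv_cancel_right])
  have hAK : ∀ u, th u ∈ K := by
    intro u
    obtain ⟨k, hk, c, hc, h1⟩ := hdec u
    obtain ⟨w, hw⟩ := hkA u k c hk hc h1
    have hcA : c = th (w + u) := by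
      rw [h.add, hw, h1, ← mul_assoc]
      have := h.sq w
      rw [hw] at this
      rw [this, one_mul]
    by_cases hwu : w + u = 0
    · rw [hwu, h.zero] at hcA
      rw [h1, hcA, mul_one]
      exact hk
    · exfalso
      have hne : v + (w + u) ≠ 0 := by
        intro hh
        have h2 : v = w + u := (add_eq_zero_iff _ _).1 hh
        apply hth0
        exfalso
        apply hv
        rw [← h.eq_one_iff]
        refine hKc _ hvK fun y hy => ?_
        rw [h2, ← hcA]
        exact hc y hy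
      obtain ⟨n, -, hn⟩ := h.exists_conj hv hne
      have hD : IsComponent (K.map (MulAut.conj n).toMonoidHom) := isComponent_conj n hK
      have hmem : th (v + (w + u)) ∈ K.map (MulAut.conj n).toMonoidHom := ⟨th v, hvK, hn⟩
      rw [h.add, ← hcA] at hmem
      by_cases hDK : K.map (MulAut.conj n).toMonoidHom = K
      · rw [hDK] at hmem
        have h2 : c ∈ K := by
          have := K.mul_mem (K.inv_mem hvK) hmem
          rwa [inv_mul_cancel_left] at this
        have h3 : c = 1 := hKc c h2 hc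
        rw [h3] at hcA
        exact hwu ((h.eq_one_iff _).1 hcA.symm)
      · have h2 : ∀ y ∈ K, th v * c * y = y * (th v * c) := fun y hy => comm_of_ne hD hK hDK hmem hy
        apply hv
        rw [← h.eq_one_iff]
        refine hKc _ hvK fun y hy => ?_
        have h3 := h2 y hy
        rw [mul_assoc, hc y hy, ← mul_assoc, ← mul_assoc] at h3
        exact mul_right_cancel h3
  -- uniqueness
  have huniq : ∀ D : Subgroup G, IsComponent D → D = K := by
    intro D hD
    by_contra hne
    obtain ⟨x, hx⟩ := exists_prime_orderOf_dvd_card' 2 (heven D hD)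
    have hxo : orderOf (x : G) = 2 := by rw [orderOf_coe]; exact hx
    have hx2 : (x : G) * x = 1 := by rw [← pow_two, ← hxo, pow_orderOf_eq_one]
    obtain ⟨u, hu⟩ := h.mem_of_mul_self (x := x) (fun u => comm_of_ne hD hK hne x.2 (hAK u)) hx2
    have h1 : (x : G) = 1 := hKc x (hu ▸ hAK u) fun y hy => comm_of_ne hD hK hne x.2 hy
    rw [h1, orderOf_one] at hxo
    exact absurd hxo (by decide)
  refine ⟨K, ⟨fun x hx g => ?_⟩, hKs, quasisimple_not_isMulCommutative hK.2, ?_, hAK⟩
  · have h1 := huniq _ (isComponent_conj g hK)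
    rw [← h1]
    exact ⟨x, hx, rfl⟩
  · rw [eq_bot_iff]
    intro x hx
    rw [mem_bot]
    refine eq_one_of_centralizes hR fun C hC y hy => ?_
    rw [huniq C hC] at hy
    rw [← mem_centralizer_iff.1 hx y hy, mul_inv_cancel_right]

/-- restriction to a normal subgroup containing `A`, in which `N_K(A)` does not centralise `A` -/
theorem sub [Finite G] (h : Sit th O K0) (K : Subgroup G) [hKn : K.Normal] (hK : ∀ v, th v ∈ K)
    (hn : ∃ n ∈ K, n ∈ normalizer (h.A : Set G) ∧ ∃ v, n * th v ≠ th v * n) :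
    Sit (fun v => (⟨th v, hK v⟩ : K)) (O.subgroupOf K) (K0.subgroupOf K) := by
  have hsurj : ∀ s : S, ∃ n ∈ K, ∃ hn : n ∈ normalizer (h.A : Set G), h.rep ⟨n, hn⟩ = s := by
    rcases h.normal_cases (K.subgroupOf (normalizer (h.A : Set G))) with h1 | h1
    · exfalso
      obtain ⟨n, hnK, hnN, v, hv⟩ := hn
      have h2 : (⟨n, hnN⟩ : normalizer (h.A : Set G)) ∈ h.rep.ker := h1 (mem_subgroupOf.2 hnK)
      rw [MonoidHom.mem_ker, h.rep_eq_one] at h2
      exact hv (h2 v)
    · intro s
      have h2 : s ∈ (⊤ : Subgroup S) := trivial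
      rw [← h1] at h2
      obtain ⟨⟨n, hnN⟩, hnK, rfl⟩ := h2
      exact ⟨n, mem_subgroupOf.1 hnK, hnN, rfl⟩
  exact
    { add := fun u v => Subtype.ext (h.add u v)
      inj := fun u v huv => h.inj (congrArg Subtype.val huv)
      odd := by
        have h1 : Nat.card (O.subgroupOf K) ∣ Nat.card O := by
          rw [← Nat.card_congr ((O.subgroupOf K).equivMapOfInjective _ K.subtype_injective).toEquiv.symm]
          refine card_dvd_of_le ?_
          rw [subgroupOf_map_subtype]
          exact inf_le_left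
        exact h.odd.of_dvd_nat h1
      oc := fun x hx v => Subtype.ext (h.oc x (mem_subgroupOf.1 hx) v)
      oN := fun x hx n hn => by
        rw [mem_subgroupOf] at hx ⊢
        refine h.oN x hx n fun v => ?_
        obtain ⟨u, hu⟩ := hn v
        exact ⟨u, congrArg Subtype.val hu⟩
      cent := fun x hx => by
        obtain ⟨o, ho, v, hv⟩ := h.cent x fun v => congrArg Subtype.val (hx v)
        have hoK : o ∈ K := by
          have : o = x * (th v)⁻¹ := by rw [hv, mul_inv_cancel_right]
          rw [this]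
          exact K.mul_mem x.2 (K.inv_mem (hK v))
        exact ⟨⟨o, hoK⟩, mem_subgroupOf.2 ho, v, Subtype.ext hv⟩
      act := fun n hn u v u' v' h1 h2 => by
        refine h.act n (fun v => ?_) u v u' v' (congrArg Subtype.val h1) (congrArg Subtype.val h2)
        obtain ⟨u, hu⟩ := hn v
        exact ⟨u, congrArg Subtype.val hu⟩
      k0 := fun k hk v => by
        obtain ⟨u, hu⟩ := h.k0 k (mem_subgroupOf.1 hk) v
        exact ⟨u, Subtype.ext hu⟩
      le := fun x hx => mem_subgroupOf.2 (h.le (mem_subgroupOf.1 hx))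
      k0c := fun k hk hc => mem_subgroupOf.2 (h.k0c k (mem_subgroupOf.1 hk) fun v => congrArg Subtype.val (hc v))
      full := fun g hg => by
        obtain ⟨k, hk, hk'⟩ := h.full g hg
        obtain ⟨n, hnK, hnN, hnk⟩ := hsurj (h.rep ⟨k, h.K0_le hk⟩)
        obtain ⟨o, ho, w, hw⟩ := h.cent (k * n⁻¹) fun v => by
          have h1 : h.rep ⟨k * n⁻¹, mul_mem (h.K0_le hk) (inv_mem hnN)⟩ = 1 := by
            have : (⟨k * n⁻¹, mul_mem (h.K0_le hk) (inv_mem hnN)⟩ : normalizer (h.A : Set G)) =
                ⟨k, h.K0_le hk⟩ * ⟨n, hnN⟩⁻¹ := rfl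
            rw [this, map_mul, map_inv, hnk, mul_inv_cancel]
          exact (h.rep_eq_one _).1 h1 v
        have h2 : o⁻¹ * k = th w * n := by
          rw [inv_mul_eq_iff_eq_mul, ← mul_assoc, ← hw, inv_mul_cancel_right]
        have h3 : o⁻¹ * k ∈ K := by rw [h2]; exact K.mul_mem (hK w) hnK
        refine ⟨⟨o⁻¹ * k, h3⟩, mem_subgroupOf.2 (K0.mul_mem (K0.inv_mem (h.le ho)) hk), fun v => Subtype.ext ?_⟩
        change o⁻¹ * k * th v * (o⁻¹ * k)⁻¹ = th (g v)
        rw [← hk' v]
        have h4 := h.oc o ho (g v)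
        rw [← hk' v] at h4
        calc o⁻¹ * k * th v * (o⁻¹ * k)⁻¹ = o⁻¹ * (k * th v * k⁻¹ * o) := by group
          _ = o⁻¹ * (o * (k * th v * k⁻¹)) := by rw [h4]
          _ = _ := by group }

end Sit

end Cfsg.Agent.H336.SpSix
end

-- part: H336/SpSix/Main
section
/-!
# Reduction theorem
-/

set_option autoImplicit false

namespace Cfsg.Agent.H336.SpSix

open Subgroup Pointwise Cfsg

namespace Sit

variable {G : Type*} [Group G] {th : V → G} {O K0 : Subgroup G}

theorem exists_not_comm [Finite G] (h : Sit th O K0) (K : Subgroup G) [hKs : IsSimpleGroup K]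
    (hKc : ¬ IsMulCommutative K) (hK : ∀ v, th v ∈ K) :
    ∃ n ∈ K, n ∈ normalizer (h.A : Set G) ∧ ∃ v, n * th v ≠ th v * n := by
  by_contra hcon
  push Not at hcon
  have : Fact (Nat.Prime 2) := ⟨Nat.prime_two⟩
  have hAK : h.A ≤ K := by rintro _ ⟨v, rfl⟩; exact hK v
  obtain ⟨P, hP⟩ := (h.isPGroup_A.comap_of_injective K.subtype K.subtype_injective).exists_le_sylow
  change h.A.subgroupOf K ≤ P at hP
  have hnorm : ∀ x : K, x ∈ normalizer (h.A.subgroupOf K : Set K) → ∀ v, (x : G) * th v = th v * x := by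
    intro x hx
    refine hcon x x.2 ?_
    rw [mem_normalizer_iff] at hx ⊢
    intro a
    constructor
    · intro ha
      exact mem_subgroupOf.1 ((hx ⟨a, hAK ha⟩).1 (mem_subgroupOf.2 ha))
    · intro ha
      have haK : a ∈ K := by
        have h3 := K.mul_mem (K.mul_mem (K.inv_mem x.2) (hAK ha)) x.2
        have h4 : (x : G)⁻¹ * (x * a * (x : G)⁻¹) * x = a := by group
        rwa [h4] at h3
      exact mem_subgroupOf.1 ((hx ⟨a, haK⟩).2 (mem_subgroupOf.2 ha))
  have hPA : (P : Subgroup K) = h.A.subgroupOf K := by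
    refine eq_of_inf_normalizer_le P.2 hP ?_
    rintro x ⟨hxP, hx⟩
    obtain ⟨n, hn⟩ := P.2 ⟨x, hxP⟩
    rw [mem_subgroupOf]
    have hn' : x ^ 2 ^ n = 1 := congrArg Subtype.val hn
    exact h.mem_of_sq (hnorm x hx) (n := n) (by
      have := congrArg Subtype.val hn'
      exact this)
  have hNC : normalizer ((P : Subgroup K) : Set K) ≤ centralizer ((P : Subgroup K) : Set K) := by
    intro x hx
    rw [hPA] at hx ⊢
    rw [mem_centralizer_iff]
    intro y hy
    obtain ⟨v, hv⟩ := mem_subgroupOf.1 hy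
    apply Subtype.ext
    change (y : G) * x = x * y
    rw [← hv]
    exact (hnorm x hx v).symm
  have hcomp := MonoidHom.ker_transferSylow_isComplement' P hNC
  have hcard : Nat.card (P : Subgroup K) = 64 := by
    rw [hPA, Nat.card_congr (subgroupOfEquivOfLe hAK).toEquiv, h.card_A]
  rcases (inferInstance : (MonoidHom.transferSylow P hNC).ker.Normal).eq_bot_or_eq_top with h1 | h1
  · rw [h1] at hcomp
    have h2 : (P : Subgroup K) = ⊤ := by
      rwa [isComplement'_bot_left] at hcomp
    apply hKc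
    refine ⟨⟨fun x y => ?_⟩⟩
    have hx : x ∈ (P : Subgroup K) := by rw [h2]; trivial
    have hy : y ∈ (P : Subgroup K) := by rw [h2]; trivial
    rw [hPA] at hx hy
    obtain ⟨u, hu⟩ := mem_subgroupOf.1 hx
    obtain ⟨v, hv⟩ := mem_subgroupOf.1 hy
    apply Subtype.ext
    change (x : G) * y = y * x
    rw [← hu, ← hv]
    exact h.comm u v
  · rw [h1] at hcomp
    have h2 : (P : Subgroup K) = ⊥ := by
      rwa [isComplement'_top_left] at hcomp
    rw [h2, card_bot] at hcard
    exact absurd hcard (by decide)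

/-- **Reduction.** -/
theorem reduce [Finite G] (h : Sit th O K0) (hO : oddCore G = ⊥) : h.A.Normal ∨
    ∃ K : Subgroup G, K.Normal ∧ IsSimpleGroup K ∧ ¬ IsMulCommutative K ∧ centralizer (K : Set G) = ⊥ ∧
      ∃ hK : ∀ v, th v ∈ K, Sit (fun v => (⟨th v, hK v⟩ : K)) (O.subgroupOf K) (K0.subgroupOf K) := by
  by_cases hN : h.A.Normal
  · exact Or.inl hN
  · right
    obtain ⟨K, hKn, hKs, hKc, hC, hK⟩ := h.exists_simple hO hN
    exact ⟨K, hKn, hKs, hKc, hC, hK, h.sub K hK (h.exists_not_comm K hKc hK)⟩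

end Sit

end Cfsg.Agent.H336.SpSix
end

-- part: H336/SpSix/Faith
section
/-!
# Faithful actions of `Sp_6(2)` on groups of order 64

If `Sp_6(2)` acts faithfully by automorphisms on an elementary abelian group `W` of order `64`, then `W` is the natural
module.
-/

set_option autoImplicit false

namespace Cfsg.Agent.H336.SpSix.Faith

open Cfsg.Agent.SporRec.TwoSp6 Cfsg.Agent.H336.SpSix

/-! ### an element of order five commuting with a transvection -/

/-- the element of order 5 -/
def y0 : S := Sp.tr (Sp.v 0) * (Sp.tr (Sp.v 2) * (Sp.tr (Sp.v 3) * Sp.tr (Sp.v 1)))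

/-- its action on codes -/
def yc (c : ℕ) : ℕ := Sp.st 0 (Sp.st 2 (Sp.st 3 (Sp.st 1 c)))

theorem act_y0 (c : ℕ) : Sp.act y0 (Sp.enc c) = Sp.enc (yc c) := by
  unfold y0 yc
  simp only [Sp.act_mul, Sp.act_enc]

theorem yc_five : ∀ c < 64, yc (yc (yc (yc (yc c)))) = c := by decide +kernel

theorem y0_pow : y0 * (y0 * (y0 * (y0 * y0))) = 1 := by
  apply Sp.act_ext
  intro x
  obtain ⟨c, hc, rfl⟩ := Sp.exists_enc x
  rw [Sp.act_one]
  simp only [Sp.act_mul, act_y0]
  rw [yc_five c hc]

theorem y0_ne : y0 ≠ 1 := by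
  intro h
  have h1 := act_y0 1
  rw [h, Sp.act_one] at h1
  have h2 : Sp.enc 1 ≠ Sp.enc (yc 1) := by decide +kernel
  exact h2 h1

theorem y0_comm : y0 * Sp.tr (Sp.v 6) = Sp.tr (Sp.v 6) * y0 := by
  have h : ∀ i : Fin 7, i = 0 ∨ i = 1 ∨ i = 2 ∨ i = 3 → Sp.tr (Sp.v i) * Sp.tr (Sp.v 6) = Sp.tr (Sp.v 6) * Sp.tr (Sp.v i) := by
    intro i hi
    apply Sp.tr_comm
    rw [Sp.om_v]
    rcases hi with rfl | rfl | rfl | rfl <;> decide
  unfold y0
  have e0 := h 0 (by simp)
  have e1 := h 1 (by simp)
  have e2 := h 2 (by simp)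
  have e3 := h 3 (by simp)
  rw [mul_assoc, mul_assoc, mul_assoc, e1, ← mul_assoc (Sp.tr (Sp.v 3)), e3, ← mul_assoc (Sp.tr (Sp.v 2)),
    ← mul_assoc (Sp.tr (Sp.v 2)), e2, ← mul_assoc (Sp.tr (Sp.v 0)), ← mul_assoc (Sp.tr (Sp.v 0)),
    ← mul_assoc (Sp.tr (Sp.v 0)), e0]
  simp only [mul_assoc]

/-! ### counting -/

theorem card_fix5 {X : Type*} [Finite X] (f : X → X) (hf : ∀ x, f (f (f (f (f x)))) = x) :
    Nat.card X ≡ Nat.card {x // f x = x} [MOD 5] := by
  classical
  have := Fintype.ofFinite X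
  have : Fact (Nat.Prime 5) := ⟨by norm_num⟩
  let f' : Function.End X := f
  have hf' : f' ^ 5 ^ 1 = 1 := by
    have h5 : f' ^ 5 = f' * (f' * (f' * (f' * f'))) := by
      simp only [pow_succ', pow_zero, mul_one]
    rw [pow_one, h5]
    funext x
    exact hf x
  have h := Equiv.Perm.card_fixedPoints_modEq hf'
  rw [Nat.card_eq_fintype_card, Nat.card_eq_fintype_card]
  refine h.trans ?_
  have e : Fintype.card (Function.fixedPoints f') = Fintype.card {x // f x = x} :=
    Fintype.card_congr (Equiv.refl _)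
  rw [e]

variable {W : Type*} [AddCommGroup W] [Finite W]

/-- fixed points of an endomorphism -/
def fix (α : W →+ W) : AddSubgroup W where
  carrier := {w | α w = w}
  zero_mem' := map_zero α
  add_mem' := fun {a b} ha hb => by
    change α (a + b) = a + b
    rw [map_add, show α a = a from ha, show α b = b from hb]
  neg_mem' := fun {a} ha => by
    change α (-a) = -a
    rw [map_neg, show α a = a from ha]

omit [Finite W] in
theorem mem_fix {α : W →+ W} {w : W} : w ∈ fix α ↔ α w = w := Iff.rfl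

/-- **the rank of the transvection** -/
theorem exists_center (hW : ∀ w : W, w + w = 0) (hc : Nat.card W = 64) (α β : W →+ W)
    (hα5 : ∀ w, α (α (α (α (α w)))) = w) (hα1 : ∃ w, α w ≠ w) (hβ2 : ∀ w, β (β w) = w) (hβ1 : ∃ w, β w ≠ w)
    (hab : ∀ w, α (β w) = β (α w)) : ∃ a, a ≠ 0 ∧ ∀ w, β w = w ∨ β w = w + a := by
  have hneg : ∀ w : W, -w = w := fun w => by rw [neg_eq_iff_add_eq_zero]; exact hW w
  let δ : W →+ W := β + AddMonoidHom.id W
  have hδ : ∀ w, δ w = β w + w := fun _ => rfl
  have hδδ : ∀ w, δ (δ w) = 0 := by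
    intro w
    rw [hδ, hδ, map_add, hβ2, add_comm w, hW]
  have hle : δ.range ≤ δ.ker := by
    rintro _ ⟨w, rfl⟩
    exact hδδ w
  have hrk : Nat.card δ.range * Nat.card δ.ker = 64 := by
    have h1 := δ.ker.card_eq_card_quotient_mul_card_addSubgroup
    rw [hc, Nat.card_congr (QuotientAddGroup.quotientKerEquivRange δ).toEquiv] at h1
    exact h1.symm
  have hd1 : Nat.card δ.range ∣ Nat.card δ.ker := AddSubgroup.card_dvd_of_le hle
  set d := Nat.card δ.range with hd
  have hd8 : d = 1 ∨ d = 2 ∨ d = 4 ∨ d = 8 := by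
    have h2 : d * d ∣ 64 := by
      rw [← hrk]; exact Nat.mul_dvd_mul_left _ hd1
    have h3 : d ≤ 8 := by
      by_contra h4
      have := Nat.le_of_dvd (by norm_num) h2
      nlinarith only [h4, this]
    have h4 : 0 < d := Nat.card_pos
    interval_cases d <;> first | (clear * - hrk; omega) | (exfalso; revert h2; decide)
  -- `α` is trivial on the range
  have hfixd : ∀ w, α (δ w) = δ w := by
    have hinv : ∀ x : δ.range, α x ∈ δ.range := by
      rintro ⟨_, w, rfl⟩
      refine ⟨α w, ?_⟩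
      change δ (α w) = α (δ w)
      rw [hδ, hδ, map_add, hab]
    let f : δ.range → δ.range := fun x => ⟨α x, hinv x⟩
    have hf := card_fix5 f (fun x => Subtype.ext (hα5 x))
    have e : Nat.card {x : δ.range // f x = x} = Nat.card ((fix α).addSubgroupOf δ.range) := by
      refine Nat.card_congr (Equiv.subtypeEquivRight fun x => ?_)
      rw [AddSubgroup.mem_addSubgroupOf, mem_fix]
      exact Subtype.ext_iff
    rw [e, ← hd] at hf
    have hdv : Nat.card ((fix α).addSubgroupOf δ.range) ∣ d := AddSubgroup.card_addSubgroup_dvd_card _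
    have hEq : Nat.card ((fix α).addSubgroupOf δ.range) = d := by
      set f := Nat.card ((fix α).addSubgroupOf δ.range) with hf'
      clear_value f
      have hfle : f ≤ d := Nat.le_of_dvd (by omega) hdv
      rcases hd8 with h | h | h | h <;> rw [h] at hf hdv hfle ⊢ <;> interval_cases f <;>
        first | rfl | (exfalso; revert hf; decide) | (exfalso; revert hdv; decide)
    have htop := AddSubgroup.eq_top_of_card_eq _ (hEq.trans hd)
    intro w
    have h5 : (⟨δ w, w, rfl⟩ : δ.range) ∈ (fix α).addSubgroupOf δ.range := by rw [htop]; trivial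
    exact mem_fix.1 (AddSubgroup.mem_addSubgroupOf.1 h5)
  -- the fixed points of `α` on `W`
  have hF4 : Nat.card (fix α) = 4 := by
    have hf := card_fix5 α hα5
    rw [hc] at hf
    have e : Nat.card {x : W // α x = x} = Nat.card (fix α) := rfl
    rw [e] at hf
    have hdv : Nat.card (fix α) ∣ 64 := by rw [← hc]; exact AddSubgroup.card_addSubgroup_dvd_card _
    have h64 : Nat.card (fix α) ≠ 64 := by
      intro h
      have htop := AddSubgroup.eq_top_of_card_eq _ (h.trans hc.symm)
      obtain ⟨w, hw⟩ := hα1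
      apply hw
      have : w ∈ fix α := by rw [htop]; trivial
      exact this
    set f := Nat.card (fix α)
    clear_value f
    have h2 : f ∈ Nat.divisors 64 := Nat.mem_divisors.2 ⟨hdv, by norm_num⟩
    have h3 : Nat.divisors 64 = {1, 2, 4, 8, 16, 32, 64} := by decide
    rw [h3] at h2
    simp only [Finset.mem_insert, Finset.mem_singleton] at h2
    rcases h2 with h | h | h | h | h | h | h <;> rw [h] at hf h64 ⊢ <;>
      first | rfl | (exfalso; revert hf; decide) | exact absurd rfl h64
  -- the norm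
  let nm : W →+ W := AddMonoidHom.id W + α + α.comp α + α.comp (α.comp α) + α.comp (α.comp (α.comp α))
  have hnm : ∀ w, nm w = w + α w + α (α w) + α (α (α w)) + α (α (α (α w))) := fun _ => rfl
  have hnmfix : ∀ w, α (nm w) = nm w := by
    intro w
    rw [hnm]
    simp only [map_add, hα5]
    abel
  have hδnm : ∀ w, δ (nm w) = δ w := by
    intro w
    have hcomm : ∀ w, δ (α w) = α (δ w) := fun w => by rw [hδ, hδ, map_add, hab]
    rw [hnm]
    simp only [map_add, hcomm, hfixd]
    rw [hW, zero_add, hW, zero_add]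
  -- `d ≤ 2`
  let δF : fix α →+ W := δ.comp (fix α).subtype
  have hrF : δF.range = δ.range := by
    ext x
    constructor
    · rintro ⟨w, rfl⟩
      exact ⟨w, rfl⟩
    · rintro ⟨w, rfl⟩
      exact ⟨⟨nm w, hnmfix w⟩, hδnm w⟩
  have hrkF : Nat.card δF.range * Nat.card δF.ker = 4 := by
    have h1 := δF.ker.card_eq_card_quotient_mul_card_addSubgroup
    rw [hF4, Nat.card_congr (QuotientAddGroup.quotientKerEquivRange δF).toEquiv] at h1
    exact h1.symm
  rw [hrF, ← hd] at hrkF
  have hdk : d ≤ Nat.card δF.ker := by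
    rw [hd]
    refine Nat.card_le_card_of_injective (fun x : δ.range => (⟨⟨x, ?_⟩, ?_⟩ : δF.ker)) ?_
    · obtain ⟨_, w, rfl⟩ := x
      exact hfixd w
    · obtain ⟨_, w, rfl⟩ := x
      exact hδδ w
    · intro x y hxy
      have := congrArg (fun z : δF.ker => ((z : fix α) : W)) hxy
      exact Subtype.ext this
  have hd2 : d = 2 := by
    have h1 : d ≠ 1 := by
      intro h1
      have hb : δ.range = ⊥ := AddSubgroup.card_eq_one.1 (hd ▸ h1)
      obtain ⟨w, hw⟩ := hβ1
      apply hw
      have : δ w ∈ δ.range := ⟨w, rfl⟩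
      rw [hb, AddSubgroup.mem_bot, hδ] at this
      rw [eq_neg_of_add_eq_zero_left this, hneg]
    rcases hd8 with h | h | h | h
    · exact absurd h h1
    · exact h
    · nlinarith only [hrkF, hdk, h]
    · nlinarith only [hrkF, hdk, h]
  -- the centre
  have hd0 : δ.range ≠ ⊥ := by
    intro h
    rw [h, AddSubgroup.card_bot] at hd
    omega
  obtain ⟨⟨a, ha⟩, ha0⟩ := AddSubgroup.ne_bot_iff_exists_ne_zero.1 hd0
  have ha0' : a ≠ 0 := fun h => ha0 (Subtype.ext h)
  refine ⟨a, ha0', fun w => ?_⟩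
  by_cases hw : δ w = 0
  · left
    rw [hδ] at hw
    rw [eq_neg_of_add_eq_zero_left hw, hneg]
  · right
    have h2 : δ w = a := by
      obtain ⟨y, hy, hy'⟩ := (Nat.card_eq_two_iff' (0 : δ.range)).1 (hd ▸ hd2)
      have h3 := hy' ⟨a, ha⟩ ha0
      have h4 := hy' ⟨δ w, w, rfl⟩ (fun h => hw (congrArg Subtype.val h))
      exact congrArg Subtype.val (h4.trans h3.symm)
    rw [← h2, hδ, add_comm, add_assoc, hW, add_zero]

/-! ### the natural module -/

theorem v_add_self' (v : V) : v + v = 0 := v_add_self v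

theorem natural (hW : ∀ w : W, w + w = 0) (hc : Nat.card W = 64) (ρ : S →* AddMonoid.End W)
    (hρ : Function.Injective ρ) : ∃ c : V → W, (∀ u v, c (u + v) = c u + c v) ∧ Function.Injective c ∧
      ∀ s v, ρ s (c v) = c (Sp.act s v) := by
  classical
  have hneg : ∀ w : W, -w = w := fun w => by rw [neg_eq_iff_add_eq_zero]; exact hW w
  have hmul : ∀ s t w, ρ (s * t) w = ρ s (ρ t w) := fun s t w => by rw [map_mul]; rfl
  have hone : ∀ w, ρ 1 w = w := fun w => by rw [map_one]; rfl
  have hinv : ∀ s w, ρ s⁻¹ (ρ s w) = w := fun s w => by rw [← hmul, inv_mul_cancel, hone]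
  have hinv' : ∀ s w, ρ s (ρ s⁻¹ w) = w := fun s w => by rw [← hmul, mul_inv_cancel, hone]
  have htr2 : ∀ v w, ρ (Sp.tr v) (ρ (Sp.tr v) w) = w := fun v w => by rw [← hmul, Sp.tr_sq, hone]
  have hext : ∀ s t, (∀ w, ρ s w = ρ t w) → s = t := fun s t h => hρ (AddMonoidHom.ext h)
  -- the centres
  have hcen : ∀ v : V, v ≠ 0 → ∃ a, a ≠ 0 ∧ ∀ w, ρ (Sp.tr v) w = w ∨ ρ (Sp.tr v) w = w + a := by
    have hmv : ∀ s : S, s ≠ 1 → ∃ w, ρ s w ≠ w := by
      intro s hs
      by_contra h
      push Not at h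
      exact hs (hext s 1 fun w => by rw [h, hone])
    have e1 : ∀ w, ρ y0 (ρ y0 (ρ y0 (ρ y0 (ρ y0 w)))) = w := by
      intro w
      have h5 := y0_pow
      simp only [← mul_assoc] at h5
      rw [← hmul, ← hmul, ← hmul, ← hmul, h5, hone]
    have e2 : ∃ w, ρ (Sp.tr (Sp.v 6)) w ≠ w := by
      apply hmv
      intro h
      have h1 := Sp.v_ne 6
      obtain ⟨x, hx⟩ := Sp.exists_om_one h1
      have h2 := Sp.act_tr (Sp.v 6) x
      rw [h, Sp.act_one, Sp.om_symm, hx, one_smul] at h2
      exact h1 (left_eq_add.1 h2)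
    have e3 : ∀ w, ρ y0 (ρ (Sp.tr (Sp.v 6)) w) = ρ (Sp.tr (Sp.v 6)) (ρ y0 w) := by
      intro w
      rw [← hmul, ← hmul, y0_comm]
    obtain ⟨a, ha, haw⟩ := exists_center hW hc (ρ y0) (ρ (Sp.tr (Sp.v 6))) e1 (hmv _ y0_ne) (htr2 _) e2 e3
    replace haw : ∀ w, ρ (Sp.tr (Sp.v 6)) w = w ∨ ρ (Sp.tr (Sp.v 6)) w = w + a := haw
    intro v hv
    obtain ⟨s, hs⟩ := Sp.exists_act (Sp.v_ne 6) hv
    refine ⟨ρ s a, fun h => ha (by rw [← hinv s a, h, map_zero]), fun w => ?_⟩
    have h1 : Sp.tr v = s * (Sp.tr (Sp.v 6) * s⁻¹) := by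
      rw [← mul_assoc, Sp.conj_tr, hs]
    rw [h1, hmul, hmul]
    rcases haw (ρ s⁻¹ w) with h2 | h2
    · left; rw [h2, hinv']
    · right; rw [h2, map_add, hinv']
  have huniq : ∀ v a b, v ≠ 0 → (∀ w, ρ (Sp.tr v) w = w ∨ ρ (Sp.tr v) w = w + a) →
      (∀ w, ρ (Sp.tr v) w = w ∨ ρ (Sp.tr v) w = w + b) → a = b := by
    intro v a b hv ha hb
    obtain ⟨w, hw⟩ : ∃ w, ρ (Sp.tr v) w ≠ w := by
      by_contra h
      push Not at h
      have h1 : Sp.tr v = 1 := hext _ _ fun w => by rw [h, hone]
      obtain ⟨x, hx⟩ := Sp.exists_om_one hv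
      have h2 := Sp.act_tr v x
      rw [h1, Sp.act_one, Sp.om_symm, hx, one_smul] at h2
      exact hv (left_eq_add.1 h2)
    have h1 := (ha w).resolve_left hw
    have h2 := (hb w).resolve_left hw
    exact add_left_cancel (h1.symm.trans h2)
  let c : V → W := fun v => if h : v ≠ 0 then (hcen v h).choose else 0
  have hc0 : c 0 = 0 := by simp only [c, _root_.ne_eq, _root_.dite_not, ↓ _root_.reduceDIte]
  have hcn : ∀ v, v ≠ 0 → c v ≠ 0 := by
    intro v hv
    simp only [c, dif_pos hv]
    exact (hcen v hv).choose_spec.1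
  have hcw : ∀ v, v ≠ 0 → ∀ w, ρ (Sp.tr v) w = w ∨ ρ (Sp.tr v) w = w + c v := by
    intro v hv
    simp only [c, dif_pos hv]
    exact (hcen v hv).choose_spec.2
  have hact0 : ∀ s : S, Sp.act s 0 = 0 := fun s => (actE s).map_zero
  have heq : ∀ s v, ρ s (c v) = c (Sp.act s v) := by
    intro s v
    by_cases hv : v = 0
    · rw [hv, hact0, hc0, map_zero]
    · have hsv : Sp.act s v ≠ 0 := fun h => hv ((actE s).map_eq_zero_iff.1 h)
      refine huniq (Sp.act s v) _ _ hsv (fun w => ?_) (hcw _ hsv)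
      have h1 : Sp.tr (Sp.act s v) = s * (Sp.tr v * s⁻¹) := by rw [← mul_assoc, Sp.conj_tr]
      rw [h1, hmul, hmul]
      rcases hcw v hv (ρ s⁻¹ w) with h2 | h2
      · left; rw [h2, hinv']
      · right; rw [h2, map_add, hinv']
  -- injectivity
  have hinj1 : ∀ u v, Sp.om u v = 1 → c u ≠ c v := by
    intro u v huv h
    have hu : u ≠ 0 := by
      rintro rfl
      rw [om_eq, om_zero_left] at huv
      exact absurd huv (by decide)
    have hv : v ≠ 0 := by
      rintro rfl
      rw [om_eq, om_zero_right] at huv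
      exact absurd huv (by decide)
    have hfix : ∀ v, v ≠ 0 → ρ (Sp.tr v) (c v) = c v := by
      intro v hv
      rw [heq, Sp.act_tr, Sp.om_self, zero_smul, add_zero]
    have hcom : Sp.tr u * Sp.tr v = Sp.tr v * Sp.tr u := by
      apply hext
      intro w
      rw [hmul, hmul]
      have hfu := hfix u hu
      have hfv := hfix v hv
      rcases hcw u hu w with h1 | h1 <;> rcases hcw v hv w with h2 | h2
      · rw [h1, h2, h1]
      · rw [h1, h2, map_add, h1, ← h, hfu]
      · rw [h1, h2, map_add, h2, h, hfv, h1, h]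
      · rw [h1, h2, map_add, map_add, h1, h2, ← h, hfu, h, hfv]
    have h1 := congrArg (fun s => Sp.act s v) hcom
    simp only [Sp.act_mul, Sp.act_tr, Sp.om_self, zero_smul, add_zero] at h1
    rw [Sp.om_symm v u, huv, one_smul, Sp.om_add', Sp.om_self, huv, zero_add, one_smul] at h1
    have h2 : v + u = u := by
      calc v + u = v + u + v := h1
        _ = u + (v + v) := by abel
        _ = u := by rw [v_add_self', add_zero]
    exact hv (add_eq_right.1 h2)
  have hinj : ∀ u v, u ≠ 0 → v ≠ 0 → c u = c v → u = v := by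
    intro u v hu hv h
    by_contra hne
    rcases Sp.om_cases u v with h0 | h0
    · obtain ⟨x, hx1, hx2⟩ := Sp.exists_om_one_zero hv (Ne.symm hne)
      have h1 := congrArg (ρ (Sp.tr x)) h
      rw [heq, heq, Sp.act_tr, Sp.act_tr, hx1, hx2, zero_smul, add_zero, one_smul] at h1
      exact hinj1 v (v + x) (by rw [Sp.om_add, Sp.om_self, hx1, zero_add]) (h.symm.trans h1)
    · exact hinj1 u v h0 h
  have hadd1 : ∀ u v, Sp.om u v = 1 → c (u + v) = c u + c v := by
    intro u v huv
    have hu : u ≠ 0 := by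
      rintro rfl
      rw [om_eq, om_zero_left] at huv
      exact absurd huv (by decide)
    have hv : v ≠ 0 := by
      rintro rfl
      rw [om_eq, om_zero_right] at huv
      exact absurd huv (by decide)
    have huv0 : u + v ≠ 0 := by
      intro h
      have : u = v := (add_eq_zero_iff _ _).1 h
      rw [this, Sp.om_self] at huv
      exact absurd huv (by decide)
    have h1 := heq (Sp.tr u) v
    rw [Sp.act_tr, Sp.om_symm, huv, one_smul] at h1
    rcases hcw u hu (c v) with h2 | h2
    · rw [h2] at h1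
      have := hinj v (v + u) hv (by rwa [add_comm]) h1
      exact absurd (left_eq_add.1 this) hu
    · rw [h2] at h1
      rw [add_comm u v, ← h1, add_comm]
  -- the fixed submodule
  let C : AddSubgroup W :=
    { carrier := {w | ∀ u, ρ (Sp.tr u) w = w}
      zero_mem' := fun u => map_zero _
      add_mem' := fun {a b} ha hb u => by rw [map_add, ha u, hb u]
      neg_mem' := fun {a} ha u => by rw [map_neg, ha u] }
  have hC : ∀ w, w ∈ C ↔ ∀ u, ρ (Sp.tr u) w = w := fun _ => Iff.rfl
  have hf : ∀ u v, c (u + v) + c u + c v ∈ C := by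
    intro u v
    rcases Sp.om_cases u v with h0 | h0
    · intro x
      rw [map_add, map_add, heq, heq, heq, Sp.act_tr, Sp.act_tr, Sp.act_tr, Sp.om_add']
      rcases Sp.om_cases u x with h1 | h1 <;> rcases Sp.om_cases v x with h2 | h2
      · simp only [h1, h2, add_zero, zero_smul]
      · simp only [h1, h2, add_zero, zero_add, zero_smul, one_smul]
        rw [hadd1 (u + v) x (by rw [Sp.om_add', h1, h2, zero_add]), hadd1 v x h2]
        calc c (u + v) + c x + c u + (c v + c x) = c (u + v) + c u + c v + (c x + c x) := by abel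
          _ = _ := by rw [hW, add_zero]
      · simp only [h1, h2, add_zero, zero_smul, one_smul]
        rw [hadd1 (u + v) x (by rw [Sp.om_add', h1, h2, add_zero]), hadd1 u x h1]
        calc c (u + v) + c x + (c u + c x) + c v = c (u + v) + c u + c v + (c x + c x) := by abel
          _ = _ := by rw [hW, add_zero]
      · have h3 : (1 : ZMod 2) + 1 = 0 := by decide
        simp only [h1, h2, h3, add_zero, zero_smul, one_smul]
        rw [hadd1 u x h1, hadd1 v x h2]
        calc c (u + v) + (c u + c x) + (c v + c x) = c (u + v) + c u + c v + (c x + c x) := by abel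
          _ = _ := by rw [hW, add_zero]
    · rw [hadd1 u v h0]
      have : c u + c v + c u + c v = 0 := by
        calc c u + c v + c u + c v = (c u + c u) + (c v + c v) := by abel
          _ = 0 := by rw [hW, hW, add_zero]
      rw [this]
      exact C.zero_mem
  have hγ : Function.Injective (fun v : V => (QuotientAddGroup.mk (c v) : W ⧸ C)) := by
    intro u v huv
    have h1 : c u + c v ∈ C := by
      have := QuotientAddGroup.eq.1 huv
      rwa [hneg] at this
    have h2 : c (u + v) ∈ C := by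
      have h3 := C.add_mem (hf u v) h1
      have h4 : c (u + v) + c u + c v + (c u + c v) = c (u + v) := by
        calc c (u + v) + c u + c v + (c u + c v) = c (u + v) + (c u + c u) + (c v + c v) := by abel
          _ = _ := by rw [hW, hW, add_zero, add_zero]
      rwa [h4] at h3
    by_contra hne
    have h0 : u + v ≠ 0 := fun h => hne ((add_eq_zero_iff _ _).1 h)
    obtain ⟨x, hx⟩ := Sp.exists_om_one h0
    have h3 := (hC _).1 h2 x
    rw [heq, Sp.act_tr, hx, one_smul] at h3
    refine hinj1 (u + v) (u + v + x) ?_ h3.symm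
    rw [Sp.om_add, Sp.om_self, hx, zero_add]
  have hC1 : C = ⊥ := by
    have h1 := C.card_eq_card_quotient_mul_card_addSubgroup
    have h2 : 64 ≤ Nat.card (W ⧸ C) := by
      have h3 := Nat.card_le_card_of_injective _ hγ
      have h4 : Nat.card V = 64 := by simp [V]
      rwa [h4] at h3
    have h3 : 0 < Nat.card C := Nat.card_pos
    rw [hc] at h1
    have h4 : Nat.card C = 1 := by nlinarith only [h1, h2]
    exact AddSubgroup.card_eq_one.1 h4
  have hadd : ∀ u v, c (u + v) = c u + c v := by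
    intro u v
    have h1 := hf u v
    rw [hC1, AddSubgroup.mem_bot, add_assoc, add_eq_zero_iff_eq_neg, hneg] at h1
    exact h1
  refine ⟨c, hadd, fun u v huv => ?_, heq⟩
  by_contra hne
  have h0 : u + v ≠ 0 := fun h => hne ((add_eq_zero_iff _ _).1 h)
  apply hcn _ h0
  rw [hadd, huv, hW]

end Cfsg.Agent.H336.SpSix.Faith
end

-- part: H336/SpSix/FromE
section
/-!
# The hypotheses of S3405 give `Sit`
-/

set_option autoImplicit false

namespace Cfsg.Agent.H336.SpSix

open Subgroup Cfsg Cfsg.Agent.SporRec.TwoSp6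

theorem exists_sit {G : Type*} [Group G] [Finite G] {F : Type*} [Field F] [Fintype F] (hF : Fintype.card F = 2)
    (A : Subgroup G) (hA : Cfsg.IsElementaryAbelian 2 A) (hA64 : Nat.card ↥A = 64)
    (hC : Cfsg.IsInternalDirectProduct ((Cfsg.oddCore ↥(normalizer (A : Set G))).map (normalizer (A : Set G)).subtype) A
      (centralizer (A : Set G)))
    [hn : ((centralizer (A : Set G)).subgroupOf (normalizer (A : Set G))).Normal]
    (e : (↥(normalizer (A : Set G)) ⧸ (centralizer (A : Set G)).subgroupOf (normalizer (A : Set G))) ≃* Cfsg.PSp 3 F)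
    (hsplit : ∃ K : Subgroup G, K ≤ normalizer (A : Set G) ∧
      K ⊔ ((Cfsg.oddCore ↥(normalizer (A : Set G))).map (normalizer (A : Set G)).subtype ⊔ A) = normalizer (A : Set G) ∧
      K ⊓ ((Cfsg.oddCore ↥(normalizer (A : Set G))).map (normalizer (A : Set G)).subtype ⊔ A) =
        (Cfsg.oddCore ↥(normalizer (A : Set G))).map (normalizer (A : Set G)).subtype) :
    ∃ (th : V → G) (O K0 : Subgroup G) (h : Sit th O K0), h.A = A := by
  classical
  obtain ⟨e'⟩ := Cfsg.Agent.StandardComponent.SpTwoAut.exists_equiv hF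
  set N := normalizer (A : Set G) with hN
  set C := centralizer (A : Set G) with hCdef
  set O := (Cfsg.oddCore ↥N).map N.subtype with hOdef
  have hAcomm : ∀ a ∈ A, ∀ b ∈ A, a * b = b * a := fun a ha b hb =>
    congrArg Subtype.val (hA.1.is_comm.comm ⟨a, ha⟩ ⟨b, hb⟩)
  have hAsq : ∀ a ∈ A, a * a = 1 := fun a ha => by rw [← pow_two]; exact hA.2 a ha
  have hAN : A ≤ N := le_normalizer
  -- the homomorphism onto `S`
  let π : N →* S := (e.trans e').toMonoidHom.comp (QuotientGroup.mk' (C.subgroupOf N))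
  have hπs : Function.Surjective π := (e.trans e').surjective.comp (QuotientGroup.mk'_surjective _)
  have hπk : ∀ n : N, π n = 1 ↔ ∀ a ∈ A, (n : G) * a = a * n := by
    intro n
    have h1 : π n = 1 ↔ (QuotientGroup.mk' (C.subgroupOf N)) n = 1 := by
      change (e.trans e') _ = 1 ↔ _
      rw [MulEquiv.map_eq_one_iff]
    rw [h1, ← MonoidHom.mem_ker, QuotientGroup.ker_mk', mem_subgroupOf, mem_centralizer_iff]
    exact ⟨fun h a ha => (h a ha).symm, fun h a ha => (h a ha).symm⟩
  -- the action on `Additive A`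
  let _ : CommGroup A := { (inferInstance : Group A) with mul_comm := fun a b => Subtype.ext (hAcomm a a.2 b b.2) }
  have hconj : ∀ (n : N) (a : A), (n : G) * a * (n : G)⁻¹ ∈ A := fun n a =>
    (mem_normalizer_iff.1 n.2 a).1 a.2
  let act1 : N → (Additive A →+ Additive A) := fun n =>
    { toFun := fun a => Additive.ofMul ⟨(n : G) * (Additive.toMul a : A) * (n : G)⁻¹, hconj n _⟩
      map_zero' := by
        apply Additive.toMul.injective
        apply Subtype.ext
        simp only [_root_.toMul_zero, _root_.OneMemClass.coe_one, _root_.mul_one, _root_.mul_inv_cancel, _root_.toMul_ofMul]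
      map_add' := fun a b => by
        apply Additive.toMul.injective
        apply Subtype.ext
        simp only [mul_assoc, _root_.toMul_add, _root_.Subgroup.coe_mul, _root_.mul_assoc, _root_.toMul_ofMul, _root_.MulMemClass.mk_mul_mk, _root_.inv_mul_cancel_left] }
  have act1_apply : ∀ n a, ((Additive.toMul (act1 n a) : A) : G) = (n : G) * (Additive.toMul a : A) * (n : G)⁻¹ :=
    fun _ _ => rfl
  let ρN : N →* AddMonoid.End (Additive A) :=
    { toFun := act1
      map_one' := by
        apply AddMonoidHom.ext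
        intro a
        apply Additive.toMul.injective
        apply Subtype.ext
        change ((1 : N) : G) * (Additive.toMul a : A) * ((1 : N) : G)⁻¹ = (Additive.toMul a : A)
        simp only [_root_.OneMemClass.coe_one, _root_.one_mul, _root_.inv_one, _root_.mul_one]
      map_mul' := fun m n => by
        apply AddMonoidHom.ext
        intro a
        apply Additive.toMul.injective
        apply Subtype.ext
        change ((m * n : N) : G) * (Additive.toMul a : A) * ((m * n : N) : G)⁻¹ =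
          (m : G) * ((n : G) * (Additive.toMul a : A) * (n : G)⁻¹) * (m : G)⁻¹
        push_cast
        group }
  have hker : ∀ n n' : N, π n = π n' → ρN n = ρN n' := by
    intro n n' hn'
    have h1 : π (n'⁻¹ * n) = 1 := by rw [map_mul, map_inv, hn', inv_mul_cancel]
    apply AddMonoidHom.ext
    intro a
    apply Additive.toMul.injective
    apply Subtype.ext
    change (n : G) * (Additive.toMul a : A) * (n : G)⁻¹ = (n' : G) * (Additive.toMul a : A) * (n' : G)⁻¹
    have h2 := (hπk _).1 h1 _ (Additive.toMul a : A).2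
    push_cast at h2
    calc (n : G) * (Additive.toMul a : A) * (n : G)⁻¹
        = n' * ((n' : G)⁻¹ * n * (Additive.toMul a : A)) * (n : G)⁻¹ := by group
      _ = _ := by rw [h2]; group
  let ρ : S →* AddMonoid.End (Additive A) :=
    { toFun := fun s => ρN (Function.surjInv hπs s)
      map_one' := by
        rw [← map_one ρN]
        exact hker _ _ (by rw [Function.surjInv_eq hπs, map_one])
      map_mul' := fun s t => by
        rw [← map_mul ρN]
        exact hker _ _ (by rw [Function.surjInv_eq hπs, map_mul, Function.surjInv_eq hπs, Function.surjInv_eq hπs]) }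
  have hρ : ∀ n : N, ρ (π n) = ρN n := fun n => hker _ _ (Function.surjInv_eq hπs _)
  have hρi : Function.Injective ρ := by
    rw [injective_iff_map_eq_one]
    intro s hs
    obtain ⟨n, rfl⟩ := hπs s
    rw [hρ] at hs
    rw [hπk]
    intro a ha
    have h1 := congrArg (fun f : AddMonoid.End (Additive A) => ((Additive.toMul (f (Additive.ofMul ⟨a, ha⟩)) : A) : G)) hs
    have h2 : (n : G) * a * (n : G)⁻¹ = a := h1
    rwa [mul_inv_eq_iff_eq_mul] at h2
  have hW : ∀ w : Additive A, w + w = 0 := by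
    intro w
    apply Additive.toMul.injective
    apply Subtype.ext
    exact hAsq _ (Additive.toMul w : A).2
  have hcW : Nat.card (Additive A) = 64 := hA64
  obtain ⟨c, hcadd, hcinj, hceq⟩ := Faith.natural hW hcW ρ hρi
  let th : V → G := fun v => ((Additive.toMul (c v) : A) : G)
  have hth : ∀ v, th v ∈ A := fun v => (Additive.toMul (c v) : A).2
  have hsurj : ∀ a ∈ A, ∃ v, th v = a := by
    have h1 : Function.Bijective c := by
      have := Fintype.ofFinite (Additive A)
      rw [Fintype.bijective_iff_injective_and_card]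
      refine ⟨hcinj, ?_⟩
      rw [← Nat.card_eq_fintype_card, ← Nat.card_eq_fintype_card, hcW]
      simp [V]
    intro a ha
    obtain ⟨v, hv⟩ := h1.2 (Additive.ofMul ⟨a, ha⟩)
    exact ⟨v, by change ((Additive.toMul (c v) : A) : G) = a; rw [hv]; rfl⟩
  have hnorm : ∀ n : G, (∀ v, ∃ u, n * th v * n⁻¹ = th u) → n ∈ N := by
    intro n h
    rw [hN, mem_normalizer_iff]
    have h1 : ∀ a ∈ A, n * a * n⁻¹ ∈ A := by
      intro a ha
      obtain ⟨v, rfl⟩ := hsurj a ha
      obtain ⟨u, hu⟩ := h v
      rw [hu]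
      exact hth u
    intro a
    refine ⟨h1 a, fun ha => ?_⟩
    let f : A → A := fun x => ⟨n * x * n⁻¹, h1 x x.2⟩
    have hf : Function.Injective f := fun x y hxy => by
      have := congrArg Subtype.val hxy
      exact Subtype.ext (mul_left_cancel (mul_right_cancel this))
    obtain ⟨y, hy⟩ := Finite.injective_iff_surjective.1 hf ⟨_, ha⟩
    have h2 : n * (y : G) * n⁻¹ = n * a * n⁻¹ := congrArg Subtype.val hy
    rw [← mul_left_cancel (mul_right_cancel h2)]
    exact y.2
  have hact : ∀ (n : N) v, (n : G) * th v * (n : G)⁻¹ = th (Sp.act (π n) v) := by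
    intro n v
    have h1 := hceq (π n) v
    rw [hρ] at h1
    exact congrArg (fun w : Additive A => ((Additive.toMul w : A) : G)) h1
  have hsupC : O ⊔ A = C := hC.2.2.2.2
  obtain ⟨K, hKN, hKsup, hKinf⟩ := hsplit
  have hOK : O ≤ K := by rw [← hKinf]; exact inf_le_left
  have hOC : O ≤ C := hC.1
  have hAC : A ≤ C := hC.2.1
  have hOn : ∀ x ∈ O, ∀ n ∈ N, n * x * n⁻¹ ∈ O := by
    rintro _ ⟨y, hy, rfl⟩ n hn'
    exact ⟨⟨n, hn'⟩ * y * ⟨n, hn'⟩⁻¹, (inferInstance : (oddCore N).Normal).conj_mem y hy _, rfl⟩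
  have hcent : ∀ x : G, (∀ v, x * th v = th v * x) → x ∈ C := by
    intro x hx
    rw [hCdef, mem_centralizer_iff]
    intro a ha
    obtain ⟨v, rfl⟩ := hsurj a ha
    exact (hx v).symm
  have hKmap : ∀ s : S, ∃ k, ∃ hk : k ∈ K, π ⟨k, hKN hk⟩ = s := by
    have hsup : N = K ⊔ C := by rw [← hKsup, hsupC]
    -- the elements of `N` whose image is in the image of `K` form a subgroup containing `K` and `C`
    let M : Subgroup G := ((((K.subgroupOf N).map π).comap π).map N.subtype)
    have hKM : K ≤ M := by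
      intro k hk
      exact ⟨⟨k, hKN hk⟩, ⟨⟨k, hKN hk⟩, mem_subgroupOf.2 hk, rfl⟩, rfl⟩
    have hCN : C ≤ N := by rw [hsup]; exact le_sup_right
    have hCM : C ≤ M := by
      intro x hx
      refine ⟨⟨x, hCN hx⟩, ?_, rfl⟩
      have h1 : π ⟨x, hCN hx⟩ = 1 := (hπk _).2 fun a ha => (mem_centralizer_iff.1 hx a ha).symm
      change π ⟨x, hCN hx⟩ ∈ (K.subgroupOf N).map π
      rw [h1]
      exact one_mem _
    have hNM : N ≤ M := by
      have h1 : K ⊔ C ≤ M := sup_le hKM hCM
      rwa [← hsup] at h1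
    intro s
    obtain ⟨n, rfl⟩ := hπs s
    obtain ⟨m, hm, hmn⟩ := hNM n.2
    have : m = n := Subtype.ext hmn
    subst this
    obtain ⟨k, hk, hk'⟩ := hm
    exact ⟨k, mem_subgroupOf.1 hk, hk'⟩
  have hSit : Sit th O K :=
    { add := fun u v => congrArg (fun w : Additive A => ((Additive.toMul w : A) : G)) (hcadd u v)
      inj := fun u v huv => hcinj (Additive.toMul.injective (Subtype.ext huv))
      odd := by
        rw [hOdef, ← Nat.card_congr ((oddCore N).equivMapOfInjective _ N.subtype_injective).toEquiv]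
        have := Cfsg.Agent.Lib.Cores.pPrimeCore_coprime (G := N) 2
        exact Nat.coprime_two_right.1 this
      oc := fun x hx v => (mem_centralizer_iff.1 (hOC hx) _ (hth v)).symm
      oN := fun x hx n hn' => hOn x hx n (hnorm n hn')
      cent := fun x hx => by
        have h1 := hcent x hx
        rw [← hsupC] at h1
        have h2 : ∃ o ∈ O, ∃ a ∈ A, x = o * a := by
          let T : Subgroup G :=
            { carrier := {x | ∃ o ∈ O, ∃ a ∈ A, x = o * a}
              one_mem' := ⟨1, O.one_mem, 1, A.one_mem, (mul_one _).symm⟩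
              mul_mem' := by
                rintro _ _ ⟨o, ho, a, ha, rfl⟩ ⟨o', ho', a', ha', rfl⟩
                refine ⟨o * o', O.mul_mem ho ho', a * a', A.mul_mem ha ha', ?_⟩
                rw [mul_assoc, ← mul_assoc a, ← hC.2.2.1 o' ho' a ha, mul_assoc, mul_assoc]
              inv_mem' := by
                rintro _ ⟨o, ho, a, ha, rfl⟩
                refine ⟨o⁻¹, O.inv_mem ho, a⁻¹, A.inv_mem ha, ?_⟩
                rw [mul_inv_rev]
                exact (hC.2.2.1 _ (O.inv_mem ho) _ (A.inv_mem ha)).symm }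
          have hT : O ⊔ A ≤ T := sup_le (fun o ho => ⟨o, ho, 1, A.one_mem, (mul_one _).symm⟩)
            (fun a ha => ⟨1, O.one_mem, a, ha, (one_mul _).symm⟩)
          exact hT h1
        obtain ⟨o, ho, a, ha, rfl⟩ := h2
        obtain ⟨v, rfl⟩ := hsurj a ha
        exact ⟨o, ho, v, rfl⟩
      act := fun n hn' u v u' v' h1 h2 => by
        have h3 := hact ⟨n, hnorm n hn'⟩ u
        have h4 := hact ⟨n, hnorm n hn'⟩ v
        have hinj : Function.Injective th := fun u v huv => hcinj (Additive.toMul.injective (Subtype.ext huv))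
        have e1 := hinj (h1.symm.trans h3)
        have e2 := hinj (h2.symm.trans h4)
        rw [e1, e2, ← om_eq, Sp.act_om, om_eq]
      k0 := fun k hk v => ⟨_, hact ⟨k, hKN hk⟩ v⟩
      le := hOK
      k0c := fun k hk hc => by
        have h1 := hcent k hc
        rw [← hsupC] at h1
        have h2 : k ∈ K ⊓ (O ⊔ A) := ⟨hk, h1⟩
        rwa [hKinf] at h2
      full := fun g hg => by
        obtain ⟨s, hs⟩ := exists_act_of_isom hg
        obtain ⟨k, hk, hk'⟩ := hKmap s
        refine ⟨k, hk, fun v => ?_⟩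
        have := hact ⟨k, hKN hk⟩ v
        rw [hk', hs] at this
        exact this }
  refine ⟨th, O, K, hSit, ?_⟩
  ext x
  exact ⟨fun ⟨v, hv⟩ => hv ▸ hth v, fun hx => hsurj x hx⟩

end Cfsg.Agent.H336.SpSix
end

-- part: H669/Sp6/Rep
section
/-!
# Representations in odd characteristic of a group containing an elementary abelian group of order 64 with
symplectic normaliser: the dimension is at least 63
-/

set_option autoImplicit false

namespace Cfsg.Agent.H669.Sp6

open Cfsg.Agent.H336.SpSix Module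

section
variable {F : Type*} [Field F]

/-- the quadratic character with values in a field -/
def ch (x : ZMod 2) : F := if x = 0 then 1 else -1

theorem ch_zero : (ch 0 : F) = 1 := rfl

theorem ch_one : (ch 1 : F) = -1 := rfl

theorem ch_add (x y : ZMod 2) : (ch (x + y) : F) = ch x * ch y := by
  rcases z2 x with rfl | rfl <;> rcases z2 y with rfl | rfl
  · rw [add_zero, ch_zero, one_mul]
  · rw [zero_add, ch_zero, one_mul]
  · rw [add_zero, ch_zero, mul_one]
  · rw [z2_add_self, ch_one, ch_zero]; ring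

theorem ch_mul_self (x : ZMod 2) : (ch x * ch x : F) = 1 := by
  rw [← ch_add, z2_add_self, ch_zero]

theorem card_V' : Fintype.card V = 64 := by simp [V]

theorem sum_ch (h2 : (2 : F) ≠ 0) {c : V} (hc : c ≠ 0) : ∑ u : V, (ch (om c u) : F) = 0 := by
  obtain ⟨u0, hu0⟩ := exists_om hc
  have h1 : ∑ u : V, (ch (om c u) : F) = ∑ u : V, (ch (om c (u + u0)) : F) :=
    (Equiv.sum_comp (Equiv.addRight u0) fun u => (ch (om c u) : F)).symm
  have h3 : ∑ u : V, (ch (om c (u + u0)) : F) = - ∑ u : V, (ch (om c u) : F) := by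
    rw [← Finset.sum_neg_distrib]
    refine Finset.sum_congr rfl fun u _ => ?_
    rw [om_add_right, hu0, ch_add, ch_one]; ring
  rw [h3] at h1
  have h4 : (2 : F) * ∑ u : V, (ch (om c u) : F) = 0 := by linear_combination h1
  exact (mul_eq_zero.1 h4).resolve_left h2

theorem sum_ch_zero : ∑ u : V, (ch (om 0 u) : F) = 64 := by
  simp only [om_zero_left, ch_zero, Finset.sum_const, Finset.card_univ, card_V', nsmul_eq_mul, mul_one]
  norm_num

theorem sixtyfour_ne (h2 : (2 : F) ≠ 0) : (64 : F) ≠ 0 := by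
  have : (64 : F) = 2 ^ 6 := by norm_num
  rw [this]
  exact pow_ne_zero _ h2

end

section
variable {K : Type*} [Group K] {th : V → K} {O K0 : Subgroup K} {F W : Type*} [Field F] [AddCommGroup W] [Module F W]

/-- the weight space of a vector -/
def wt (th : V → K) (ρ : K →* End F W) (c : V) : Submodule F W where
  carrier := {w | ∀ v, ρ (th v) w = (ch (om c v) : F) • w}
  add_mem' := by
    intro a b ha hb v
    rw [map_add, ha v, hb v, smul_add]
  zero_mem' := by intro v; rw [map_zero, smul_zero]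
  smul_mem' := by
    intro a w hw v
    rw [map_smul, hw v, smul_comm]

/-- the projection on a weight space, times 64 -/
def pr (th : V → K) (ρ : K →* End F W) (c : V) : End F W := ∑ u : V, (ch (om c u) : F) • ρ (th u)

theorem pr_apply (ρ : K →* End F W) (c : V) (w : W) :
    pr th ρ c w = ∑ u : V, (ch (om c u) : F) • ρ (th u) w := by
  rw [pr, LinearMap.sum_apply]
  rfl

theorem pr_mem (h : Sit th O K0) (ρ : K →* End F W) (c : V) (w : W) : pr th ρ c w ∈ wt th ρ c := by
  intro v
  rw [pr_apply, map_sum, Finset.smul_sum]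
  have h1 : ∀ u : V, ρ (th v) ((ch (om c u) : F) • ρ (th u) w) =
      (ch (om c v) : F) • ((ch (om c (u + v)) : F) • ρ (th (u + v)) w) := by
    intro u
    rw [map_smul, ← Module.End.mul_apply, ← map_mul, ← h.add, add_comm v u, smul_smul, om_add_right, ch_add,
      mul_comm (ch (om c u) : F), ← mul_assoc, ch_mul_self, one_mul]
  rw [Finset.sum_congr rfl fun u _ => h1 u]
  exact Equiv.sum_comp (Equiv.addRight v) fun u => (ch (om c v) : F) • ((ch (om c u) : F) • ρ (th u) w)

theorem pr_of_mem_self {ρ : K →* End F W} {c : V} {w : W} (hw : w ∈ wt th ρ c) :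
    pr th ρ c w = (64 : F) • w := by
  rw [pr_apply]
  have h1 : ∀ u : V, (ch (om c u) : F) • ρ (th u) w = w := by
    intro u
    rw [hw u, smul_smul, ch_mul_self, one_smul]
  rw [Finset.sum_congr rfl fun u _ => h1 u, Finset.sum_const, Finset.card_univ, card_V', ← Nat.cast_smul_eq_nsmul F]
  norm_num

theorem pr_of_mem_ne (h2 : (2 : F) ≠ 0) {ρ : K →* End F W} {c d : V} (hcd : c ≠ d) {w : W} (hw : w ∈ wt th ρ d) :
    pr th ρ c w = 0 := by
  rw [pr_apply]
  have h1 : ∀ u : V, (ch (om c u) : F) • ρ (th u) w = (ch (om (c + d) u) : F) • w := by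
    intro u
    rw [hw u, smul_smul, om_add_left, ch_add]
  rw [Finset.sum_congr rfl fun u _ => h1 u, ← Finset.sum_smul,
    sum_ch h2 (fun hh => hcd ((add_eq_zero_iff _ _).1 hh)), zero_smul]

theorem sum_pr (h : Sit th O K0) (h2 : (2 : F) ≠ 0) (ρ : K →* End F W) (w : W) :
    ∑ c : V, pr th ρ c w = (64 : F) • w := by
  simp only [pr_apply]
  rw [Finset.sum_comm]
  simp only [← Finset.sum_smul]
  rw [Finset.sum_eq_single 0]
  · have : ∑ c : V, (ch (om c 0) : F) = 64 := by
      rw [← sum_ch_zero]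
      exact Finset.sum_congr rfl fun u _ => by rw [om_zero_left, om_zero_right]
    rw [this, h.zero, map_one]; rfl
  · intro u _ hu
    have : ∑ c : V, (ch (om c u) : F) = 0 := by
      rw [← sum_ch h2 hu]
      exact Finset.sum_congr rfl fun c _ => by rw [om_comm]
    rw [this, zero_smul]
  · intro hh; exact absurd (Finset.mem_univ _) hh

/-- isometries permute the weight spaces -/
theorem map_wt {ρ : K →* End F W} {c : V} {w : W} (hw : w ∈ wt th ρ c) {g : V ≃+ V} (hg : Isom g) {k : K}
    (hk : ∀ v, k * th v * k⁻¹ = th (g v)) : ρ k w ∈ wt th ρ (g c) := by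
  intro u
  obtain ⟨v, rfl⟩ := g.surjective u
  rw [← hk, hg, ← Module.End.mul_apply, ← map_mul, inv_mul_cancel_right, map_mul, Module.End.mul_apply, hw v,
    map_smul]

theorem rho_inj (ρ : K →* End F W) (k : K) {w : W} (hw : ρ k w = 0) : w = 0 := by
  have h1 : ρ k⁻¹ (ρ k w) = w := by
    rw [← Module.End.mul_apply, ← map_mul, inv_mul_cancel, map_one]; rfl
  rw [← h1, hw, map_zero]

/-- nonzero weight vectors for different weights are linearly independent -/
theorem linInd (h2 : (2 : F) ≠ 0) (ρ : K →* End F W) {S : V → Prop} {w : Subtype S → W}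
    (hw : ∀ c : Subtype S, w c ∈ wt th ρ (c : V)) (hne : ∀ c, w c ≠ 0) : LinearIndependent F w := by
  classical
  rw [Fintype.linearIndependent_iff]
  intro a ha c
  have h1 := congrArg (pr th ρ c) ha
  rw [map_sum, map_zero, Finset.sum_eq_single c] at h1
  · rw [map_smul, pr_of_mem_self (hw c), smul_smul] at h1
    exact (mul_eq_zero.1 ((smul_eq_zero.1 h1).resolve_right (hne c))).resolve_right (sixtyfour_ne h2)
  · intro b _ hb
    rw [map_smul, pr_of_mem_ne h2 (fun hh => hb (Subtype.ext hh.symm)) (hw b), smul_zero]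
  · intro hh; exact absurd (Finset.mem_univ _) hh

/-- **the dimension of a representation which is not trivial on `A` is at least 63** -/
theorem finrank_ge (h : Sit th O K0) (h2 : (2 : F) ≠ 0) [FiniteDimensional F W] (ρ : K →* End F W)
    (hne : ∃ v, ρ (th v) ≠ 1) : 63 ≤ finrank F W := by
  classical
  -- a nonzero weight vector for a nonzero weight
  have h1 : ∃ c : V, c ≠ 0 ∧ ∃ w ∈ wt th ρ c, w ≠ 0 := by
    by_contra hc
    push Not at hc
    obtain ⟨v, hv⟩ := hne
    apply hv
    ext w
    have h3 := sum_pr h h2 ρ w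
    rw [Finset.sum_eq_single 0] at h3
    · have h4 := pr_mem h ρ 0 w v
      rw [h3, map_smul, om_zero_left, ch_zero, one_smul] at h4
      exact smul_right_injective W (sixtyfour_ne h2) h4
    · intro c _ hc0
      exact hc c hc0 _ (pr_mem h ρ c w)
    · intro hh; exact absurd (Finset.mem_univ _) hh
  obtain ⟨c, hc, w, hw, hw0⟩ := h1
  have h3 : ∀ d : {d : V // d ≠ 0}, ∃ w ∈ wt th ρ (d : V), w ≠ 0 := by
    rintro ⟨d, hd⟩
    obtain ⟨g, hg, rfl⟩ := exists_isom hc hd
    obtain ⟨k, -, hk⟩ := h.full g hg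
    exact ⟨ρ k w, map_wt hw hg hk, fun hh => hw0 (rho_inj ρ k hh)⟩
  choose f hf hf0 using h3
  have h4 := (linInd h2 ρ (S := fun d : V => d ≠ 0) hf hf0).fintype_card_le_finrank
  have h5 : Fintype.card {d : V // d ≠ 0} = 63 := by
    rw [Fintype.card_subtype_compl, Fintype.card_subtype_eq, card_V']
  rwa [h5] at h4

end

/-- no faithful matrix representation of degree less than 63 in odd characteristic -/
theorem false_of_GL {K : Type*} [Group K] {th : V → K} {O K0 : Subgroup K} (h : Sit th O K0) {F : Type*} [Field F]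
    (h2 : (2 : F) ≠ 0) {ι : Type*} [Fintype ι] [DecidableEq ι] (hι : Fintype.card ι < 63) (ρ : K →* GL ι F)
    (hρ : Function.Injective ρ) : False := by
  let σ : K →* End F (ι → F) := ((Matrix.toLinAlgEquiv' (R := F) (n := ι)).toMonoidHom.comp
    (Units.coeHom (Matrix ι ι F))).comp ρ
  have h1 := finrank_ge h h2 σ (by
    refine ⟨Pi.single (Sum.inl 0) 1, fun hh => ?_⟩
    have h3 : ρ (th (Pi.single (Sum.inl 0) 1)) = 1 := by
      apply Units.ext
      apply (Matrix.toLinAlgEquiv' (R := F) (n := ι)).injective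
      rw [Units.val_one, map_one]
      exact hh
    have h4 : th (Pi.single (Sum.inl 0) 1) = 1 := hρ (h3.trans (map_one ρ).symm)
    have h5 := congrFun ((h.eq_one_iff _).1 h4) (Sum.inl 0)
    simp only [_root_.Fin.isValue, _root_.Pi.single_eq_same, _root_.Pi.zero_apply, _root_.one_ne_zero] at h5)
  rw [finrank_fintype_fun_eq_card] at h1
  omega

end Cfsg.Agent.H669.Sp6
end

-- part: H669/Sp6/ExcA
section
/-!
# Task 1303: the exceptional groups G₂, ³D₄, ²G₂, F₄ in odd characteristic (row of S3405)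
-/

set_option autoImplicit false

namespace Cfsg.Agent.H669.Sp6

open Cfsg.Agent.H336.SpSix Cfsg.Lie

variable {K : Type*} [Group K] {th : V → K} {O K0 : Subgroup K}

/-- a subgroup of a Chevalley group on its Lie algebra of dimension `< 63`, in odd characteristic -/
theorem false_of_subgroup (h : Sit th O K0) {F : Type*} [Field F] (h2 : (2 : F) ≠ 0) (D : ChevalleyDatum)
    (hD : D.rank + D.nroots < 63) (H : Subgroup (GL D.Idx F)) (e : K ≃* H) : False := by
  refine false_of_GL h h2 (ι := D.Idx) ?_ (H.subtype.comp e.toMonoidHom)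
    (H.subtype_injective.comp e.injective)
  rw [Fintype.card_sum, Fintype.card_fin, Fintype.card_fin]
  exact hD

theorem row_chevG2 (h : Sit th O K0) {F : Type*} [Field F] (h2 : (2 : F) ≠ 0) (e : K ≃* chevG2.group F) : False :=
  false_of_subgroup h h2 chevG2 (by show 2 + 12 < 63; norm_num) _ e

theorem row_F4 (h : Sit th O K0) {F : Type*} [Field F] (h2 : (2 : F) ≠ 0) (e : K ≃* chevF4.group F) : False :=
  false_of_subgroup h h2 chevF4 (by show 4 + 48 < 63; norm_num) _ e

theorem row_3D4 (h : Sit th O K0) {F : Type*} [Field F] (h2 : (2 : F) ≠ 0) {q : ℕ} (e : K ≃* twistedD4 F q) :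
    False :=
  false_of_subgroup h h2 chevD4 (by show 4 + 24 < 63; norm_num) _ e

theorem row_Ree (h : Sit th O K0) (hR : IsoRee K) : False := by
  obtain ⟨F, i1, i2, m, -, hF, ⟨e⟩⟩ := hR
  refine false_of_subgroup h (F := F) ?_ chevG2 (by show 2 + 12 < 63; norm_num) _ e
  intro h2
  have h3 : ((Fintype.card F : ℕ) : F) = 0 := Nat.cast_card_eq_zero F
  rw [hF, Nat.cast_pow, pow_eq_zero_iff (by omega)] at h3
  have h4 : (1 : F) = 0 := by
    have : (1 : F) = ((3 : ℕ) : F) - 2 := by norm_num
    rw [this, h3, h2, sub_zero]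
  exact one_ne_zero h4

theorem charP_two {F : Type*} [Field F] (h2 : (2 : F) = 0) : CharP F 2 :=
  CharTwo.of_one_ne_zero_of_two_eq_zero one_ne_zero h2

/-- **task 1303** -/
theorem row_excA (hK : IsoChevG2 K ∨ IsoF4 K ∨ Iso3D4 K ∨ IsoRee K) (hchar : ¬ IsLieTypeChar 2 K)
    (h : Sit th O K0) : False := by
  rcases hK with hK | hK | hK | hK
  · obtain ⟨F, i1, i2, h3, ⟨e⟩⟩ := hK
    by_cases h2 : (2 : F) = 0
    · have := charP_two h2
      exact hchar (Or.inr (Or.inr (Or.inr (Or.inr (Or.inr (Or.inr (Or.inl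
        ⟨F, i1, i2, inferInstance, Or.inl ⟨h3, ⟨e⟩⟩⟩)))))))
    · exact row_chevG2 h h2 e
  · obtain ⟨F, i1, i2, ⟨e⟩⟩ := hK
    by_cases h2 : (2 : F) = 0
    · have := charP_two h2
      exact hchar (Or.inr (Or.inr (Or.inr (Or.inr (Or.inr (Or.inr (Or.inl
        ⟨F, i1, i2, inferInstance, Or.inr (Or.inl ⟨e⟩)⟩)))))))
    · exact row_F4 h h2 e
  · obtain ⟨F, i1, i2, q, hq, hF, ⟨e⟩⟩ := hK
    by_cases h2 : (2 : F) = 0
    · have := charP_two h2
      exact hchar (Or.inr (Or.inr (Or.inr (Or.inr (Or.inr (Or.inr (Or.inr (Or.inl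
        ⟨F, i1, i2, inferInstance, q, hq, Or.inr ⟨hF, ⟨e⟩⟩⟩))))))))
    · exact row_3D4 h h2 e
  · exact row_Ree h hK

end Cfsg.Agent.H669.Sp6
end

-- part: H318/SpSix/Transv
section
/-!
# No `Sit` in `L₆(2)` and `U₆(2)` (helper318)

All elements of `A#` would be transvections.
-/

set_option autoImplicit false

namespace Cfsg.Agent.H318.SpSix.Transv

open Subgroup Cfsg Cfsg.Agent.H336.SpSix Matrix

/-! ### a product of two transvections -/

section TT

variable {F V : Type*} [Field F] [AddCommGroup V] [Module F V]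

theorem prop_of_ker {f g : V →ₗ[F] F} (hf : f ≠ 0) (h : ∀ x, f x = 0 → g x = 0) : ∃ a : F, g = a • f := by
  obtain ⟨y, hy⟩ : ∃ y, f y ≠ 0 := by
    by_contra hc
    push Not at hc
    exact hf (LinearMap.ext hc)
  refine ⟨g y / f y, LinearMap.ext fun x => ?_⟩
  have h1 := h (x - (f x / f y) • y) (by
    rw [map_sub, map_smul, smul_eq_mul, div_mul_cancel₀ _ hy, sub_self])
  rw [map_sub, map_smul, smul_eq_mul, sub_eq_zero] at h1
  rw [LinearMap.smul_apply, smul_eq_mul, h1]
  ring

theorem TT [FiniteDimensional F V] (hn : 4 ≤ Module.finrank F V) {f g h : V →ₗ[F] F} {u v w : V} {c : F}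
    (hu : u ≠ 0) (hf : f ≠ 0) (hg : g ≠ 0)
    (H : ∀ x, (x + g x • v) + f (x + g x • v) • u = c • (x + h x • w)) :
    (∃ a : F, v = a • u) ∨ ∃ a : F, g = a • f := by
  -- the scalar
  have hc : c = 1 := by
    let L : V →ₗ[F] (Fin 3 → F) := LinearMap.pi ![f, g, h]
    have h1 : LinearMap.ker L ≠ ⊥ := LinearMap.ker_ne_bot_of_finrank_lt (by
      rw [Module.finrank_fintype_fun_eq_card, Fintype.card_fin]; omega)
    obtain ⟨x, hx, hx0⟩ := Submodule.exists_mem_ne_zero_of_ne_bot h1
    have h2 : ∀ i, L x i = 0 := fun i => by rw [LinearMap.mem_ker.1 hx]; rfl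
    have hfx : f x = 0 := h2 0
    have hgx : g x = 0 := h2 1
    have hhx : h x = 0 := h2 2
    have h3 := H x
    rw [hgx, zero_smul, add_zero, hfx, zero_smul, add_zero, hhx, zero_smul, add_zero] at h3
    have h4 : (1 - c) • x = 0 := by rw [sub_smul, one_smul, ← h3, sub_self]
    exact (sub_eq_zero.1 ((smul_eq_zero.1 h4).resolve_right hx0)).symm
  by_contra hcon
  push Not at hcon
  obtain ⟨h1, h2⟩ := hcon
  obtain ⟨y1, hy1, hy1'⟩ : ∃ y, f y = 0 ∧ g y ≠ 0 := by
    by_contra hc
    push Not at hc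
    obtain ⟨a, ha⟩ := prop_of_ker hf hc
    exact h2 a ha
  obtain ⟨y2, hy2, hy2'⟩ : ∃ y, g y = 0 ∧ f y ≠ 0 := by
    by_contra hc
    push Not at hc
    obtain ⟨a, ha⟩ := prop_of_ker hg hc
    have ha0 : a ≠ 0 := by
      rintro rfl
      rw [zero_smul] at ha
      exact hf ha
    refine h2 a⁻¹ ?_
    rw [ha, smul_smul, inv_mul_cancel₀ ha0, one_smul]
  set z1 := (g y1)⁻¹ • y1 with hz1
  set z2 := (f y2)⁻¹ • y2 with hz2
  have e1 : f z1 = 0 := by rw [hz1, map_smul, hy1, smul_zero]
  have e2 : g z1 = 1 := by rw [hz1, map_smul, smul_eq_mul, inv_mul_cancel₀ hy1']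
  have e3 : g z2 = 0 := by rw [hz2, map_smul, hy2, smul_zero]
  have e4 : f z2 = 1 := by rw [hz2, map_smul, smul_eq_mul, inv_mul_cancel₀ hy2']
  have h3 := H z2
  rw [e3, zero_smul, add_zero, e4, one_smul, hc, one_smul] at h3
  have h4 : u = h z2 • w := add_left_cancel h3
  have e5 : g (z1 - f v • z2) = 1 := by rw [map_sub, e2, map_smul, e3, smul_zero, sub_zero]
  have e6 : f (z1 - f v • z2) = - f v := by
    rw [map_sub, e1, map_smul, e4, smul_eq_mul, mul_one, zero_sub]
  have h5 := H (z1 - f v • z2)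
  rw [e5, one_smul, map_add, e6, neg_add_cancel, zero_smul, add_zero, hc, one_smul] at h5
  have h6 := add_left_cancel h5
  have h7 : h z2 ≠ 0 := by
    intro h8
    rw [h8, zero_smul] at h4
    exact hu h4
  refine h1 (h (z1 - f v • z2) * (h z2)⁻¹) ?_
  rw [h4, smul_smul, mul_assoc, inv_mul_cancel₀ h7, mul_one]
  exact h6

end TT

/-! ### the involutions in `A` -/

variable {K : Type*} [Group K] {th : V → K} {O K0 : Subgroup K}

theorem exists_param [Finite K] (h : Sit th O K0) {M X : Type*} [Group M] [Finite M] (π : M →* K)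
    (hπ : Function.Surjective π) (f : X → M) (a : M → X → X) (hconj : ∀ g x, g * f x * g⁻¹ = f (a g x))
    (hsq : ∀ x, f x * f x = 1)
    (hfix : ∀ P : Subgroup M, IsPGroup 2 P → ∃ x, (∀ p ∈ P, a p x = x) ∧ π (f x) ≠ 1) (v : V) (hv : v ≠ 0) :
    ∃ x, π (f x) = th v := by
  classical
  have : Fact (Nat.Prime 2) := ⟨Nat.prime_two⟩
  obtain ⟨P⟩ : Nonempty (Sylow 2 M) := inferInstance
  obtain ⟨x, hx, hx1⟩ := hfix P P.2
  obtain ⟨S, hS⟩ := h.isPGroup_A.exists_le_sylow
  obtain ⟨g, hg⟩ := MulAction.exists_smul_eq K (P.mapSurjective hπ) S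
  have hc : ∀ s ∈ P.mapSurjective hπ, π (f x) * s = s * π (f x) := by
    intro s hs
    obtain ⟨p, hp, rfl⟩ := hs
    have h1 := hconj p x
    rw [hx p hp] at h1
    have h2 : p * f x = f x * p := mul_inv_eq_iff_eq_mul.1 h1
    rw [← map_mul, ← map_mul, h2]
  have h1 : g * π (f x) * g⁻¹ ∈ h.A := by
    refine h.mem_of_mul_self (fun u => ?_) ?_
    · have h2 : g⁻¹ * th u * g ∈ P.mapSurjective hπ := by
        have h3 : th u ∈ (g • P.mapSurjective hπ : Sylow 2 K) := by
          rw [hg]; exact hS (h.th_mem u)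
        rw [← SetLike.mem_coe, Sylow.coe_smul] at h3
        obtain ⟨y, hy, e⟩ := h3
        have e' : g * y * g⁻¹ = th u := e
        have e2 : g⁻¹ * th u * g = y := by rw [← e']; group
        rw [e2]
        exact hy
      have h4 := hc _ h2
      calc g * π (f x) * g⁻¹ * th u = g * (π (f x) * (g⁻¹ * th u * g)) * g⁻¹ := by group
        _ = g * ((g⁻¹ * th u * g) * π (f x)) * g⁻¹ := by rw [h4]
        _ = th u * (g * π (f x) * g⁻¹) := by group
    · have h5 : π (f x) * π (f x) = 1 := by rw [← map_mul, hsq, map_one]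
      calc g * π (f x) * g⁻¹ * (g * π (f x) * g⁻¹) = g * (π (f x) * π (f x)) * g⁻¹ := by group
        _ = 1 := by rw [h5]; group
  obtain ⟨u, hu⟩ := h1
  have hu0 : u ≠ 0 := by
    rintro rfl
    rw [h.zero] at hu
    apply hx1
    calc π (f x) = g⁻¹ * (g * π (f x) * g⁻¹) * g := by group
      _ = 1 := by rw [← hu]; group
  obtain ⟨k, -, hk⟩ := h.exists_conj hu0 hv
  obtain ⟨m, hm⟩ := hπ (k * g)
  refine ⟨a m x, ?_⟩
  rw [← hconj, map_mul, map_mul, map_inv, hm, ← hk, hu]
  group

/-! ### the unitary group -/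

section

open Cfsg.Agent.LieClassical.HermBasic Cfsg.Agent.LieClassical.HermSiegel Cfsg.Agent.H349.Transv

variable {F : Type*} [Field F] [Fintype F]

theorem act_tv {n : ℕ} (hF : Fintype.card F = 2 ^ 2) {u : Fin n → F} (hu : hermForm n F 2 u u = 0) (x : Fin n → F) :
    act (siegel hF u 0 (1 : F) (isSiegel hF hu)) x = x + hermForm n F 2 x u • u := by
  rw [act_siegel, smul_zero, add_zero, one_mul, herm_zero_right hF, sub_zero]

theorem no_U6 [Finite K] (hF : Fintype.card F = 2 ^ 2) (e : K ≃* PSU 6 F 2) (h : Sit th O K0) : False := by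
  classical
  have hfin : Finite (SU 6 F 2) := Subtype.finite
  let π : SU 6 F 2 →* K := e.symm.toMonoidHom.comp (QuotientGroup.mk' _)
  have hπ : Function.Surjective π := e.symm.surjective.comp (QuotientGroup.mk'_surjective _)
  have hker : ∀ g : SU 6 F 2, π g = 1 → ∃ c : F, ∀ x, act g x = c • x := by
    intro g hg
    have h2 : (QuotientGroup.mk' (Subgroup.center (SU 6 F 2))) g = 1 := by
      apply e.symm.injective
      rw [map_one]
      exact hg
    have h3 := (QuotientGroup.eq_one_iff _).1 h2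
    rw [LieClassical.SUBasic.mem_center_SU_iff hF (by norm_num)] at h3
    obtain ⟨c, hc1, hc2, hA⟩ := h3
    refine ⟨c, fun x => ?_⟩
    rw [hA, act_def]
    show (Matrix.diagonal (fun _ => c)) *ᵥ x = c • x
    funext i
    rw [Matrix.mulVec_diagonal]
    rfl
  let X := {u : Fin 6 → F // hermForm 6 F 2 u u = 0}
  let f : X → SU 6 F 2 := fun u => siegel hF (u : Fin 6 → F) 0 (1 : F) (isSiegel hF u.2)
  have hf : ∀ (u : X) x, act (f u) x = x + hermForm 6 F 2 x u • (u : Fin 6 → F) := fun u x => act_tv hF u.2 x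
  have hpar := exists_param h π hπ f (fun g u => ⟨act g u, by rw [herm_act]; exact u.2⟩)
    (fun g u => by
      rw [conj_siegel]
      exact siegel_congr hF _ _ rfl (act_zero g) rfl)
    (fun u => by
      apply ext_act
      intro x
      rw [act_mul, hf, hf, act_one, herm_add_left, herm_smul_left, u.2, mul_zero, add_zero, add_assoc, ← add_smul,
        ← two_mul, two_eq hF, zero_mul, zero_smul, add_zero])
    (fun P hP => by
      obtain ⟨u, hu0, hu, huP⟩ := exists_iso hF (by norm_num) P hP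
      refine ⟨⟨u, hu⟩, fun p hp => Subtype.ext (huP p hp), fun h1 => ?_⟩
      obtain ⟨c, hc⟩ := hker _ h1
      have h4 := hc u
      rw [hf] at h4
      change u + hermForm 6 F 2 u u • u = c • u at h4
      rw [hu, zero_smul, add_zero] at h4
      have hc1 : c = 1 := by
        have h5 : (1 - c) • u = 0 := by rw [sub_smul, one_smul, ← h4, sub_self]
        exact (sub_eq_zero.1 ((smul_eq_zero.1 h5).resolve_right hu0)).symm
      obtain ⟨x, hx⟩ := exists_herm_ne_zero hF hu0
      have h6 := hc x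
      rw [hf, hc1, one_smul] at h6
      have h7 := add_eq_left.1 h6
      rcases smul_eq_zero.1 h7 with h8 | h8
      · exact hx (herm_eq_zero_swap hF h8)
      · exact hu0 h8)
  -- two elements
  have h1 : (Pi.single (Sum.inl 0) 1 : V) ≠ 0 := by decide
  have h2 : (Pi.single (Sum.inl 1) 1 : V) ≠ 0 := by decide
  have h3 : (Pi.single (Sum.inl 0) 1 : V) + Pi.single (Sum.inl 1) 1 ≠ 0 := by decide
  have h12 : (Pi.single (Sum.inl 0) 1 : V) ≠ Pi.single (Sum.inl 1) 1 := by decide
  obtain ⟨u, hu⟩ := hpar _ h1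
  obtain ⟨v, hv⟩ := hpar _ h2
  obtain ⟨w, hw⟩ := hpar _ h3
  have hne0 : ∀ {x : X} {y : V}, y ≠ 0 → π (f x) = th y → (x : Fin 6 → F) ≠ 0 := by
    intro x y hy hxy hx0
    apply hy
    rw [← h.eq_one_iff, ← hxy]
    have : f x = 1 := by
      apply ext_act
      intro z
      rw [hf, hx0, smul_zero, add_zero, act_one]
    rw [this, map_one]
  have hu0 := hne0 h1 hu
  have hv0 := hne0 h2 hv
  rw [h.add, ← hu, ← hv, ← map_mul] at hw
  obtain ⟨c, hc⟩ := hker (f u * f v * (f w)⁻¹) (by rw [map_mul, map_inv, hw, mul_inv_cancel])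
  let φ : (Fin 6 → F) → ((Fin 6 → F) →ₗ[F] F) := fun v =>
    { toFun := fun x => hermForm 6 F 2 x v
      map_add' := fun x y => herm_add_left x y v
      map_smul' := fun c x => herm_smul_left c x v }
  have hφ : ∀ v x, φ v x = hermForm 6 F 2 x v := fun _ _ => rfl
  have hφ0 : ∀ v, v ≠ 0 → φ v ≠ 0 := by
    intro v hv h4
    obtain ⟨x, hx⟩ := exists_herm_ne_zero hF hv
    have h5 : φ v x = 0 := by rw [h4]; rfl
    exact hx (herm_eq_zero_swap hF h5)
  have H : ∀ x, (x + φ v x • (v : Fin 6 → F)) + φ u (x + φ v x • (v : Fin 6 → F)) • (u : Fin 6 → F) =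
      c • (x + φ w x • (w : Fin 6 → F)) := by
    intro x
    have h4 := hc (act (f w) x)
    rw [← act_mul, inv_mul_cancel_right, act_mul, hf, hf, hf] at h4
    exact h4
  have h5 := TT (by rw [Module.finrank_fintype_fun_eq_card, Fintype.card_fin]; norm_num) hu0 (hφ0 _ hu0) (hφ0 _ hv0) H
  -- proportional vectors
  have h6 : ∃ a : F, (v : Fin 6 → F) = a • (u : Fin 6 → F) := by
    rcases h5 with h5 | ⟨a, ha⟩
    · exact h5
    · refine ⟨a ^ 2, ?_⟩
      have ha4 : (a ^ 2) ^ 2 = a := by
        rw [← pow_mul]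
        have := FiniteField.pow_card a
        rwa [hF] at this
      have h7 : (v : Fin 6 → F) - a ^ 2 • (u : Fin 6 → F) = 0 := by
        by_contra h8
        obtain ⟨x, hx⟩ := exists_herm_ne_zero hF h8
        apply hx
        apply herm_eq_zero_swap hF
        rw [herm_sub_right hF, herm_smul_right, ha4, ← hφ, ← hφ, ha, LinearMap.smul_apply, smul_eq_mul, sub_self]
      exact sub_eq_zero.1 h7
  obtain ⟨a, ha⟩ := h6
  have ha0 : a ≠ 0 := by
    rintro rfl
    rw [zero_smul] at ha
    exact hv0 ha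
  have ha3 : a ^ 2 * a = 1 := by
    have := FiniteField.pow_card_sub_one_eq_one a ha0
    rw [hF] at this
    rw [← pow_succ]
    exact this
  have h8 : f u = f v := by
    apply ext_act
    intro x
    rw [hf, hf, ha, herm_smul_right, smul_smul, mul_assoc, mul_comm _ a, ← mul_assoc, ha3, one_mul]
  rw [h8] at hu
  exact h12 (h.inj (hu.symm.trans hv))

end

/-! ### the linear group -/

section

variable {F : Type*} [Field F] [Fintype F] {n : ℕ}

/-- transvections -/
def tr (u w : Fin n → F) (h : w ⬝ᵥ u = 0) : Matrix.SpecialLinearGroup (Fin n) F :=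
  ⟨1 + vecMulVec u w, by
    rw [vecMulVec_eq Unit, det_one_add_replicateCol_mul_replicateRow, h, add_zero]⟩

omit [Fintype F] in
theorem tr_mulVec (u w : Fin n → F) (h : w ⬝ᵥ u = 0) (x : Fin n → F) :
    (tr u w h : Matrix (Fin n) (Fin n) F) *ᵥ x = x + (w ⬝ᵥ x) • u := by
  change (1 + vecMulVec u w) *ᵥ x = _
  rw [add_mulVec, one_mulVec, vecMulVec_mulVec]
  simp only [_root_.IsCentralScalar.op_smul_eq_smul]

omit [Fintype F] in
theorem ext_mulVec {A B : Matrix.SpecialLinearGroup (Fin n) F}
    (h : ∀ x, (A : Matrix (Fin n) (Fin n) F) *ᵥ x = (B : Matrix (Fin n) (Fin n) F) *ᵥ x) : A = B := by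
  apply Subtype.ext
  apply Matrix.ext_of_mulVec_single
  intro i
  exact h _

theorem one_of_ne_zero (hF : Fintype.card F = 2) {c : F} (hc : c ≠ 0) : c = 1 := by
  have := FiniteField.pow_card_sub_one_eq_one c hc
  rwa [hF, show 2 - 1 = 1 from rfl, pow_one] at this

theorem add_self_eq (hF : Fintype.card F = 2) (c : F) : c + c = 0 := by
  have : ((2 : ℕ) : F) = 0 := by rw [← hF]; exact FiniteField.cast_card_eq_zero F
  rw [← two_mul]
  have h2 : (2 : F) = 0 := by exact_mod_cast this
  rw [h2, zero_mul]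

/-- the space of vectors killed by a functional has even order -/
theorem even_ker (hF : Fintype.card F = 2) (hn : 2 ≤ n) (L : (Fin n → F) →ₗ[F] F) : 2 ∣ Nat.card (LinearMap.ker L) := by
  have h1 := LinearMap.finrank_range_add_finrank_ker L
  rw [Module.finrank_fintype_fun_eq_card, Fintype.card_fin] at h1
  have h2 : Module.finrank F (LinearMap.range L) ≤ 1 := by
    have := Submodule.finrank_le (LinearMap.range L)
    rwa [Module.finrank_self] at this
  rw [Module.natCard_eq_pow_finrank (K := F), Nat.card_eq_fintype_card (α := F), hF]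
  exact dvd_pow_self 2 (by omega)

theorem no_L6 [Finite K] (hF : Fintype.card F = 2) (e : K ≃* Matrix.ProjectiveSpecialLinearGroup (Fin 6) F)
    (h : Sit th O K0) : False := by
  classical
  let π : Matrix.SpecialLinearGroup (Fin 6) F →* K := e.symm.toMonoidHom.comp (QuotientGroup.mk' _)
  have hπ : Function.Surjective π := e.symm.surjective.comp (QuotientGroup.mk'_surjective _)
  have hker : ∀ g : Matrix.SpecialLinearGroup (Fin 6) F, π g = 1 → g = 1 := by
    intro g hg
    have h2 : (QuotientGroup.mk' (Subgroup.center (Matrix.SpecialLinearGroup (Fin 6) F))) g = 1 := by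
      apply e.symm.injective
      rw [map_one]
      exact hg
    have h3 := (QuotientGroup.eq_one_iff _).1 h2
    rw [Matrix.SpecialLinearGroup.mem_center_iff] at h3
    obtain ⟨r, hr, hA⟩ := h3
    have hr0 : r ≠ 0 := by
      rintro rfl
      rw [Fintype.card_fin, zero_pow (by norm_num)] at hr
      exact zero_ne_one hr
    rw [one_of_ne_zero hF hr0, map_one] at hA
    exact Subtype.ext hA.symm
  have hinj : Function.Injective π := (injective_iff_map_eq_one _).2 hker
  let X := {p : (Fin 6 → F) × (Fin 6 → F) // p.2 ⬝ᵥ p.1 = 0}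
  let f : X → Matrix.SpecialLinearGroup (Fin 6) F := fun p => tr p.1.1 p.1.2 p.2
  have hf : ∀ (p : X) x, (f p : Matrix (Fin 6) (Fin 6) F) *ᵥ x = x + (p.1.2 ⬝ᵥ x) • p.1.1 :=
    fun p x => tr_mulVec _ _ p.2 x
  have hgg : ∀ (g : Matrix.SpecialLinearGroup (Fin 6) F) (w x : Fin 6 → F),
      (w ᵥ* ((g⁻¹ : Matrix.SpecialLinearGroup (Fin 6) F) : Matrix (Fin 6) (Fin 6) F)) ⬝ᵥ
        ((g : Matrix (Fin 6) (Fin 6) F) *ᵥ x) = w ⬝ᵥ x := by
    intro g w x
    rw [← dotProduct_mulVec, mulVec_mulVec, ← Matrix.SpecialLinearGroup.coe_mul, inv_mul_cancel,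
      Matrix.SpecialLinearGroup.coe_one, one_mulVec]
  have hpar := exists_param h π hπ f
    (fun g p => ⟨((g : Matrix (Fin 6) (Fin 6) F) *ᵥ p.1.1,
      p.1.2 ᵥ* ((g⁻¹ : Matrix.SpecialLinearGroup (Fin 6) F) : Matrix (Fin 6) (Fin 6) F)), by
        rw [hgg]; exact p.2⟩)
    (fun g p => by
      apply ext_mulVec
      intro x
      rw [Matrix.SpecialLinearGroup.coe_mul, Matrix.SpecialLinearGroup.coe_mul, ← mulVec_mulVec, ← mulVec_mulVec, hf,
        hf, mulVec_add, mulVec_smul, mulVec_mulVec, ← Matrix.SpecialLinearGroup.coe_mul, mul_inv_cancel,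
        Matrix.SpecialLinearGroup.coe_one, one_mulVec, dotProduct_mulVec])
    (fun p => by
      apply ext_mulVec
      intro x
      rw [Matrix.SpecialLinearGroup.coe_mul, ← mulVec_mulVec, hf, hf, Matrix.SpecialLinearGroup.coe_one, one_mulVec,
        dotProduct_add, dotProduct_smul, p.2, smul_zero, add_zero, add_assoc, ← add_smul, add_self_eq hF, zero_smul,
        add_zero])
    (fun P hP => by
      -- a fixed functional
      obtain ⟨w, hw, hwP⟩ := Cfsg.Agent.H349.Transv.exists_fixed hP
        (fun (p : P) (w : Fin 6 → F) => w ᵥ* (((p : Matrix.SpecialLinearGroup (Fin 6) F)⁻¹ :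
          Matrix.SpecialLinearGroup (Fin 6) F) : Matrix (Fin 6) (Fin 6) F))
        (fun x => by
          rw [OneMemClass.coe_one, inv_one, Matrix.SpecialLinearGroup.coe_one, vecMul_one])
        (fun p q x => by
          rw [vecMul_vecMul, ← Matrix.SpecialLinearGroup.coe_mul, MulMemClass.coe_mul, _root_.mul_inv_rev]) 0
        (fun p => zero_vecMul _)
        (by
          rw [Nat.card_eq_fintype_card, Fintype.card_fun, hF, Fintype.card_fin]
          exact dvd_pow_self 2 (by norm_num))
      let L : (Fin 6 → F) →ₗ[F] F :=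
        { toFun := fun x => w ⬝ᵥ x
          map_add' := fun x y => dotProduct_add _ _ _
          map_smul' := fun c x => dotProduct_smul _ _ _ }
      have hL : ∀ x, L x = w ⬝ᵥ x := fun _ => rfl
      obtain ⟨u, hu, huP⟩ := Cfsg.Agent.H349.Transv.exists_fixed hP
        (fun (p : P) (x : LinearMap.ker L) =>
          (⟨((p : Matrix.SpecialLinearGroup (Fin 6) F) : Matrix (Fin 6) (Fin 6) F) *ᵥ (x : Fin 6 → F), by
            rw [LinearMap.mem_ker, hL]
            have h1 : w ⬝ᵥ (x : Fin 6 → F) = 0 := LinearMap.mem_ker.1 x.2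
            have h2 := hgg p w x
            rw [h1, hwP p] at h2
            exact h2⟩ : LinearMap.ker L))
        (fun x => Subtype.ext (by
          change ((1 : Matrix.SpecialLinearGroup (Fin 6) F) : Matrix (Fin 6) (Fin 6) F) *ᵥ (x : Fin 6 → F) = x
          rw [Matrix.SpecialLinearGroup.coe_one, one_mulVec]))
        (fun p q x => Subtype.ext (by
          change ((p * q : Matrix.SpecialLinearGroup (Fin 6) F) : Matrix (Fin 6) (Fin 6) F) *ᵥ (x : Fin 6 → F) =
            (p : Matrix (Fin 6) (Fin 6) F) *ᵥ ((q : Matrix (Fin 6) (Fin 6) F) *ᵥ (x : Fin 6 → F))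
          rw [Matrix.SpecialLinearGroup.coe_mul, mulVec_mulVec])) 0
        (fun p => Subtype.ext (mulVec_zero ((p : Matrix.SpecialLinearGroup (Fin 6) F) : Matrix (Fin 6) (Fin 6) F)))
        (even_ker hF (by norm_num) L)
      have hu0 : (u : Fin 6 → F) ≠ 0 := fun h1 => hu (Subtype.ext h1)
      have huP' : ∀ p ∈ P, (p : Matrix (Fin 6) (Fin 6) F) *ᵥ (u : Fin 6 → F) = u :=
        fun p hp => congrArg Subtype.val (huP ⟨p, hp⟩)
      refine ⟨⟨((u : Fin 6 → F), w), LinearMap.mem_ker.1 u.2⟩, fun p hp => Subtype.ext (Prod.ext (huP' p hp)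
        (hwP ⟨p, hp⟩)), fun h1 => ?_⟩
      have h2 := hker _ h1
      obtain ⟨i, hi⟩ := Function.ne_iff.1 hw
      have h3 := congrArg (fun A : Matrix.SpecialLinearGroup (Fin 6) F =>
        (A : Matrix (Fin 6) (Fin 6) F) *ᵥ (Pi.single i 1)) h2
      simp only [hf, Matrix.SpecialLinearGroup.coe_one, one_mulVec, dotProduct_single, mul_one] at h3
      have h4 := add_eq_left.1 h3
      rcases smul_eq_zero.1 h4 with h5 | h5
      · exact hi h5
      · exact hu0 h5)
  have : Nonempty X := ⟨⟨0, by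
    change (0 : Fin 6 → F) ⬝ᵥ (0 : Fin 6 → F) = 0
    rw [zero_dotProduct]⟩⟩
  choose! x hx using hpar
  have hne : ∀ v : V, v ≠ 0 → (x v).1.1 ≠ 0 ∧ (x v).1.2 ≠ 0 := by
    intro v hv
    by_contra hc
    apply hv
    rw [← h.eq_one_iff, ← hx v hv]
    have h1 : f (x v) = 1 := by
      apply ext_mulVec
      intro y
      rw [hf, Matrix.SpecialLinearGroup.coe_one, one_mulVec]
      by_cases h2 : (x v).1.1 = 0
      · rw [h2, smul_zero, add_zero]
      · have h3 : (x v).1.2 = 0 := by
          by_contra h3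
          exact hc ⟨h2, h3⟩
        rw [h3, zero_dotProduct, zero_smul, add_zero]
    rw [h1, map_one]
  let φ : (Fin 6 → F) → ((Fin 6 → F) →ₗ[F] F) := fun w =>
    { toFun := fun x => w ⬝ᵥ x
      map_add' := fun x y => dotProduct_add _ _ _
      map_smul' := fun c x => dotProduct_smul _ _ _ }
  have hφ : ∀ w x, φ w x = w ⬝ᵥ x := fun _ _ => rfl
  have hφi : ∀ w w', φ w = φ w' → w = w' := by
    intro w w' h1
    funext i
    have h2 := LinearMap.congr_fun h1 (Pi.single i 1)
    rw [hφ, hφ, dotProduct_single, dotProduct_single, mul_one, mul_one] at h2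
    exact h2
  have hφ0 : ∀ w, w ≠ 0 → φ w ≠ 0 := by
    intro w hw h1
    apply hw
    apply hφi
    rw [h1]
    refine LinearMap.ext fun y => ?_
    rw [hφ, zero_dotProduct]
    rfl
  -- products
  have key : ∀ v v' : V, v ≠ 0 → v' ≠ 0 → v ≠ v' → (x v).1.1 = (x v').1.1 ∨ (x v).1.2 = (x v').1.2 := by
    intro v v' hv hv' hvv
    have hs : v + v' ≠ 0 := fun h1 => hvv ((add_eq_zero_iff _ _).1 h1)
    have h1 : f (x v) * f (x v') = f (x (v + v')) := by
      apply hinj
      rw [map_mul, hx v hv, hx v' hv', hx _ hs, h.add]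
    have H : ∀ y, (y + φ (x v').1.2 y • (x v').1.1) + φ (x v).1.2 (y + φ (x v').1.2 y • (x v').1.1) • (x v).1.1 =
        (1 : F) • (y + φ (x (v + v')).1.2 y • (x (v + v')).1.1) := by
      intro y
      have h2 := congrArg (fun A : Matrix.SpecialLinearGroup (Fin 6) F => (A : Matrix (Fin 6) (Fin 6) F) *ᵥ y) h1
      simp only [Matrix.SpecialLinearGroup.coe_mul, ← mulVec_mulVec, hf] at h2
      rw [one_smul]
      exact h2
    rcases TT (by rw [Module.finrank_fintype_fun_eq_card, Fintype.card_fin]; norm_num) (hne v hv).1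
      (hφ0 _ (hne v hv).2) (hφ0 _ (hne v' hv').2) H with ⟨a, ha⟩ | ⟨a, ha⟩
    · left
      have ha0 : a ≠ 0 := by
        rintro rfl
        rw [zero_smul] at ha
        exact (hne v' hv').1 ha
      rw [ha, one_of_ne_zero hF ha0, one_smul]
    · right
      have ha0 : a ≠ 0 := by
        rintro rfl
        rw [zero_smul] at ha
        exact hφ0 _ (hne v' hv').2 ha
      rw [one_of_ne_zero hF ha0, one_smul] at ha
      exact (hφi _ _ ha).symm
  have hcardV : Nat.card V = Nat.card (Fin 6 → F) := by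
    have h1 : Nat.card V = 64 := by simp [V]
    have h2 : Nat.card (Fin 6 → F) = 64 := by
      rw [Nat.card_eq_fintype_card, Fintype.card_fun, hF, Fintype.card_fin]; norm_num
    rw [h1, h2]
  have hxinj : ∀ v v' : V, v ≠ 0 → v' ≠ 0 → (x v).1.1 = (x v').1.1 → (x v).1.2 = (x v').1.2 → v = v' := by
    intro v v' hv hv' h1 h2
    apply h.inj
    rw [← hx v hv, ← hx v' hv', Subtype.ext (Prod.ext h1 h2)]
  obtain ⟨v1, hv1⟩ : ∃ v : V, v ≠ 0 := ⟨Pi.single (Sum.inl 0) 1, by decide⟩
  by_cases hA : ∀ v, v ≠ 0 → (x v).1.1 = (x v1).1.1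
  · -- all with the same centre
    let ψ : V → (Fin 6 → F) := fun v => if v = 0 then 0 else (x v).1.2
    have hψ0 : ψ 0 = 0 := if_pos rfl
    have hψ : ∀ v, v ≠ 0 → ψ v = (x v).1.2 := fun v hv => if_neg hv
    have hψi : Function.Injective ψ := by
      intro v v' h1
      by_cases hv : v = 0
      · by_cases hv' : v' = 0
        · rw [hv, hv']
        · rw [hv, hψ0, hψ _ hv'] at h1
          exact absurd h1.symm (hne v' hv').2
      · by_cases hv' : v' = 0
        · rw [hv', hψ0, hψ _ hv] at h1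
          exact absurd h1 (hne v hv).2
        · rw [hψ _ hv, hψ _ hv'] at h1
          exact hxinj v v' hv hv' ((hA v hv).trans (hA v' hv').symm) h1
    have hψs : Function.Surjective ψ := ((Nat.bijective_iff_injective_and_card ψ).2 ⟨hψi, hcardV⟩).2
    obtain ⟨i, hi⟩ := Function.ne_iff.1 (hne v1 hv1).1
    obtain ⟨v, hv⟩ := hψs (Pi.single i 1)
    have hv0 : v ≠ 0 := by
      rintro rfl
      rw [hψ0] at hv
      have := congrFun hv i
      simp at this
    rw [hψ v hv0] at hv
    have h1 := (x v).2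
    rw [hA v hv0, hv, single_dotProduct, one_mul] at h1
    exact hi h1
  by_cases hB : ∀ v, v ≠ 0 → (x v).1.2 = (x v1).1.2
  · let ψ : V → (Fin 6 → F) := fun v => if v = 0 then 0 else (x v).1.1
    have hψ0 : ψ 0 = 0 := if_pos rfl
    have hψ : ∀ v, v ≠ 0 → ψ v = (x v).1.1 := fun v hv => if_neg hv
    have hψi : Function.Injective ψ := by
      intro v v' h1
      by_cases hv : v = 0
      · by_cases hv' : v' = 0
        · rw [hv, hv']
        · rw [hv, hψ0, hψ _ hv'] at h1
          exact absurd h1.symm (hne v' hv').1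
      · by_cases hv' : v' = 0
        · rw [hv', hψ0, hψ _ hv] at h1
          exact absurd h1 (hne v hv).1
        · rw [hψ _ hv, hψ _ hv'] at h1
          exact hxinj v v' hv hv' h1 ((hB v hv).trans (hB v' hv').symm)
    have hψs : Function.Surjective ψ := ((Nat.bijective_iff_injective_and_card ψ).2 ⟨hψi, hcardV⟩).2
    obtain ⟨i, hi⟩ := Function.ne_iff.1 (hne v1 hv1).2
    obtain ⟨v, hv⟩ := hψs (Pi.single i 1)
    have hv0 : v ≠ 0 := by
      rintro rfl
      rw [hψ0] at hv
      have := congrFun hv i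
      simp at this
    rw [hψ v hv0] at hv
    have h1 := (x v).2
    rw [hB v hv0, hv, dotProduct_single, mul_one] at h1
    exact hi h1
  push Not at hA hB
  obtain ⟨v, hv, hvA⟩ := hA
  obtain ⟨v', hv', hvB⟩ := hB
  have h1 : (x v).1.2 = (x v1).1.2 := (key v v1 hv hv1 (by rintro rfl; exact hvA rfl)).resolve_left hvA
  have h2 : (x v').1.1 = (x v1).1.1 := (key v' v1 hv' hv1 (by rintro rfl; exact hvB rfl)).resolve_right hvB
  rcases key v v' hv hv' (by rintro rfl; exact hvA h2) with h3 | h3
  · exact hvA (h3.trans h2)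
  · exact hvB (h3.symm.trans h1)

end

end Cfsg.Agent.H318.SpSix.Transv
end

-- part: H318/SpSix/Row
section
/-!
# `Sit` does not occur in a group of Lie type of characteristic two (helper318)
-/

set_option autoImplicit false

namespace Cfsg.Agent.H318.SpSix.Row

open Subgroup Cfsg Cfsg.Agent.H336.SpSix Cfsg.Agent.KFacts.RgdLieCharP
  Cfsg.Agent.H318.SpSix.TwoPart Cfsg.Agent.H318.SpSix.RadSit Cfsg.Agent.H318.SpSix.Transv

variable {K : Type*} [Group K] {th : V → K} {O K0 : Subgroup K}

theorem exists_ncomm (h : Sit th O K0) : ∃ a b : K, a * b ≠ b * a := by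
  obtain ⟨v, hv⟩ := exists_ne
  obtain ⟨a, ha⟩ := exists_om hv
  obtain ⟨k, -, hk⟩ := h.exists_tv a
  refine ⟨k, th v, fun h1 => ?_⟩
  have h2 := hk v
  rw [tv_of_one (by rw [om_comm]; exact ha), h1, mul_inv_cancel_right] at h2
  have h3 := h.inj h2
  have h4 : a = 0 := by
    have := left_eq_add.1 h3
    exact this
  rw [h4, om_zero_right] at ha
  exact zero_ne_one ha

theorem dvd_card [Finite K] (h : Sit th O K0) {d : ℕ} (hd : d ∣ 1451520 * 64) : d ∣ Nat.card K := hd.trans h.card_dvd

/-- elements of order 3 and 5 commuting with an involution of `A` -/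
theorem dvd_centralizer [Finite K] (h : Sit th O K0) {v : V} (hv : v ≠ 0) :
    23040 * 64 ∣ Nat.card (centralizer ({th v} : Set K)) := by
  classical
  let N := normalizer (h.A : Set K)
  letI : MulAction N K := MulAction.compHom K ((MulAut.conj (G := K)).comp N.subtype)
  have hact : ∀ (n : N) (x : K), n • x = n * x * (n : K)⁻¹ := fun _ _ => rfl
  have h1 : MulAction.orbit N (th v) = th '' ({0}ᶜ : Set V) := by
    ext x
    constructor
    · rintro ⟨n, rfl⟩
      obtain ⟨u, hu⟩ := h.mem_normalizer.1 n.2 v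
      refine ⟨u, ?_, ?_⟩
      · intro hu0
        rw [Set.mem_singleton_iff] at hu0
        rw [hu0, h.zero, mul_inv_eq_one, mul_eq_left, h.eq_one_iff] at hu
        exact hv hu
      · exact hu.symm
    · rintro ⟨u, hu, rfl⟩
      obtain ⟨k, hk, hk'⟩ := h.exists_conj hv hu
      exact ⟨⟨k, h.K0_le hk⟩, hk'⟩
  have h2 : (MulAction.stabilizer N (th v)).index = 63 := by
    rw [MulAction.index_stabilizer, h1, Set.ncard_image_of_injective _ h.inj, Set.ncard_compl, Set.ncard_singleton]
    simp [V]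
  have h3 := (MulAction.stabilizer N (th v)).card_mul_index
  rw [h2] at h3
  have h4 : 1451520 * 64 ∣ Nat.card (MulAction.stabilizer N (th v)) * 63 := by
    rw [h3]; exact h.card_dvd_normalizer
  have h5 : 23040 * 64 ∣ Nat.card (MulAction.stabilizer N (th v)) := by
    rw [show 1451520 * 64 = (23040 * 64) * 63 by norm_num] at h4
    exact Nat.dvd_of_mul_dvd_mul_right (by norm_num) h4
  refine h5.trans ?_
  have h6 : (MulAction.stabilizer N (th v)).map N.subtype ≤ centralizer ({th v} : Set K) := by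
    rintro _ ⟨n, hn, rfl⟩
    have h7 : n • th v = th v := hn
    rw [hact, mul_inv_eq_iff_eq_mul] at h7
    exact mem_centralizer_singleton_iff.2 h7
  have h7 := Subgroup.card_dvd_of_le h6
  rwa [Nat.card_congr (equivMapOfInjective _ _ (subtype_injective _)).toEquiv.symm] at h7

theorem not_three_dvd_sz {m : ℕ} : ¬ 3 ∣ (2 ^ (2 * m + 1)) ^ 2 * (2 ^ (2 * m + 1) - 1) * ((2 ^ (2 * m + 1)) ^ 2 + 1) := by
  have h1 : 2 ^ (2 * m + 1) % 3 = 2 := by
    rw [pow_succ, pow_mul, Nat.mul_mod, Nat.pow_mod]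
    norm_num
  have h2 : 1 ≤ 2 ^ (2 * m + 1) := Nat.one_le_two_pow
  generalize 2 ^ (2 * m + 1) = q at h1 h2
  rw [Nat.prime_three.dvd_mul, Nat.prime_three.dvd_mul]
  rintro ((h3 | h3) | h3)
  · have := Nat.prime_three.dvd_of_dvd_pow h3
    omega
  · omega
  · have h4 : (q ^ 2 + 1) % 3 = 2 := by
      rw [Nat.add_mod, Nat.pow_mod, h1]
    omega

theorem row_char2 [Finite K] [IsSimpleGroup K] (hK : IsLieTypeChar 2 K ∨ IsTits K) (h : Sit th O K0) : False := by
  classical
  have hcl : ∀ {d : ℕ}, d ∣ 1451520 * 64 → ∀ {k n : ℕ}, k * Nat.card K = n → d ∣ n := by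
    intro d hd k n e
    rw [← e]
    exact (dvd_card h hd).mul_left k
  rcases hK with hK | hK
  · by_cases hf : IsLieFilt 2 K
    · have h15 := two_part_eq hf (exists_ncomm h) h
      rcases two_part hf with ⟨F, _, _, f, n, hf1, hF, hn, ⟨e⟩, h1⟩ | ⟨F, _, _, f, n, q, hf1, hq, hF, hn, ⟨e⟩, h1⟩ |
        ⟨f, m, hf1, hm, h1⟩ | ⟨f, m, hf1, hm, h1⟩ | ⟨f, hf1, h1⟩
      · rw [h15] at h1
        have hn6 : n ≤ 6 := by
          by_contra hn7
          push Not at hn7
          have h2 : 21 ≤ n * (n - 1) / 2 := by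
            rw [Nat.le_div_iff_mul_le (by norm_num)]
            calc 21 * 2 = 7 * 6 := by norm_num
              _ ≤ n * (n - 1) := Nat.mul_le_mul hn7 (by omega)
          nlinarith only [hf1, h1, h2]
        interval_cases n <;> norm_num only [_root_.mul_one, _root_.right_eq_mul₀] at h1
        · -- n = 2
          have hf15 : f = 15 := by omega
          subst hf15
          have h2 := Cfsg.Agent.S0243.result hF 2 le_rfl
          rw [← Nat.card_congr e.toEquiv, ← mul_assoc] at h2
          have h3 := hcl (d := 5) (by norm_num) h2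
          rw [Fin.prod_univ_two] at h3
          norm_num at h3
        · have hf5 : f = 5 := by omega
          subst hf5
          have h2 := Cfsg.Agent.S0243.result hF 3 (by norm_num)
          rw [← Nat.card_congr e.toEquiv, ← mul_assoc] at h2
          have h3 := hcl (d := 5) (by norm_num) h2
          rw [Fin.prod_univ_three] at h3
          norm_num at h3
        · omega
        · omega
        · have hf1' : f = 1 := by omega
          subst hf1'
          exact no_L6 (by rw [hF, pow_one]) e h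
      · rw [h15] at h1
        have hn6 : n ≤ 6 := by
          by_contra hn7
          push Not at hn7
          have h2 : 21 ≤ n * (n - 1) / 2 := by
            rw [Nat.le_div_iff_mul_le (by norm_num)]
            calc 21 * 2 = 7 * 6 := by norm_num
              _ ≤ n * (n - 1) := Nat.mul_le_mul hn7 (by omega)
          nlinarith only [hf1, h1, h2]
        subst hq
        interval_cases n <;> norm_num at h1
        · have hf5 : f = 5 := by omega
          subst hf5
          have h2 := Cfsg.Agent.S0280.result hF 3 (by norm_num)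
          rw [← Nat.card_congr e.toEquiv, ← mul_assoc] at h2
          have h3 := hcl (d := 5) (by norm_num) h2
          rw [Finset.prod_range_succ, Finset.prod_range_succ, Finset.prod_range_succ, Finset.prod_range_zero] at h3
          norm_num at h3
        · omega
        · omega
        · have hf1' : f = 1 := by omega
          subst hf1'
          exact no_U6 (by rw [hF, pow_one]) (by rw [pow_one] at e; exact e) h
      · rw [h15] at h1
        have hm3 : m ≤ 3 := by
          by_contra hm4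
          push Not at hm4
          nlinarith only [hf1, h1, hm4]
        interval_cases m <;> omega
      · rw [h15] at h1
        have hm4 : m ≤ 4 := by
          by_contra hm5
          push Not at hm5
          have h2 : 5 * 4 ≤ m * (m - 1) := Nat.mul_le_mul hm5 (by omega)
          nlinarith only [hf1, h1, h2]
        have : m = 4 := by omega
        subst this
        omega
      · rw [h15] at h1
        omega
    · have h2 : Lie.IsoSuzuki K ∨ Lie.Iso2F4 K := by
        rcases hK with h1 | h1 | h1 | h1 | h1 | h1 | h1 | h1 | ⟨-, h1⟩ | ⟨-, h1⟩ | ⟨h1, -⟩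
        · exact absurd (Or.inl h1) hf
        · exact absurd (Or.inr (Or.inl h1)) hf
        · exact absurd (Or.inr (Or.inr (Or.inl h1))) hf
        · exact absurd (Or.inr (Or.inr (Or.inr (Or.inl h1)))) hf
        · exact absurd (Or.inr (Or.inr (Or.inr (Or.inr (Or.inl h1))))) hf
        · exact absurd (Or.inr (Or.inr (Or.inr (Or.inr (Or.inr (Or.inl h1)))))) hf
        · exact absurd (Or.inr (Or.inr (Or.inr (Or.inr (Or.inr (Or.inr (Or.inl h1))))))) hf
        · exact absurd (Or.inr (Or.inr (Or.inr (Or.inr (Or.inr (Or.inr (Or.inr h1))))))) hf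
        · exact Or.inl h1
        · exact Or.inr h1
        · exact absurd h1 (by norm_num)
      rcases h2 with ⟨F, _, _, m, hm, hF, ⟨e⟩⟩ | h2
      · have h3 := dvd_card h (d := 3) (by norm_num)
        rw [Nat.card_congr e.toEquiv, (Cfsg.Agent.S1163.result hm hF).1] at h3
        exact not_three_dvd_sz h3
      · obtain ⟨v, hv⟩ := exists_ne
        have h3 := dvd_centralizer h hv
        have : Fact (Nat.Prime 3) := ⟨Nat.prime_three⟩
        have : Fact (Nat.Prime 5) := ⟨Nat.prime_five⟩
        obtain ⟨a, ha⟩ := exists_prime_orderOf_dvd_card' 3 ((show 3 ∣ 23040 * 64 by norm_num).trans h3)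
        obtain ⟨b, hb⟩ := exists_prime_orderOf_dvd_card' 5 ((show 5 ∣ 23040 * 64 by norm_num).trans h3)
        rw [← Subgroup.orderOf_coe] at ha hb
        exact Cfsg.Agent.H339.TwFNo.no_three_five h2 (h.sq v) (fun h4 => hv ((h.eq_one_iff v).1 h4)) ha hb
          (mem_centralizer_singleton_iff.1 a.2) (mem_centralizer_singleton_iff.1 b.2)
  · have h1 := dvd_card h (d := 7) (by norm_num)
    rw [hK.2] at h1
    norm_num at h1

end Cfsg.Agent.H318.SpSix.Row
end

-- part: H351/SpSix/RowE6
section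
/-!
# No `Sit` in the groups of type `E6`, `²E6` in odd characteristic (helper351, for S3405)

Weights of `A = 2⁶` on the Lie algebra of dimension `78`: the `63` nonzero weights have the same multiplicity `m`, so
`m = 1` and the sum of the nonzero weight spaces is an ideal, invariant under the Chevalley group, with `A` acting
trivially on the quotient: this contradicts the simplicity of `E6(F)`.
-/

set_option autoImplicit false

namespace Cfsg.Agent.H351.SpSix.RowE6

open Cfsg Cfsg.Lie Matrix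
open Cfsg.Agent.ChevalleyStructure Cfsg.Agent.ChevalleyStructure.LieAbs Cfsg.Agent.ChevalleyStructure.JacMain
  Cfsg.Agent.ChevalleyStructure.JacBridge Cfsg.Agent.ChevalleyStructure.JacTab Cfsg.Agent.ChevalleyStructure.LieAut
open Cfsg.Agent.H336.SpSix

theorem anti_int (v w : chevE6.Idx → ℤ) : adv (adA chevE6) v *ᵥ w = - (adv (adA chevE6) w *ᵥ v) := by
  have hs := fun (r : ℕ) (hr : r < chevE6.nroots) => (Good.goodAt_of_mem chevE6 (by simp) r hr).sorted
  have B := bridge_sound chevE6 JacDataE6.Rs JacDataE6.Hs JacE6.bridge_ok hs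
  have G := good_of_bridge B JacE6.anti_ok
  rw [← AX_eq_adA B (fun r hr => (Good.goodAt_of_mem chevE6 (by simp) r hr).neg_ne) hs]
  exact G.adv_antisymm v w

theorem anti_entry (x y z : chevE6.Idx) : adA chevE6 x z y = - adA chevE6 y z x := by
  have h := congrFun (anti_int (Pi.single x 1) (Pi.single y 1)) z
  rw [adv_single_one, adv_single_one, Pi.neg_apply, Matrix.mulVec_single_one, Matrix.mulVec_single_one,
    Matrix.col_apply, Matrix.col_apply] at h
  exact h

/-- the product is alternating -/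
theorem adv_self {F : Type*} [Field F] (h2 : (2 : F) ≠ 0) (v : chevE6.Idx → F) :
    adv (adR chevE6 F) v *ᵥ v = 0 := by
  funext z
  rw [Pi.zero_apply]
  have h1 : (adv (adR chevE6 F) v *ᵥ v) z = ∑ x, ∑ y, v x * v y * adR chevE6 F x z y := by
    unfold adv
    rw [Matrix.sum_mulVec, Finset.sum_apply]
    refine Finset.sum_congr rfl fun x _ => ?_
    rw [Matrix.smul_mulVec, Pi.smul_apply, Matrix.mulVec, dotProduct, smul_eq_mul, Finset.mul_sum]
    exact Finset.sum_congr rfl fun y _ => by ring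
  have h3 : (∑ x, ∑ y, v x * v y * adR chevE6 F x z y) = - ∑ x, ∑ y, v x * v y * adR chevE6 F x z y := by
    conv_lhs => rw [Finset.sum_comm]
    rw [← Finset.sum_neg_distrib]
    refine Finset.sum_congr rfl fun x _ => ?_
    rw [← Finset.sum_neg_distrib]
    refine Finset.sum_congr rfl fun y _ => ?_
    have h4 : adR chevE6 F y z x = - adR chevE6 F x z y := by
      rw [adR_def, adR_def, Matrix.map_apply, Matrix.map_apply, anti_entry y x z, map_neg]
    rw [h4]; ring
  rw [h1]
  have h4 : (2 : F) * ∑ x, ∑ y, v x * v y * adR chevE6 F x z y = 0 := by linear_combination h3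
  exact (mul_eq_zero.1 h4).resolve_left h2

/-- the product of the Lie algebra as a bilinear map -/
noncomputable def br (F : Type*) [Field F] : (chevE6.Idx → F) →ₗ[F] (chevE6.Idx → F) →ₗ[F] (chevE6.Idx → F) :=
  LinearMap.mk₂ F (fun x y => adv (adR chevE6 F) x *ᵥ y)
    (fun x x' y => by rw [adv_add, Matrix.add_mulVec])
    (fun c x y => by rw [adv_smul, Matrix.smul_mulVec])
    (fun x y y' => Matrix.mulVec_add _ _ _)
    (fun c x y => Matrix.mulVec_smul _ _ _)

theorem br_apply {F : Type*} [Field F] (x y : chevE6.Idx → F) : br F x y = adv (adR chevE6 F) x *ᵥ y := rfl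

theorem finrank_L (F : Type*) [Field F] : Module.finrank F (chevE6.Idx → F) = 78 := by
  rw [Module.finrank_fintype_fun_eq_card]
  show Fintype.card (Fin 6 ⊕ Fin 72) = 78
  rw [Fintype.card_sum, Fintype.card_fin, Fintype.card_fin]

universe u

set_option maxRecDepth 20000 in
/-- **no `Sit` in a subgroup of `E6(F)`, `2 ≠ 0`** -/
theorem main {K : Type*} [Group K] {th : V → K} {O K0 : Subgroup K} (h : Sit th O K0) {F : Type u} [Field F]
    (h2 : (2 : F) ≠ 0) (φ : K →* GL chevE6.Idx F) (hφ : Function.Injective φ) (hr : ∀ k, φ k ∈ chevE6.group F) :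
    False := by
  obtain ⟨u, hu⟩ : ∃ u : V, u ≠ 0 := ⟨Pi.single (Sum.inl 0) 1, fun h => by
    have := congrFun h (Sum.inl 0)
    rw [Pi.single_eq_same] at this
    exact absurd this (by decide)⟩
  have hne : th u ≠ 1 := fun hh => hu ((h.eq_one_iff u).1 hh)
  have hdim := finrank_eq (ρ := rep φ) h h2 hu
  have hpos := finrank_pos (ρ := rep φ) h h2 (rep_ne_one φ hφ hne) hu
  rw [finrank_L] at hdim
  have h1 : Module.finrank F (wt (rep φ) th u) = 1 := by omega
  have h0 : 0 < Module.finrank F (wt (rep φ) th 0) := by omega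
  have hB : ∀ v x y, rep φ (th v) (br F x y) = br F (rep φ (th v) x) (rep φ (th v) y) := by
    intro v x y
    rw [rep_apply, rep_apply, rep_apply, br_apply, br_apply, Matrix.mulVec_mulVec, Matrix.mulVec_mulVec,
      JacAll.group_mul_adv chevE6 (by simp) F (φ (th v)) (hr _)]
  have hI : ∀ x, ∀ w ∈ LinearMap.ker (pr (rep φ) th 0), adv (adR chevE6 F) x *ᵥ w ∈ LinearMap.ker (pr (rep φ) th 0) := by
    intro x w hw
    rw [LinearMap.mem_ker] at hw ⊢
    have hid := ideal (ρ := rep φ) (W := chevE6.Idx → F) h h2 (br F) hB (fun x => by rw [br_apply, adv_self h2 x])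
      (fun u' hu' => (finrank_wt_eq (ρ := rep φ) h hu' hu).trans h1) x (w := w) hw
    rw [br_apply] at hid
    exact hid
  have hQ : ∀ w, (φ (th u) : Matrix chevE6.Idx chevE6.Idx F) *ᵥ w - w ∈ LinearMap.ker (pr (rep φ) th 0) := by
    intro w
    rw [LinearMap.mem_ker]
    have h3 := pr_zero_th (ρ := rep φ) h u w
    rw [rep_apply] at h3
    exact h3
  have htop := IdealE.eq_top IdealE.lac_E6 h2 hI (hr (th u)) (fun hh => hne (hφ (by rw [hh, map_one]))) hQ
  obtain ⟨w, hw⟩ := exists_pr_zero (ρ := rep φ) h2 h0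
  apply hw
  have : w ∈ LinearMap.ker (pr (rep φ) th 0) := by rw [htop]; exact Submodule.mem_top
  exact LinearMap.mem_ker.1 this

/-- **row `E6`** -/
theorem row_E6 {K : Type*} [Group K] {th : V → K} {O K0 : Subgroup K} (h : Sit th O K0) {F : Type u} [Field F]
    [Fintype F] (ho : Odd (Fintype.card F)) (e : K ≃* chevE6.group F) : False :=
  main h (two_ne_zero_of_odd ho) ((chevE6.group F).subtype.comp e.toMonoidHom)
    (fun _ _ hab => e.injective (Subtype.ext hab)) fun k => (e k).2

/-- **row `²E6`** -/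
theorem row_2E6 {K : Type*} [Group K] {th : V → K} {O K0 : Subgroup K} (h : Sit th O K0) {F : Type u} [Field F]
    [Fintype F] (ho : Odd (Fintype.card F)) {q : ℕ} (e : K ≃* twistedE6 F q) : False :=
  main h (two_ne_zero_of_odd ho) ((twistedE6 F q).subtype.comp e.toMonoidHom)
    (fun _ _ hab => e.injective (Subtype.ext hab)) fun k => genSubgroup_le IdealE.lac_E6.inList _ (e k).2

end Cfsg.Agent.H351.SpSix.RowE6
end

-- part: H351/SpSix/RowE8
section
/-!
# No `Sit` in `E8(q)`, `q` odd (helper351, for S3405)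

Weights of `A = 2⁶` on the Lie algebra of dimension `248`: `248 = m₀ + 63 m` and the fixed space of an involution has
dimension `m₀ + 31 m = 248 - 112` or `248 - 128`, so `32 m = 112` or `128`: contradiction.
-/

set_option autoImplicit false

namespace Cfsg.Agent.H351.SpSix.RowE8

open Cfsg Cfsg.Lie Matrix
open Cfsg.Agent.H336.SpSix

universe u

theorem finrank_L (F : Type*) [Field F] : Module.finrank F (chevE8.Idx → F) = 248 := by
  rw [Module.finrank_fintype_fun_eq_card]
  show Fintype.card (Fin 8 ⊕ Fin 240) = 248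
  rw [Fintype.card_sum, Fintype.card_fin, Fintype.card_fin]

/-- the dimension of the fixed space from the rank -/
theorem finrank_fx_rank {K : Type*} [Group K] {th : V → K} {F : Type*} [Field F] {ι : Type*} [Fintype ι]
    [DecidableEq ι] (φ : K →* GL ι F) (v : V) :
    ((φ (th v) : Matrix ι ι F) - 1).rank + Module.finrank F (fx (rep φ) th v) = Module.finrank F (ι → F) := by
  have h1 : fx (rep φ) th v = LinearMap.ker (Matrix.mulVecLin ((φ (th v) : Matrix ι ι F) - 1)) := by
    ext w
    rw [mem_fx, LinearMap.mem_ker, Matrix.mulVecLin_apply, Matrix.sub_mulVec, Matrix.one_mulVec, sub_eq_zero,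
      rep_apply]
  rw [h1]
  exact LinearMap.finrank_range_add_finrank_ker _

/-- **row `E8`** -/
theorem row_E8 {K : Type*} [Group K] {th : V → K} {O K0 : Subgroup K} (h : Sit th O K0) {F : Type u} [Field F]
    [Fintype F] (ho : Odd (Fintype.card F)) (e : K ≃* chevE8.group F) : False := by
  have h2 := two_ne_zero_of_odd ho
  let φ : K →* GL chevE8.Idx F := (chevE8.group F).subtype.comp e.toMonoidHom
  obtain ⟨u, hu⟩ : ∃ u : V, u ≠ 0 := ⟨Pi.single (Sum.inl 0) 1, fun h => by
    have := congrFun h (Sum.inl 0)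
    rw [Pi.single_eq_same] at this
    exact absurd this (by decide)⟩
  have hne : th u ≠ 1 := fun hh => hu ((h.eq_one_iff u).1 hh)
  have hdim := finrank_eq (ρ := rep φ) h h2 hu
  have hfx := finrank_fx (ρ := rep φ) h h2 hu hu
  have hrk := finrank_fx_rank (th := th) φ u
  have hr := RankE8.rank_inv ho h2 (t := e (th u)) (by rw [← map_mul, h.sq, map_one])
    (fun hh => hne (e.injective (by rw [hh, map_one])))
  have hr' : ((φ (th u) : Matrix chevE8.Idx chevE8.Idx F) - 1).rank = 112 ∨
      ((φ (th u) : Matrix chevE8.Idx chevE8.Idx F) - 1).rank = 128 := hr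
  rw [finrank_L] at hdim hrk
  rcases hr' with hr' | hr' <;> rw [hr'] at hrk <;> omega

end Cfsg.Agent.H351.SpSix.RowE8
end

-- part: H336/SpSix/All
section
/-!
# Assembly of S3405
-/

set_option autoImplicit false

namespace Cfsg.Agent.H336.SpSix.All

open Subgroup Cfsg Cfsg.Agent.H336.SpSix

universe u

/-- the row `E7` -/
def RowE7 : Prop := ∀ (K : Type u) [Group K] [Finite K] [IsSimpleGroup K] (F : Type) [Field F] [Fintype F],
  (2 : F) ≠ 0 → ∀ (_ : K ≃* Lie.chevE7.group F) (th : V → K) (O K0 : Subgroup K), Sit th O K0 → False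

theorem fi22 (hE7 : RowE7.{u}) {K : Type u} [Group K] [Finite K] [hs : IsSimpleGroup K] (hna : ¬ IsMulCommutative K)
    (hKn : IsKnownSimple' K) {th : V → K} {O K0 : Subgroup K} (h : Sit th O K0) : Spor.IsoFi22 K := by
  have hex : ∀ {F : Type} [Field F] [Finite F], (2 : F) ≠ 0 → Odd (Nat.card F) := by
    intro F _ _ h2
    by_contra hodd
    rw [Nat.not_odd_iff_even, even_iff_two_dvd] at hodd
    apply h2
    have := Fintype.ofFinite F
    have h3 : ringChar F = 2 := by
      obtain ⟨n, hp, hn⟩ := FiniteField.card F (ringChar F)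
      rw [Nat.card_eq_fintype_card, hn] at hodd
      exact ((Nat.prime_dvd_prime_iff_eq Nat.prime_two hp).1 (Nat.prime_two.dvd_of_dvd_pow hodd)).symm
    have h4 : ((2 : ℕ) : F) = 0 := by rw [← h3]; exact CharP.cast_eq_zero F _
    exact_mod_cast h4
  rcases hKn with hK | hK | hK | hK | hK | hK | hK | hK | hK | hK
  · -- prime order
    exfalso
    apply hna
    have : Fact (Nat.card K).Prime := ⟨hK⟩
    have hc : IsCyclic K := isCyclic_of_prime_card rfl
    exact ⟨⟨fun a b => hc.commGroup.mul_comm a b⟩⟩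
  · obtain ⟨n, -, ⟨e⟩⟩ := hK
    exact (H669.Sp6.row_alt (h.equiv e)).elim
  · exact (H318.SpSix.Row.row_char2 (Or.inl (ClassRow.charTwo_of_classical h (Or.inl hK))) h).elim
  · exact (H318.SpSix.Row.row_char2 (Or.inl (ClassRow.charTwo_of_classical h (Or.inr (Or.inl hK)))) h).elim
  · exact (H318.SpSix.Row.row_char2 (Or.inl (ClassRow.charTwo_of_classical h (Or.inr (Or.inr (Or.inl hK))))) h).elim
  · exact (H318.SpSix.Row.row_char2 (Or.inl (ClassRow.charTwo_of_classical h (Or.inr (Or.inr (Or.inr (Or.inl hK)))))) h).elim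
  · exact (H318.SpSix.Row.row_char2 (Or.inl (ClassRow.charTwo_of_classical h
      (Or.inr (Or.inr (Or.inr (Or.inr (Or.inl hK))))))) h).elim
  · exact (H318.SpSix.Row.row_char2 (Or.inl (ClassRow.charTwo_of_classical h
      (Or.inr (Or.inr (Or.inr (Or.inr (Or.inr hK))))))) h).elim
  · by_cases h2 : IsLieTypeChar 2 K
    · exact (H318.SpSix.Row.row_char2 (Or.inl h2) h).elim
    have hchev : ∀ {F : Type} [Field F] [Fintype F], ((2 : F) = 0 → IsExceptionalChevChar 2 K) → (2 : F) ≠ 0 := by
      intro F _ _ h3 h4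
      apply h2
      exact Or.inr (Or.inr (Or.inr (Or.inr (Or.inr (Or.inr (Or.inl (h3 h4)))))))
    have htw : ∀ {F : Type} [Field F] [Fintype F], ((2 : F) = 0 → IsTwistedE6D4Char 2 K) → (2 : F) ≠ 0 := by
      intro F _ _ h3 h4
      apply h2
      exact Or.inr (Or.inr (Or.inr (Or.inr (Or.inr (Or.inr (Or.inr (Or.inl (h3 h4))))))))
    rcases hK with hK | hK | hK | hK | hK | hK | hK | hK | hK | hK | hK
    · exact (H669.Sp6.row_excA (Or.inl hK) h2 h).elim
    · exact (H669.Sp6.row_excA (Or.inr (Or.inl hK)) h2 h).elim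
    · obtain ⟨F, _, _, ⟨e⟩⟩ := hK
      have h3 : (2 : F) ≠ 0 := hchev fun h0 =>
        ⟨F, inferInstance, inferInstance, CharTwo.of_one_ne_zero_of_two_eq_zero one_ne_zero h0,
          Or.inr (Or.inr (Or.inl ⟨e⟩))⟩
      have ho := hex h3
      rw [Nat.card_eq_fintype_card] at ho
      exact (H351.SpSix.RowE6.row_E6 h ho e).elim
    · obtain ⟨F, _, _, ⟨e⟩⟩ := hK
      have h3 : (2 : F) ≠ 0 := hchev fun h0 =>
        ⟨F, inferInstance, inferInstance, CharTwo.of_one_ne_zero_of_two_eq_zero one_ne_zero h0,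
          Or.inr (Or.inr (Or.inr (Or.inl ⟨e⟩)))⟩
      exact (hE7 K F h3 e th O K0 h).elim
    · obtain ⟨F, _, _, ⟨e⟩⟩ := hK
      have h3 : (2 : F) ≠ 0 := hchev fun h0 =>
        ⟨F, inferInstance, inferInstance, CharTwo.of_one_ne_zero_of_two_eq_zero one_ne_zero h0,
          Or.inr (Or.inr (Or.inr (Or.inr ⟨e⟩)))⟩
      have ho := hex h3
      rw [Nat.card_eq_fintype_card] at ho
      exact (H351.SpSix.RowE8.row_E8 h ho e).elim
    · obtain ⟨F, _, _, q, hq, hF, ⟨e⟩⟩ := hK
      have h3 : (2 : F) ≠ 0 := htw fun h0 =>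
        ⟨F, inferInstance, inferInstance, CharTwo.of_one_ne_zero_of_two_eq_zero one_ne_zero h0, q, hq,
          Or.inl ⟨hF, ⟨e⟩⟩⟩
      have ho := hex h3
      rw [Nat.card_eq_fintype_card] at ho
      exact (H351.SpSix.RowE6.row_2E6 h ho e).elim
    · exact (H669.Sp6.row_excA (Or.inr (Or.inr (Or.inl hK))) h2 h).elim
    · exact absurd (Or.inr (Or.inr (Or.inr (Or.inr (Or.inr (Or.inr (Or.inr (Or.inr (Or.inl ⟨rfl, hK⟩))))))))) h2
    · exact (H669.Sp6.row_excA (Or.inr (Or.inr (Or.inr hK))) h2 h).elim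
    · exact absurd (Or.inr (Or.inr (Or.inr (Or.inr (Or.inr (Or.inr (Or.inr (Or.inr (Or.inr (Or.inl ⟨rfl, hK⟩)))))))))) h2
    · have hc := BiChar.Small.card_of_isoTits hK
      have h3 := h.card_dvd
      rw [hc] at h3
      exact absurd h3 (by norm_num)
  · rcases H265.SpSix.row_sporA hK h with h1 | h1 | h1 | h1
    · exact h1
    · exact (H848.SpSixRows.row_fi24 h1 h).elim
    · exact (H848.SpSixRows.row_b h1 h).elim
    · exact (H848.SpSixRows.row_m h1 h).elim

theorem main (hcl : ∀ (K : Type u) [Group K] [Finite K] [IsSimpleGroup K], IsKnownSimple' K) (hE7 : RowE7.{u}) {G : Type u} [Group G] [Finite G] (hO : oddCore G = ⊥) {th : V → G}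
    {O K0 : Subgroup G} (h : Sit th O K0) : Spor.IsoFi22 G ∨ h.A.Normal := by
  rcases h.reduce hO with h1 | ⟨K, hKn, hKs, hKc, hC, hK, hS⟩
  · exact Or.inr h1
  · left
    have h2 := fi22 hE7 hKc (hcl K) hS
    have h3 := H834.SpEnd.eq_top h K hC hK h2
    subst h3
    obtain ⟨e⟩ := h2
    exact ⟨Subgroup.topEquiv.symm.trans e⟩

end Cfsg.Agent.H336.SpSix.All
end

private theorem dce_a221c1f6be32 : _root_.True := by
  try have : _root_.True := by simp only [_root_.Cfsg.Agent.H669.Sp6.pr.eq_1]
  exact _root_.True.intro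
end
end
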